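import Cfsg.Agent.Lib.Classical.TensorUnitary.Herm
import Cfsg.Agent.Lib.Classical.TensorOrth.Stab

set_option autoImplicit false
set_option linter.unusedSectionVars false

/-!
Groups between the stabiliser of a product of two Hermitian spaces and the special unitary group: the
setting, adjoints and the elements fixing a subspace `F^α ⊗ w` and its orthogonal modulo it.
-/

namespace CfsgLib.Classical.TensorUnitary

open Matrix CfsgLib.Classical.TensorMax
open CfsgLib.Classical.TensorSymp (kr_mul_apply kc_mul_apply eq_of_mul_kc_all)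
open CfsgLib.ClassicalAut (Unitary.Conj)
open scoped MatrixGroups Kronecker

variable {F : Type*} [Field F] [Finite F] {q : ℕ} (K : Unitary.Conj F q)
variable {α β : Type} [Fintype α] [DecidableEq α] [Fintype β] [DecidableEq β]

/-- The setting. -/
structure Hyp (JA : Matrix α α F) (JB : Matrix β β F) (M : Subgroup (GL (α × β) F)) : Prop where
  hA : IsHerm K JA
  hB : IsHerm K JB
  two_le : 2 ≤ Fintype.card α
  three : 3 ≤ Fintype.card β
  le : ∀ g ∈ M, Iso K (JA ⊗ₖ JB) g.1 ∧ g.1.det = 1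
  tens : ∀ g : GL (α × β) F, Iso K (JA ⊗ₖ JB) g.1 → g.1.det = 1 → Tens g.1 → g ∈ M

/-- A central element. -/
def Zm (JB : Matrix β β F) (w : β → F) (C : Matrix α α F) : Matrix (α × β) (α × β) F :=
  kc α w * C * kr α (ph K JB w)

/-- The central elements in `M` are scalar. -/
def Small (JB : Matrix β β F) (M : Subgroup (GL (α × β) F)) : Prop :=
  ∀ w : β → F, ph K JB w ⬝ᵥ w = 0 → w ≠ 0 → ∀ C : Matrix α α F, InM M (1 + Zm K JB w C) → ∃ c : F, C = c • 1

/-- An isometry trivial on `F^α ⊗ w` and on the orthogonal modulo it. -/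
def Rad (JA : Matrix α α F) (JB : Matrix β β F) (w : β → F) (h : GL (α × β) F) : Prop :=
  Iso K (JA ⊗ₖ JB) h.1 ∧ h.1 * kc α w = kc α w ∧
    ∀ Y : Matrix (α × β) α F, kr α (ph K JB w) * Y = 0 → ∃ E : Matrix α α F, h.1 * Y = Y + kc α w * E

theorem cj_kc (y : β → F) : cj K (kc α y) = kr α (fun k => K.bar (y k)) := by
  ext i ⟨j, k⟩
  rw [cj_apply, kc_apply, kr_apply]
  split_ifs with h1 h2 h2 <;> first | rfl | exact map_zero _ | exact absurd h1.symm h2 | exact absurd h2.symm h1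

theorem cj_kc_form (y : β → F) (JA : Matrix α α F) (JB : Matrix β β F) :
    cj K (kc α y : Matrix (α × β) α F) * (JA ⊗ₖ JB) = JA * kr α (ph K JB y) := by
  rw [cj_kc, kr_mul_kron]; rfl

theorem kr_kc_mul {γ : Type} (φ a : β → F) (X : Matrix α γ F) : kr α φ * (kc α a * X) = (φ ⬝ᵥ a) • X := by
  rw [← Matrix.mul_assoc, kr_mul_kc, Matrix.smul_mul, Matrix.one_mul]

theorem kc_zero : (kc α (0 : β → F)) = 0 := by
  rw [← zero_smul F (0 : β → F), kc_smul, zero_smul]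

theorem zm_mul_kc (JB : Matrix β β F) (w y : β → F) (C : Matrix α α F) :
    Zm K JB w C * kc α y = (ph K JB w ⬝ᵥ y) • (kc α w * C) := by
  simp only [Zm, Matrix.mul_assoc, kr_mul_kc, Matrix.mul_smul, Matrix.mul_one]

theorem zm_add (JB : Matrix β β F) (w : β → F) (C C' : Matrix α α F) :
    (Zm K JB w (C + C') : Matrix (α × β) (α × β) F) = Zm K JB w C + Zm K JB w C' := by
  simp only [Zm, Matrix.mul_add, Matrix.add_mul]

theorem zm_smul (JB : Matrix β β F) (c : F) (w : β → F) (C : Matrix α α F) :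
    (Zm K JB w (c • C) : Matrix (α × β) (α × β) F) = c • Zm K JB w C := by
  simp only [Zm, Matrix.mul_smul, Matrix.smul_mul]

theorem zm_smul_vec (JB : Matrix β β F) (c : F) (w : β → F) (C : Matrix α α F) :
    (Zm K JB (c • w) C : Matrix (α × β) (α × β) F) = Zm K JB w ((c * K.bar c) • C) := by
  simp only [Zm, ph_smul, kc_smul, kr_smul, Matrix.mul_smul, Matrix.smul_mul, smul_smul]
  rw [mul_comm]

theorem zm_mul (JB : Matrix β β F) {w : β → F} (hw : ph K JB w ⬝ᵥ w = 0) (C C' : Matrix α α F) :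
    (Zm K JB w C * Zm K JB w C' : Matrix (α × β) (α × β) F) = 0 := by
  simp only [Zm, Matrix.mul_assoc, kr_kc_mul, hw, zero_smul, Matrix.mul_zero]

theorem zm_kron (JB : Matrix β β F) (w : β → F) (C : Matrix α α F) :
    (Zm K JB w C : Matrix (α × β) (α × β) F) = C ⊗ₖ Matrix.vecMulVec w (ph K JB w) := by
  rw [Zm, kc_mul_mul_kr]

variable {K} {JA : Matrix α α F} {JB : Matrix β β F} {M : Subgroup (GL (α × β) F)}

namespace Hyp

variable (H : Hyp K JA JB M)
include H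

theorem nonempty_left : Nonempty α := Fintype.card_pos_iff.1 (by have := H.two_le; omega)

theorem nonempty_right : Nonempty β := Fintype.card_pos_iff.1 (by have := H.three; omega)

theorem hAB : IsHerm K (JA ⊗ₖ JB) where
  herm := by rw [cj_kron, H.hA.herm, H.hB.herm]
  det_ne := by
    rw [Matrix.det_kronecker]
    exact mul_ne_zero (pow_ne_zero _ H.hA.det_ne) (pow_ne_zero _ H.hB.det_ne)

theorem isoM {g : GL (α × β) F} (hg : g ∈ M) : Iso K (JA ⊗ₖ JB) g.1 := (H.le g hg).1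

theorem form_inv {g : GL (α × β) F} (hg : Iso K (JA ⊗ₖ JB) g.1) :
    (JA ⊗ₖ JB) * (g⁻¹).1 = cj K g.1 * (JA ⊗ₖ JB) := by
  conv_lhs => rw [← hg]
  rw [Matrix.mul_assoc _ g.1, g.mul_inv, Matrix.mul_one]

theorem iso_inv {g : GL (α × β) F} (hg : Iso K (JA ⊗ₖ JB) g.1) : Iso K (JA ⊗ₖ JB) (g⁻¹).1 := by
  show cj K (g⁻¹).1 * (JA ⊗ₖ JB) * (g⁻¹).1 = _
  rw [Matrix.mul_assoc, H.form_inv hg, ← Matrix.mul_assoc, ← cj_mul, g.mul_inv, cj_one, Matrix.one_mul]

/-- The adjoint rule. -/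
theorem adjoint {g : GL (α × β) F} (hg : Iso K (JA ⊗ₖ JB) g.1) {y y' w : β → F} {E : Matrix α α F}
    (h : g.1 * kc α y = kc α y' + kc α w * E) :
    kr α (ph K JB y) * (g⁻¹).1 = kr α (ph K JB y') + adj K JA E * kr α (ph K JB w) := by
  have e : JA * (kr α (ph K JB y) * (g⁻¹).1) =
      JA * kr α (ph K JB y') + cj K E * (JA * kr α (ph K JB w)) := by
    rw [← Matrix.mul_assoc, ← cj_kc_form, Matrix.mul_assoc, H.form_inv hg, ← Matrix.mul_assoc, ← cj_mul, h,
      cj_add, Matrix.add_mul, cj_kc_form, cj_mul, Matrix.mul_assoc, cj_kc_form]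
  have e2 := congrArg (fun X => JA⁻¹ * X) e
  simp only [Matrix.mul_add, ← Matrix.mul_assoc, Matrix.nonsing_inv_mul JA H.hA.isUnit, Matrix.one_mul] at e2
  rw [e2, adj]

theorem adjoint_line {g : GL (α × β) F} (hg : Iso K (JA ⊗ₖ JB) g.1) {y w : β → F} {E : Matrix α α F}
    (h : g.1 * kc α y = kc α w * E) : kr α (ph K JB y) * (g⁻¹).1 = adj K JA E * kr α (ph K JB w) := by
  have := H.adjoint hg (y := y) (y' := 0) (w := w) (E := E) (by rw [h, kc_zero, zero_add])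
  rwa [ph_zero, kr_zero, zero_add] at this

theorem adjoint_fix {g : GL (α × β) F} (hg : Iso K (JA ⊗ₖ JB) g.1) {y : β → F} (h : g.1 * kc α y = kc α y) :
    kr α (ph K JB y) * g.1 = kr α (ph K JB y) := by
  have h1 := H.adjoint_line hg (y := y) (w := y) (E := 1) (by rw [h, Matrix.mul_one])
  rw [H.hA.adj_one, Matrix.one_mul] at h1
  conv_lhs => rw [← h1]
  rw [Matrix.mul_assoc, g.inv_mul, Matrix.mul_one]

theorem inM_iso {X : Matrix (α × β) (α × β) F} (h : Iso K (JA ⊗ₖ JB) X) (hd : X.det = 1) (ht : Tens X) :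
    InM M X :=
  ⟨Matrix.GeneralLinearGroup.mkOfDetNeZero X (by rw [hd]; exact one_ne_zero), H.tens _ h hd ht, rfl⟩

theorem iso_kron {S : Matrix α α F} {T : Matrix β β F} (hS : Iso K JA S) (hT : Iso K JB T) :
    Iso K (JA ⊗ₖ JB) (S ⊗ₖ T) := by
  show cj K (S ⊗ₖ T) * (JA ⊗ₖ JB) * (S ⊗ₖ T) = _
  rw [cj_kron, ← Matrix.mul_kronecker_mul, ← Matrix.mul_kronecker_mul, hS, hT]

theorem inM_kron {S : Matrix α α F} {T : Matrix β β F} (hS : Iso K JA S) (hT : Iso K JB T) (dS : S.det = 1)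
    (dT : T.det = 1) : InM M (S ⊗ₖ T) :=
  H.inM_iso (H.iso_kron hS hT) (by rw [Matrix.det_kronecker, dS, dT, one_pow, one_pow, mul_one]) ⟨S, T, rfl⟩

theorem inM_left {S : Matrix α α F} (hS : Iso K JA S) (dS : S.det = 1) : InM M (S ⊗ₖ (1 : Matrix β β F)) :=
  H.inM_kron hS H.hB.iso_one dS Matrix.det_one

theorem inM_right {T : Matrix β β F} (hT : Iso K JB T) (dT : T.det = 1) :
    InM M ((1 : Matrix α α F) ⊗ₖ T) :=
  H.inM_kron H.hA.iso_one hT Matrix.det_one dT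

/-- A block with all contractions orthogonal to `w` zero lies over `w`. -/
theorem split_kc {w θ : β → F} (hθ : θ ⬝ᵥ w = 1) {X : Matrix (α × β) α F}
    (h : ∀ a : β → F, ph K JB w ⬝ᵥ a = 0 → kr α (ph K JB a) * X = 0) : X = kc α w * (kr α θ * X) := by
  ext ⟨i, k⟩ j
  set φ : β → F := Pi.single k 1 - w k • θ with hφ
  obtain ⟨a, ha⟩ := H.hB.surj φ
  have h0 := h a (by
    rw [H.hB.swap a w, ha, hφ, sub_dotProduct, smul_dotProduct, hθ, single_dotProduct, one_mul, smul_eq_mul, mul_one,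
      sub_self, map_zero])
  rw [ha, hφ, kr_sub, kr_smul, Matrix.sub_mul, Matrix.smul_mul, sub_eq_zero] at h0
  have h1 := congrFun₂ h0 i j
  rw [kr_mul_apply, single_dotProduct, one_mul, Matrix.smul_apply, smul_eq_mul] at h1
  rw [h1, kc_mul_apply]

theorem rad_mk {w z : β → F} (hz : ph K JB w ⬝ᵥ z = 1) {h : GL (α × β) F} (hh : Iso K (JA ⊗ₖ JB) h.1)
    (hfix : h.1 * kc α w = kc α w)
    (hlev : ∀ y, ph K JB w ⬝ᵥ y = 0 → ∃ E : Matrix α α F, h.1 * kc α y = kc α y + kc α w * E) :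
    Rad K JA JB w h := by
  refine ⟨hh, hfix, fun Y hY => ?_⟩
  choose E hE using fun k => hlev (Pi.single k 1 - ph K JB w k • z) (by
    rw [dotProduct_sub, dotProduct_smul, hz, dotProduct_single, mul_one, smul_eq_mul, mul_one, sub_self])
  let R : β → Matrix α α F := fun k => kr α (Pi.single k (1 : F) : β → F) * Y
  have hdec : Y = ∑ k, kc α (Pi.single k 1 - ph K JB w k • z) * R k := by
    ext ⟨i, l⟩ j
    have h0 := congrFun₂ hY i j
    rw [kr_mul_apply, Matrix.zero_apply, dotProduct] at h0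
    rw [Matrix.sum_apply]
    simp only [kc_mul_apply, R, kr_mul_apply, single_dotProduct, one_mul, Pi.sub_apply, Pi.smul_apply, smul_eq_mul,
      sub_mul, Finset.sum_sub_distrib]
    have e : ∑ k, ph K JB w k * z l * Y (i, k) j = z l * ∑ k, ph K JB w k * Y (i, k) j := by
      rw [Finset.mul_sum]
      exact Finset.sum_congr rfl fun k _ => by ring
    rw [e, h0, mul_zero, sub_zero, Finset.sum_eq_single l]
    · simp
    · intro k _ hk; simp [Pi.single_eq_of_ne (Ne.symm hk)]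
    · simp
  refine ⟨∑ k, E k * R k, ?_⟩
  conv_lhs => rw [hdec, Matrix.mul_sum]
  rw [Matrix.mul_sum]
  conv_rhs => rw [hdec, ← Finset.sum_add_distrib]
  refine Finset.sum_congr rfl fun k _ => ?_
  rw [← Matrix.mul_assoc, hE, Matrix.add_mul, Matrix.mul_assoc]

theorem rad_det {w : β → F} {h : GL (α × β) F} (hh : Rad K JA JB w h) : h.1.det = 1 := by
  rw [show h.1 = 1 + (h.1 - 1) by abel]
  refine det_one_add_of_cube (eq_of_mul_kc_all fun y => ?_)
  have h0 : ∀ X : Matrix (α × β) α F, kr α (ph K JB w) * ((h.1 - 1) * X) = 0 := fun X => by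
    rw [← Matrix.mul_assoc, Matrix.mul_sub, H.adjoint_fix hh.1 hh.2.1, Matrix.mul_one, sub_self, Matrix.zero_mul]
  obtain ⟨E, hE⟩ := hh.2.2 _ (h0 (kc α y))
  rw [Matrix.mul_assoc, Matrix.mul_assoc, Matrix.zero_mul,
    Matrix.sub_mul h.1 1 ((h.1 - 1) * kc α y), hE, Matrix.one_mul, add_sub_cancel_left, ← Matrix.mul_assoc,
    Matrix.sub_mul, hh.2.1, Matrix.one_mul, sub_self, Matrix.zero_mul]

theorem rad_conj {w : β → F} (hw0 : w ≠ 0) {g h : GL (α × β) F} (hh : Rad K JA JB w h)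
    (hg : Iso K (JA ⊗ₖ JB) g.1) {A A' : Matrix α α F} (hA : g.1 * kc α w = kc α w * A)
    (hA' : (g⁻¹).1 * kc α w = kc α w * A') :
    Rad K JA JB w (g * h * g⁻¹) := by
  have hAA : A * A' = 1 := by
    have e : g.1 * ((g⁻¹).1 * kc α w) = kc α w := by rw [← Matrix.mul_assoc, g.mul_inv, Matrix.one_mul]
    rw [hA', ← Matrix.mul_assoc, hA, Matrix.mul_assoc] at e
    exact kc_cancel hw0 (by rw [e, Matrix.mul_one])
  refine ⟨?_, ?_, fun Y hY => ?_⟩
  · rw [Units.val_mul, Units.val_mul]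
    exact H.hAB.iso_mul (H.hAB.iso_mul hg hh.1) (H.iso_inv hg)
  · rw [Units.val_mul, Units.val_mul, Matrix.mul_assoc, hA', Matrix.mul_assoc, ← Matrix.mul_assoc h.1, hh.2.1,
      ← Matrix.mul_assoc, hA, Matrix.mul_assoc, hAA, Matrix.mul_one]
  · obtain ⟨E, hE⟩ := hh.2.2 ((g⁻¹).1 * Y) (by
      rw [← Matrix.mul_assoc, H.adjoint_line hg hA, Matrix.mul_assoc, hY, Matrix.mul_zero])
    refine ⟨A * E, ?_⟩
    rw [Units.val_mul, Units.val_mul, Matrix.mul_assoc, Matrix.mul_assoc, hE, Matrix.mul_add, ← Matrix.mul_assoc,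
      g.mul_inv, Matrix.one_mul, ← Matrix.mul_assoc, hA, Matrix.mul_assoc]

theorem rad_mul_apply {w : β → F} {g h : GL (α × β) F} (hg : Rad K JA JB w g) {Y : Matrix (α × β) α F}
    {E E' : Matrix α α F} (h1 : g.1 * Y = Y + kc α w * E) (h2 : h.1 * Y = Y + kc α w * E') :
    (g * h).1 * Y = Y + kc α w * (E + E') := by
  rw [Units.val_mul, Matrix.mul_assoc, h2, Matrix.mul_add, h1, ← Matrix.mul_assoc g.1, hg.2.1, Matrix.mul_add]
  abel

/-- An element with zero levels is central. -/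
theorem rad_zero {w : β → F} (hw : ph K JB w ⬝ᵥ w = 0) (hw0 : w ≠ 0) {h : GL (α × β) F}
    (hh : Iso K (JA ⊗ₖ JB) h.1) (hlev : ∀ y, ph K JB w ⬝ᵥ y = 0 → h.1 * kc α y = kc α y) :
    ∃ C : Matrix α α F, h.1 = 1 + Zm K JB w C := by
  obtain ⟨z, wz, -, -⟩ := H.hB.exists_dual hw hw0
  obtain ⟨θ, hθ⟩ := exists_dual_one hw0
  have hker : ∀ a, ph K JB w ⬝ᵥ a = 0 → kr α (ph K JB a) * (h.1 * kc α z - kc α z) = 0 := fun a ha => by
    rw [Matrix.mul_sub, ← Matrix.mul_assoc, H.adjoint_fix hh (hlev a ha), sub_self]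
  refine ⟨kr α θ * (h.1 * kc α z - kc α z), eq_of_mul_kc_all fun y => ?_⟩
  obtain ⟨y0, hy0⟩ : ∃ y0, y0 = y - (ph K JB w ⬝ᵥ y) • z := ⟨_, rfl⟩
  have hy : kc α y = kc α y0 + (ph K JB w ⬝ᵥ y) • kc α z := by rw [← kc_smul, ← kc_add, hy0, sub_add_cancel]
  have h0 : ph K JB w ⬝ᵥ y0 = 0 := by
    rw [hy0, dotProduct_sub, dotProduct_smul, wz, smul_eq_mul, mul_one, sub_self]
  rw [Matrix.add_mul, Matrix.one_mul, zm_mul_kc]
  conv_lhs => rw [hy, Matrix.mul_add, Matrix.mul_smul, hlev y0 h0]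
  rw [← H.split_kc hθ hker, hy, smul_sub]
  abel

/-- The value at a point of a central element is skew. -/
theorem zm_adj {w : β → F} (hw : ph K JB w ⬝ᵥ w = 0) (hw0 : w ≠ 0) {C : Matrix α α F}
    (h : InM M (1 + Zm K JB w C)) : adj K JA C = -C := by
  obtain ⟨x, hx, hx'⟩ := h
  obtain ⟨z, wz, zw, -⟩ := H.hB.exists_dual hw hw0
  have h1 := H.adjoint (H.isoM hx) (y := z) (y' := z) (w := w) (E := C)
    (by rw [hx', Matrix.add_mul, Matrix.one_mul, zm_mul_kc, wz, one_smul])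
  have hi : (x⁻¹).1 = 1 - Zm K JB w C := by
    refine (left_inv_eq_right_inv (a := x.1) x.inv_mul ?_)
    rw [hx', Matrix.mul_sub, Matrix.mul_one, Matrix.add_mul, Matrix.one_mul, zm_mul K JB hw]
    abel
  rw [hi, Matrix.mul_sub, Matrix.mul_one, Zm, Matrix.mul_assoc (kc α w), kr_kc_mul, zw, one_smul,
    sub_eq_add_neg] at h1
  refine kr_cancel (H.hB.ph_ne hw0) ?_
  rw [← add_left_cancel h1, Matrix.neg_mul]

/-- Conjugation of a central element. -/
theorem inM_zm_conj {S : Matrix α α F} {T : Matrix β β F} (hS : Iso K JA S) (hT : Iso K JB T) (dS : S.det = 1)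
    (dT : T.det = 1) {w : β → F} {C : Matrix α α F} (h : InM M (1 + Zm K JB w C)) :
    InM M (1 + Zm K JB (T *ᵥ w) (S * C * S⁻¹)) := by
  obtain ⟨n, hn, hn'⟩ := H.inM_kron hS hT dS dT
  obtain ⟨x, hx, hx'⟩ := h
  refine ⟨n * x * n⁻¹, M.mul_mem (M.mul_mem hn hx) (M.inv_mem hn), ?_⟩
  have hi : (n⁻¹).1 = S⁻¹ ⊗ₖ T⁻¹ := by
    refine (left_inv_eq_right_inv (a := n.1) n.inv_mul ?_)
    rw [hn', ← Matrix.mul_kronecker_mul, Matrix.mul_nonsing_inv S (H.hA.det_iso hS),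
      Matrix.mul_nonsing_inv T (H.hB.det_iso hT), Matrix.one_kronecker_one]
  rw [Units.val_mul, Units.val_mul, hx', Matrix.mul_add, Matrix.mul_one, Matrix.add_mul, n.mul_inv, hn', hi]
  congr 1
  simp only [Zm, ← Matrix.mul_assoc, kron_mul_kc]
  simp only [Matrix.mul_assoc, kr_mul_kron, H.hB.vecMul_inv hT]

/-- The translation elements. -/
theorem inM_trl {w p : β → F} (hw : ph K JB w ⬝ᵥ w = 0) (hp : ph K JB w ⬝ᵥ p = 0) {k : F}
    (hk : k + K.bar k = -(ph K JB p ⬝ᵥ p)) :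
    ∃ t ∈ M, (∃ T : Matrix β β F, t.1 = (1 : Matrix α α F) ⊗ₖ T) ∧
      t.1 = 1 + kc α p * kr α (ph K JB w) - kc α w * kr α (ph K JB p) +
        k • (kc α w * kr α (ph K JB w)) := by
  obtain ⟨t, ht, ht'⟩ := H.inM_right (H.hB.iso_trl hw hp hk) (H.hB.det_trl hw hp k)
  refine ⟨t, ht, ⟨_, ht'⟩, ?_⟩
  rw [ht', trl]
  simp only [Matrix.kronecker_add, TensorOrth.kron_sub, Matrix.kronecker_smul, Matrix.one_kronecker_one,
    kc_mul_kr]

end Hyp

end CfsgLib.Classical.TensorUnitary
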