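import Cfsg.Agent.Lib.Classical.TensorUnitary.Pairs
import Cfsg.Agent.Lib.Classical.TensorSymp.Gen
import Cfsg.Agent.Lib.Classical.UnitaryElation

set_option autoImplicit false
set_option linter.unusedSectionVars false

/-!
A subgroup of the special unitary group containing all transvections whose centres are pure tensors is everything.
-/

namespace CfsgLib.Classical.TensorUnitary

open Matrix CfsgLib.Classical.TensorMax CfsgLib.Classical.Herm CfsgLib.Classical.Elation Cfsg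
open CfsgLib.Classical.TensorSymp (ten kron_mulVec_ten ten_dot ten_add_left ten_add_right ten_smul_left ten_smul_right
  single_eq_ten)
open CfsgLib.ClassicalAut (Unitary.Conj)
open scoped MatrixGroups Kronecker

variable {F : Type*} [Field F] [Finite F] {q : ℕ} {K : Unitary.Conj F q}
variable {α β γ : Type} [Fintype α] [DecidableEq α] [Fintype β] [DecidableEq β] [Fintype γ] [DecidableEq γ]

theorem ten_zero_left (b : β → F) : ten (0 : α → F) b = 0 := by ext p; simp [ten]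

theorem ten_sub_right (a : α → F) (b b' : β → F) : ten a (b - b') = ten a b - ten a b' := by
  ext p; simp [ten, mul_sub]

theorem sum_ten (X : α × β → F) : X = ∑ i, ten (Pi.single i 1) (fun l => X (i, l)) := by
  funext ⟨i, l⟩
  rw [Finset.sum_apply, Finset.sum_eq_single i]
  · simp [ten]
  · intro j _ hj; simp [ten, Pi.single_eq_of_ne (Ne.symm hj)]
  · simp

namespace IsHerm

variable {J : Matrix γ γ F} (hJ : IsHerm K J)
include hJ

/-- The orthogonal of a hyperbolic pair is spanned by isotropic vectors. -/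
theorem span_perp_iso (h4 : 4 ≤ Fintype.card γ) {w z : γ → F} (hw : ph K J w ⬝ᵥ w = 0) (hz : ph K J z ⬝ᵥ z = 0)
    (hwz : ph K J w ⬝ᵥ z = 1) {y : γ → F} (yw : ph K J w ⬝ᵥ y = 0) (yz : ph K J z ⬝ᵥ y = 0) :
    y ∈ Submodule.span F {x | ph K J x ⬝ᵥ x = 0 ∧ ph K J w ⬝ᵥ x = 0 ∧ ph K J z ⬝ᵥ x = 0} := by
  by_cases hy : ph K J y ⬝ᵥ y = 0
  · exact Submodule.subset_span ⟨hy, yw, yz⟩
  have zw : ph K J z ⬝ᵥ w = 1 := by rw [hJ.swap, hwz, map_one]
  obtain ⟨x, hx0, hx, hx'⟩ := hJ.exists_iso_perp ![ph K J w, ph K J z] (by simp; omega)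
  have xw : ph K J w ⬝ᵥ x = 0 := hx' 0
  have xz : ph K J z ⬝ᵥ x = 0 := hx' 1
  by_cases xy : ph K J y ⬝ᵥ x = 0
  swap
  · -- the plane of `x` and `y` is spanned by two isotropic vectors
    obtain ⟨j, hj⟩ := hJ.exists_k y
    obtain ⟨k, hk⟩ : ∃ k, k = j / (ph K J y ⬝ᵥ x) := ⟨_, rfl⟩
    have hkc : k * (ph K J y ⬝ᵥ x) = j := by rw [hk, div_mul_cancel₀ _ xy]
    have hkc' : K.bar k * (ph K J x ⬝ᵥ y) = K.bar j := by rw [hJ.swap y x, ← map_mul, hkc]
    have hm : ph K J (y + k • x) ⬝ᵥ (y + k • x) = 0 := by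
      simp only [ph_add, ph_smul, add_dotProduct, smul_dotProduct, dotProduct_add, dotProduct_smul, smul_eq_mul, hx,
        mul_zero, add_zero]
      linear_combination hj + hkc + hkc'
    rw [show y = (y + k • x) - k • x by abel]
    exact Submodule.sub_mem _ (Submodule.subset_span ⟨hm, by rw [dotProduct_add, dotProduct_smul, yw, xw]; simp,
      by rw [dotProduct_add, dotProduct_smul, yz, xz]; simp⟩) (Submodule.smul_mem _ _ (Submodule.subset_span ⟨hx, xw, xz⟩))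
  obtain ⟨x₀, hx₀⟩ := hJ.exists_one hx0
  obtain ⟨x₁, hx₁⟩ : ∃ x₁, x₁ = x₀ - (ph K J z ⬝ᵥ x₀) • w - (ph K J w ⬝ᵥ x₀) • z -
      ((ph K J y ⬝ᵥ x₀) / (ph K J y ⬝ᵥ y)) • y := ⟨_, rfl⟩
  have e1 : ph K J w ⬝ᵥ x₁ = 0 := by simp [hx₁, dotProduct_sub, dotProduct_smul, hw, hwz, yw]
  have e2 : ph K J z ⬝ᵥ x₁ = 0 := by simp [hx₁, dotProduct_sub, dotProduct_smul, hz, zw, yz]
  have e3 : ph K J y ⬝ᵥ x₁ = 0 := by
    simp [hx₁, dotProduct_sub, dotProduct_smul, hJ.orth_comm yw, hJ.orth_comm yz, div_mul_cancel₀ _ hy]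
  have e4 : ph K J x ⬝ᵥ x₁ = 1 := by
    simp [hx₁, dotProduct_sub, dotProduct_smul, hJ.orth_comm xw, hJ.orth_comm xz, hJ.orth_comm xy, hx₀]
  have e5 : ph K J x₁ ⬝ᵥ x = 1 := by rw [hJ.swap, e4, map_one]
  obtain ⟨k, hk⟩ := hJ.exists_k x₁
  obtain ⟨x₂, hx₂⟩ : ∃ x₂, x₂ = x₁ + k • x := ⟨_, rfl⟩
  have f0 : ph K J x₂ ⬝ᵥ x₂ = 0 := by
    simp only [hx₂, ph_add, ph_smul, add_dotProduct, smul_dotProduct, dotProduct_add, dotProduct_smul, smul_eq_mul,
      hx, e4, e5]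
    linear_combination hk
  have f1 : ph K J w ⬝ᵥ x₂ = 0 := by rw [hx₂, dotProduct_add, dotProduct_smul, e1, xw, smul_zero, add_zero]
  have f2 : ph K J z ⬝ᵥ x₂ = 0 := by rw [hx₂, dotProduct_add, dotProduct_smul, e2, xz, smul_zero, add_zero]
  have f3 : ph K J y ⬝ᵥ x₂ = 0 := by rw [hx₂, dotProduct_add, dotProduct_smul, e3, xy, smul_zero, add_zero]
  have f4 : ph K J x ⬝ᵥ x₂ = 1 := by rw [hx₂, dotProduct_add, dotProduct_smul, e4, hx, smul_zero, add_zero]
  have f5 : ph K J x₂ ⬝ᵥ x = 1 := by rw [hJ.swap, f4, map_one]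
  obtain ⟨j, hj⟩ := hJ.exists_k y
  obtain ⟨v, hv⟩ : ∃ v, v = y + x₂ + j • x := ⟨_, rfl⟩
  have hvm : ph K J v ⬝ᵥ v = 0 ∧ ph K J w ⬝ᵥ v = 0 ∧ ph K J z ⬝ᵥ v = 0 := by
    refine ⟨?_, by rw [hv, dotProduct_add, dotProduct_add, dotProduct_smul, yw, f1, xw]; simp,
      by rw [hv, dotProduct_add, dotProduct_add, dotProduct_smul, yz, f2, xz]; simp⟩
    simp only [hv, ph_add, ph_smul, add_dotProduct, smul_dotProduct, dotProduct_add, dotProduct_smul, smul_eq_mul, hx,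
      xy, hJ.orth_comm xy, f0, f3, hJ.orth_comm f3, f4, f5]
    linear_combination hj
  rw [show y = v - x₂ - j • x by rw [hv]; abel]
  exact Submodule.sub_mem _ (Submodule.sub_mem _ (Submodule.subset_span hvm) (Submodule.subset_span ⟨f0, f1, f2⟩))
    (Submodule.smul_mem _ _ (Submodule.subset_span ⟨hx, xw, xz⟩))

/-- A space is spanned by an isotropic vector and the isotropic vectors not orthogonal to it. -/
theorem span_off_iso {u v : γ → F} (hu : ph K J u ⬝ᵥ u = 0) (hv : ph K J v ⬝ᵥ v = 0) (huv : ph K J u ⬝ᵥ v = 1)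
    (x : γ → F) : x ∈ Submodule.span F {a | a = u ∨ ph K J a ⬝ᵥ a = 0 ∧ ph K J u ⬝ᵥ a ≠ 0} := by
  have hvu : ph K J v ⬝ᵥ u = 1 := by rw [hJ.swap, huv, map_one]
  obtain ⟨z, hzdef⟩ : ∃ z, z = x - (ph K J v ⬝ᵥ x) • u - (ph K J u ⬝ᵥ x) • v := ⟨_, rfl⟩
  have hzu : ph K J u ⬝ᵥ z = 0 := by simp [hzdef, dotProduct_sub, dotProduct_smul, hu, huv]
  have hzv : ph K J v ⬝ᵥ z = 0 := by simp [hzdef, dotProduct_sub, dotProduct_smul, hv, hvu]
  obtain ⟨k, hk⟩ := hJ.exists_k z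
  have m1 : v + z + k • u ∈ Submodule.span F {a | a = u ∨ ph K J a ⬝ᵥ a = 0 ∧ ph K J u ⬝ᵥ a ≠ 0} := by
    refine Submodule.subset_span (Or.inr ⟨?_, ?_⟩)
    · simp only [ph_add, ph_smul, add_dotProduct, smul_dotProduct, dotProduct_add, dotProduct_smul, smul_eq_mul, hu,
        hv, hvu, huv, hzu, hzv, hJ.orth_comm hzu, hJ.orth_comm hzv]
      linear_combination hk
    · simp [dotProduct_add, dotProduct_smul, huv, hzu, hu]
  have mu : u ∈ Submodule.span F {a | a = u ∨ ph K J a ⬝ᵥ a = 0 ∧ ph K J u ⬝ᵥ a ≠ 0} :=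
    Submodule.subset_span (Or.inl rfl)
  have mv : v ∈ Submodule.span F {a | a = u ∨ ph K J a ⬝ᵥ a = 0 ∧ ph K J u ⬝ᵥ a ≠ 0} :=
    Submodule.subset_span (Or.inr ⟨hv, by rw [huv]; exact one_ne_zero⟩)
  rw [show x = (v + z + k • u) - v - k • u + (ph K J v ⬝ᵥ x) • u + (ph K J u ⬝ᵥ x) • v by rw [hzdef]; abel]
  exact Submodule.add_mem _ (Submodule.add_mem _ (Submodule.sub_mem _ (Submodule.sub_mem _ m1 mv)
    (Submodule.smul_mem _ _ mu)) (Submodule.smul_mem _ _ mu)) (Submodule.smul_mem _ _ mv)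

end IsHerm

variable {n : ℕ} {M : Subgroup (SU n F q)}

theorem line_pars {e f : Fin n → F} (he : hermForm n F q e e = 0) (hec : e ∈ centres K M)
    (hfe : hermForm n F q f e = 0) (hf : ∀ c : F, c • f ∈ centres K M)
    (hsum : ∀ c : F, e + c • f ∈ centres K M) (δ : F) : δ • f ∈ pars K M he := by
  obtain ⟨θ, hθ0, hθ⟩ := TensorUnitary.exists_skew K
  obtain ⟨g, hg⟩ : ∃ g, g = (δ / θ) • f := ⟨_, rfl⟩
  have hgc : g ∈ centres K M := hg ▸ hf _
  have hsc : e + g ∈ centres K M := hg ▸ hsum _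
  have hge : hermForm n F q g e = 0 := by rw [hg, h_smul_left K, hfe, mul_zero]
  have heg := h_eq_zero_symm K hge
  have hθs : θ + K.bar θ = 0 := by rw [hθ, add_neg_cancel]
  have hθn : -θ + K.bar (-θ) = 0 := by rw [map_neg, hθ]; ring
  obtain ⟨t₁, h₁⟩ := exists_T K hsc.1 hθs
  obtain ⟨t₂, h₂⟩ := exists_T K hec.1 hθn
  obtain ⟨t₃, h₃⟩ := exists_T K hgc.1 hθn
  refine ⟨t₁ * t₂ * t₃, mul_mem (mul_mem (hsc.2 _ _ h₁) (hec.2 _ _ h₂)) (hgc.2 _ _ h₃), 0, he, ?_, ?_, fun x => ?_⟩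
  · rw [h_smul_left K, hfe, mul_zero]
  · have hff : hermForm n F q f f = 0 := by
      have := (hf 1).1
      rwa [one_smul] at this
    rw [h_smul_left K, h_smul_right K, hff]
    simp
  · rw [app_mul, app_mul, h₃.2.2, h₂.2.2, h₁.2.2]
    have e1 : δ • f = θ • g := by rw [hg, smul_smul, mul_div_cancel₀ _ hθ0]
    rw [e1]
    simp only [h_add_left K, h_add_right K, h_smul_left K, h_smul_right K, he, hge, heg, hgc.1, hθ]
    module

theorem step_pars {e x g : Fin n → F} (he : hermForm n F q e e = 0) (hx : ∀ c : F, c • x ∈ pars K M he)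
    (hg : g ∈ centres K M) (heg : hermForm n F q e g = 0) (hxg : hermForm n F q x g ≠ 0) (δ : F) :
    δ • g ∈ pars K M he := by
  obtain ⟨θ, hθ0, hθ⟩ := TensorUnitary.exists_skew K
  obtain ⟨s, hs⟩ := exists_T K hg.1 (c := θ) (by rw [hθ, add_neg_cancel])
  have hse : app s e = e := by rw [hs.2.2, heg, mul_zero, zero_smul, add_zero]
  obtain ⟨c, hc⟩ : ∃ c, c = δ / (θ * hermForm n F q x g) := ⟨_, rfl⟩
  have h1 := (pars K M he).sub_mem (pars_stab K he (hg.2 _ _ hs) hse (hx c)) (hx c)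
  rw [hs.2.2, add_sub_cancel_left, h_smul_left K] at h1
  rwa [show θ * (c * hermForm n F q x g) = δ by rw [hc]; field_simp] at h1

variable {JA : Matrix α α F} {JB : Matrix β β F}

theorem pars_seed (hA : IsHerm K JA) (hB : IsHerm K JB) (h4 : 4 ≤ Fintype.card β)
    (Φ : (α × β → F) →ₗ[F] (Fin n → F))
    (hΦ : ∀ X Y, hermForm n F q (Φ X) (Φ Y) = ph K (JA ⊗ₖ JB) Y ⬝ᵥ X)
    (hc : ∀ u w, ph K JA u ⬝ᵥ u = 0 → ph K JB w ⬝ᵥ w = 0 → Φ (ten u w) ∈ centres K M)
    {u v : α → F} {w z : β → F} (hu : ph K JA u ⬝ᵥ u = 0) (hv : ph K JA v ⬝ᵥ v = 0) (huv : ph K JA u ⬝ᵥ v = 1)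
    (hw : ph K JB w ⬝ᵥ w = 0) (hz : ph K JB z ⬝ᵥ z = 0) (hwz : ph K JB w ⬝ᵥ z = 1)
    (he : hermForm n F q (Φ (ten u w)) (Φ (ten u w)) = 0) :
    ∀ a b, ph K JB w ⬝ᵥ b = 0 → Φ (ten a b) ∈ pars K M he := by
  have hval : ∀ a a' b b', hermForm n F q (Φ (ten a b)) (Φ (ten a' b')) =
      (ph K JA a' ⬝ᵥ a) * (ph K JB b' ⬝ᵥ b) := fun a a' b b' => by rw [hΦ, ph_ten_dot]
  have smulc : ∀ (c : F) (x : β → F), ph K JB x ⬝ᵥ x = 0 → ph K JB (c • x) ⬝ᵥ (c • x) = 0 := fun c x hx => by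
    simp only [ph_smul, smul_dotProduct, dotProduct_smul, hx, smul_zero]
  have lu : ∀ b, ph K JB b ⬝ᵥ b = 0 → ph K JB w ⬝ᵥ b = 0 → ∀ δ : F, δ • Φ (ten u b) ∈ pars K M he := by
    intro b hb hwb
    refine line_pars he (hc u w hu hw) (by rw [hval, hu, zero_mul]) (fun c => ?_) (fun c => ?_)
    · rw [← map_smul, ← ten_smul_right]
      exact hc _ _ hu (smulc c b hb)
    · rw [← map_smul, ← ten_smul_right, ← map_add, ← ten_add_right]
      refine hc _ _ hu ?_
      simp only [ph_add, ph_smul, add_dotProduct, smul_dotProduct, dotProduct_add, dotProduct_smul, smul_eq_mul, hw,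
        hb, hwb, hB.orth_comm hwb, mul_zero, add_zero]
  have la : ∀ b, ph K JB b ⬝ᵥ b = 0 → ph K JB w ⬝ᵥ b = 0 → (∀ c : F, b ≠ c • w) → ∀ a, ph K JA a ⬝ᵥ a = 0 →
      ph K JA u ⬝ᵥ a ≠ 0 → Φ (ten a b) ∈ pars K M he := by
    intro b hb hwb hbw a ha hua
    have hw0 : w ≠ 0 := fun e => by
      rw [e, ph_zero, zero_dotProduct] at hwz
      exact zero_ne_one hwz
    obtain ⟨t₁, p1, p2⟩ := exists_dual_pair (hB.ph_ne hw0) (v := ph K JB b) (fun c e => hbw (K.bar c) (by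
      refine sub_eq_zero.1 (hB.ph_eq_zero ?_)
      rw [ph_sub, ph_smul, K.bar_bar, e, sub_self])) 0 1
    rw [dotProduct_comm] at p1 p2
    obtain ⟨k, hk⟩ := hB.exists_k t₁
    have q2 : ph K JB t₁ ⬝ᵥ b = 1 := by rw [hB.swap, p2, map_one]
    obtain ⟨b₁, hb₁⟩ : ∃ b₁, b₁ = t₁ + k • b := ⟨_, rfl⟩
    have g1 : ph K JB b₁ ⬝ᵥ b₁ = 0 := by
      simp only [hb₁, ph_add, ph_smul, add_dotProduct, smul_dotProduct, dotProduct_add, dotProduct_smul, smul_eq_mul,
        hb, p2, q2]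
      linear_combination hk
    have g2 : ph K JB w ⬝ᵥ b₁ = 0 := by rw [hb₁, dotProduct_add, dotProduct_smul, p1, hwb, smul_zero, add_zero]
    have g3 : ph K JB b ⬝ᵥ b₁ = 1 := by rw [hb₁, dotProduct_add, dotProduct_smul, p2, hb, smul_zero, add_zero]
    have := step_pars he (lu b₁ g1 g2) (hc a b ha hb) (by rw [hval, hB.orth_comm hwb, mul_zero])
      (by rw [hval, g3, mul_one]; exact hA.ne_comm hua) 1
    rwa [one_smul] at this
  intro a₀ b₀ hb₀
  have key : ∀ b, ph K JB b ⬝ᵥ b = 0 → ph K JB w ⬝ᵥ b = 0 → ∀ a, Φ (ten a b) ∈ pars K M he := by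
    intro b hb hwb a
    have ha := hA.span_off_iso hu hv huv a
    have good : ∀ (c : F) a, (a = u ∨ ph K JA a ⬝ᵥ a = 0 ∧ ph K JA u ⬝ᵥ a ≠ 0) →
        c • Φ (ten a b) ∈ pars K M he := by
      rintro c a (rfl | ⟨ha, hua⟩)
      · exact lu b hb hwb c
      · by_cases hc0 : c = 0
        · rw [hc0, zero_smul]; exact zero_mem _
        have ha' : ph K JA (c • a) ⬝ᵥ (c • a) = 0 := by
          simp only [ph_smul, smul_dotProduct, dotProduct_smul, ha, smul_zero]
        have hua' : ph K JA u ⬝ᵥ (c • a) ≠ 0 := by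
          rw [dotProduct_smul]; exact mul_ne_zero hc0 hua
        rw [← map_smul, ← ten_smul_left]
        by_cases hbw : ∃ d : F, b = d • w
        swap
        · push Not at hbw
          exact la b hb hwb hbw _ ha' hua'
        obtain ⟨d, rfl⟩ := hbw
        obtain ⟨x, hx0, hx, hx'⟩ := hB.exists_iso_perp ![ph K JB w, ph K JB z] (by simp; omega)
        have xw : ph K JB w ⬝ᵥ x = 0 := hx' 0
        have xz : ph K JB z ⬝ᵥ x = 0 := hx' 1
        have zw : ph K JB z ⬝ᵥ w = 1 := by rw [hB.swap, hwz, map_one]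
        have hne : ∀ r : F, ∀ c : F, x + r • w ≠ c • w := fun r c e => by
          have e1 := congrArg (ph K JB z ⬝ᵥ ·) e
          simp only [dotProduct_add, dotProduct_smul, xz, zw, smul_eq_mul, mul_one, zero_add] at e1
          rw [e1, add_eq_right] at e
          exact hx0 e
        have i1 : ph K JB (x + d • w) ⬝ᵥ (x + d • w) = 0 := by
          simp only [ph_add, ph_smul, add_dotProduct, smul_dotProduct, dotProduct_add, dotProduct_smul, smul_eq_mul,
            hx, hw, xw, hB.orth_comm xw, mul_zero, add_zero]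
        have m1 := la (x + d • w) i1 (by rw [dotProduct_add, dotProduct_smul, xw, hw, smul_zero, add_zero]) (hne d) _
          ha' hua'
        have m2 := la x hx xw (fun c e => hne 0 c (by rw [zero_smul, add_zero, e])) _ ha' hua'
        have := (pars K M he).sub_mem m1 m2
        rwa [← map_sub, ← ten_sub_right, add_sub_cancel_left] at this
    suffices ∀ c : F, c • Φ (ten a b) ∈ pars K M he by simpa using this 1
    induction ha using Submodule.span_induction with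
    | mem a ha => exact fun c => good c a ha
    | zero => intro c; rw [ten_zero_left, map_zero, smul_zero]; exact zero_mem _
    | add a a' _ _ h h' => intro c; rw [ten_add_left, map_add, smul_add]; exact add_mem (h c) (h' c)
    | smul r a _ h => intro c; rw [ten_smul_left, map_smul, smul_smul]; exact h _
  have zw : ph K JB z ⬝ᵥ w = 1 := by rw [hB.swap, hwz, map_one]
  obtain ⟨y, hy⟩ : ∃ y, y = b₀ - (ph K JB z ⬝ᵥ b₀) • w := ⟨_, rfl⟩
  have yw : ph K JB w ⬝ᵥ y = 0 := by simp [hy, dotProduct_sub, dotProduct_smul, hb₀, hw]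
  have yz : ph K JB z ⬝ᵥ y = 0 := by simp [hy, dotProduct_sub, dotProduct_smul, zw]
  have hy' := hB.span_perp_iso h4 hw hz hwz yw yz
  have h1 : ∀ a, Φ (ten a y) ∈ pars K M he := by
    clear hy yw yz
    induction hy' using Submodule.span_induction with
    | mem b hb => exact key b hb.1 hb.2.1
    | zero => intro a; rw [show ten a (0 : β → F) = 0 by ext p; simp [ten], map_zero]; exact zero_mem _
    | add b b' _ _ h h' => intro a; rw [ten_add_right, map_add]; exact add_mem (h a) (h' a)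
    | smul r b _ h => intro a; rw [ten_smul_right, ← ten_smul_left]; exact h _
  have := add_mem (h1 a₀) (key ((ph K JB z ⬝ᵥ b₀) • w) (smulc _ _ hw)
    (by rw [dotProduct_smul, hw, smul_zero]) a₀)
  rwa [← map_add, ← ten_add_right, hy, sub_add_cancel] at this

/-- All transvections with pure centres generate, given the parameters at one of them. -/
theorem eq_top_of_seed (hA : IsHerm K JA) (hB : IsHerm K JB) (h2 : 2 ≤ Fintype.card α) (h3 : 3 ≤ Fintype.card β)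
    (hn : 4 ≤ n) (Φ : (α × β → F) →ₗ[F] (Fin n → F)) (hsurj : Function.Surjective Φ)
    (hΦ : ∀ X Y, hermForm n F q (Φ X) (Φ Y) = ph K (JA ⊗ₖ JB) Y ⬝ᵥ X)
    (hc : ∀ u w, ph K JA u ⬝ᵥ u = 0 → ph K JB w ⬝ᵥ w = 0 → Φ (ten u w) ∈ centres K M)
    (hseed : ∀ (u v : α → F) (w z : β → F), ph K JA u ⬝ᵥ u = 0 → ph K JA v ⬝ᵥ v = 0 → ph K JA u ⬝ᵥ v = 1 →
      ph K JB w ⬝ᵥ w = 0 → ph K JB z ⬝ᵥ z = 0 → ph K JB w ⬝ᵥ z = 1 →
      ∀ (he : hermForm n F q (Φ (ten u w)) (Φ (ten u w)) = 0) (a : α → F) (b : β → F),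
        ph K JB w ⬝ᵥ b = 0 → Φ (ten a b) ∈ pars K M he) : M = ⊤ := by
  classical
  have hval : ∀ a a' b b', hermForm n F q (Φ (ten a b)) (Φ (ten a' b')) =
      (ph K JA a' ⬝ᵥ a) * (ph K JB b' ⬝ᵥ b) := fun a a' b b' => by rw [hΦ, ph_ten_dot]
  obtain ⟨u, hu0, hu, -⟩ := hA.exists_iso_perp (fun i : Fin 0 => i.elim0) (by simpa using h2)
  obtain ⟨v, huv, hvu, hv⟩ := hA.exists_dual hu hu0
  obtain ⟨w, hw0, hw, -⟩ := hB.exists_iso_perp (fun i : Fin 0 => i.elim0) (by simp; omega)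
  obtain ⟨z, hwz, hzw, hz⟩ := hB.exists_dual hw hw0
  obtain ⟨e, he_def⟩ : ∃ e, e = Φ (ten u w) := ⟨_, rfl⟩
  have he : hermForm n F q (Φ (ten u w)) (Φ (ten u w)) = 0 := by rw [hval, hu, zero_mul]
  have hf : hermForm n F q (Φ (ten u z)) (Φ (ten u z)) = 0 := by rw [hval, hu, zero_mul]
  have pe := hseed u v w z hu hv huv hw hz hwz he
  have pf := hseed u v z w hu hv huv hz hw hzw hf
  have hff : ∀ δ : F, δ • Φ (ten u z) ∈ pars K M he := step_pars he
    (x := Φ (ten v w)) (fun c => by rw [← map_smul, ← ten_smul_left]; exact pe _ _ hw) (hc u z hu hz)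
    (by rw [hval, hu, zero_mul]) (by rw [hval, huv, hzw, one_mul]; exact one_ne_zero)
  have haz : ∀ a, ph K JA u ⬝ᵥ a = 0 → Φ (ten a z) ∈ pars K M he := by
    intro a ha
    obtain ⟨s, hs, t, hsg⟩ := pf a z hz
    have hse : app s (Φ (ten u w)) = Φ (ten u w) := by
      rw [Elation.app_eq K hsg, hval, hval, hu, hA.orth_comm ha]
      simp
    have h1 := (pars K M he).sub_mem (pars_stab K he hs hse (pe v w hw)) (pe v w hw)
    rw [Elation.app_eq K hsg, hval, hval, huv, hzw, one_mul, one_smul, add_sub_assoc, add_sub_assoc] at h1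
    obtain ⟨r, hr⟩ : ∃ r, r = (ph K JA a ⬝ᵥ v) * 1 := ⟨_, rfl⟩
    rw [← hr] at h1
    have h2 := (pars K M he).add_mem h1 (hff (r - t * 1))
    convert h2 using 1
    module
  refine eq_top_of_elations K he (by omega) (fun h => by omega) (hc u w hu hw).2 (fun X hX => ?_)
    (s := (exists_T K (v := Φ (ten v z)) (by rw [hval, hv, zero_mul])
      (c := (TensorUnitary.exists_skew K).choose)
      (by rw [(TensorUnitary.exists_skew K).choose_spec.2, add_neg_cancel])).choose) ?_ ?_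
  · obtain ⟨Y, rfl⟩ := hsurj X
    obtain ⟨a, ha⟩ : ∃ a, a = kr α (ph K JB w) *ᵥ Y := ⟨_, rfl⟩
    have hua : ph K JA u ⬝ᵥ a = 0 := by
      rw [hΦ] at hX
      rw [← hX, ha, sum_ten Y, Matrix.mulVec_sum, dotProduct_sum, dotProduct_sum]
      exact Finset.sum_congr rfl fun i _ => by
        rw [ph_ten_dot, kr_mulVec_ten, dotProduct_smul, smul_eq_mul, mul_comm]
    have h1 : ∀ i, Φ (ten (Pi.single i 1) ((fun l => Y (i, l)) - a i • z)) ∈ pars K M he := fun i => pe _ _ (by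
      rw [dotProduct_sub, dotProduct_smul, hwz, smul_eq_mul, mul_one, ha, kr_mulVec, sub_self])
    have e1 : Y = ∑ i, ten (Pi.single i 1) ((fun l => Y (i, l)) - a i • z) + ten a z := by
      funext ⟨i, l⟩
      rw [Pi.add_apply, Finset.sum_apply, Finset.sum_eq_single i]
      · simp [ten]
      · intro j _ hj; simp [ten, Pi.single_eq_of_ne (Ne.symm hj)]
      · simp
    rw [e1, map_add, map_sum]
    exact add_mem (sum_mem fun i _ => h1 i) (haz a hua)
  · exact (hc v z hv hz).2 _ _ (exists_T K (v := Φ (ten v z)) (by rw [hval, hv, zero_mul])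
      (c := (TensorUnitary.exists_skew K).choose)
      (by rw [(TensorUnitary.exists_skew K).choose_spec.2, add_neg_cancel])).choose_spec
  · have := (exists_T K (v := Φ (ten v z)) (by rw [hval, hv, zero_mul])
      (c := (TensorUnitary.exists_skew K).choose)
      (by rw [(TensorUnitary.exists_skew K).choose_spec.2, add_neg_cancel])).choose_spec
    rw [this.2.2, h_add_left K, he, zero_add, h_smul_left K, hval, hval, hvu, hzw, huv, hwz, one_mul, mul_one,
      mul_one]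
    exact (TensorUnitary.exists_skew K).choose_spec.1

/-- All transvections with pure centres generate. -/
theorem eq_top_of_pure (hA : IsHerm K JA) (hB : IsHerm K JB) (h2 : 2 ≤ Fintype.card α) (h4 : 4 ≤ Fintype.card β)
    (hn : 4 ≤ n) (Φ : (α × β → F) →ₗ[F] (Fin n → F)) (hsurj : Function.Surjective Φ)
    (hΦ : ∀ X Y, hermForm n F q (Φ X) (Φ Y) = ph K (JA ⊗ₖ JB) Y ⬝ᵥ X)
    (hc : ∀ u w, ph K JA u ⬝ᵥ u = 0 → ph K JB w ⬝ᵥ w = 0 → Φ (ten u w) ∈ centres K M) : M = ⊤ :=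
  eq_top_of_seed hA hB h2 (by omega) hn Φ hsurj hΦ hc fun _ _ _ _ hu hv huv hw hz hwz he =>
    pars_seed hA hB h4 Φ hΦ hc hu hv huv hw hz hwz he

end CfsgLib.Classical.TensorUnitary
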