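import Cfsg.Agent.Lib.Classical.TensorMax.Basic
import Cfsg.Agent.Lib.Classical.TensorSymp.Stab
import Cfsg.Agent.Lib.ClassicalAut.UnitarySpace

set_option autoImplicit false
set_option linter.unusedSectionVars false

/-!
Hermitian matrices over a field with `q²` elements: adjoints, transvections, translations and the moves
between isotropic vectors.
-/

namespace CfsgLib.Classical.TensorUnitary

open Matrix CfsgLib.Classical.TensorMax
open CfsgLib.Classical.TensorSymp (matrix_ext_dot)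
open CfsgLib.ClassicalAut (Unitary.Conj)
open scoped Kronecker

variable {F : Type*} [Field F] [Finite F] {q : ℕ} (K : Unitary.Conj F q)
variable {γ δ η : Type} [Fintype γ] [DecidableEq γ] [Fintype δ] [DecidableEq δ] [Fintype η] [DecidableEq η]

/-- The conjugate transpose. -/
def cj {γ δ : Type} (X : Matrix γ δ F) : Matrix δ γ F := fun j i => K.bar (X i j)

theorem cj_apply {γ δ : Type} (X : Matrix γ δ F) (j : δ) (i : γ) : cj K X j i = K.bar (X i j) := rfl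

theorem cj_cj {γ δ : Type} (X : Matrix γ δ F) : cj K (cj K X) = X := by
  ext i j; simp [cj_apply, K.bar_bar]

theorem cj_add {γ δ : Type} (X Y : Matrix γ δ F) : cj K (X + Y) = cj K X + cj K Y := by
  ext i j; simp [cj_apply]

theorem cj_sub {γ δ : Type} (X Y : Matrix γ δ F) : cj K (X - Y) = cj K X - cj K Y := by
  ext i j; simp [cj_apply]

theorem cj_smul {γ δ : Type} (c : F) (X : Matrix γ δ F) : cj K (c • X) = K.bar c • cj K X := by
  ext i j; simp [cj_apply]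

theorem cj_zero {γ δ : Type} : cj K (0 : Matrix γ δ F) = 0 := by
  ext i j; simp [cj_apply]

theorem cj_mul {γ η : Type} (X : Matrix γ δ F) (Y : Matrix δ η F) : cj K (X * Y) = cj K Y * cj K X := by
  ext i j; simp [cj_apply, Matrix.mul_apply, mul_comm]

theorem cj_one : cj K (1 : Matrix γ γ F) = 1 := by
  ext i j; simp [cj_apply, Matrix.one_apply, eq_comm, apply_ite]

theorem cj_kron (X : Matrix γ γ F) (Y : Matrix δ δ F) : cj K (X ⊗ₖ Y) = cj K X ⊗ₖ cj K Y := by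
  ext ⟨i, k⟩ ⟨j, l⟩; simp [cj_apply, Matrix.kronecker_apply]

theorem cj_det (X : Matrix γ γ F) : (cj K X).det = K.bar X.det := by
  rw [show cj K X = (K.bar.toRingHom.mapMatrix X)ᵀ from rfl, Matrix.det_transpose, ← RingHom.map_det]
  rfl

/-- The functional of a vector. -/
def ph (J : Matrix γ γ F) (x : γ → F) : γ → F := (fun i => K.bar (x i)) ᵥ* J

theorem ph_add (J : Matrix γ γ F) (x y : γ → F) : ph K J (x + y) = ph K J x + ph K J y := by
  rw [ph, ph, ph, ← Matrix.add_vecMul]; congr 1; ext i; simp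

theorem ph_smul (J : Matrix γ γ F) (c : F) (x : γ → F) : ph K J (c • x) = K.bar c • ph K J x := by
  rw [ph, ph, ← Matrix.smul_vecMul]; congr 1; ext i; simp

theorem ph_zero (J : Matrix γ γ F) : ph K J (0 : γ → F) = 0 := by
  rw [← zero_smul F (0 : γ → F), ph_smul, map_zero, zero_smul, zero_smul]

theorem ph_sub (J : Matrix γ γ F) (x y : γ → F) : ph K J (x - y) = ph K J x - ph K J y := by
  rw [sub_eq_add_neg, ← neg_one_smul F y, ph_add, ph_smul, map_neg, map_one, neg_one_smul, sub_eq_add_neg]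

theorem ph_dot (J : Matrix γ γ F) (x y : γ → F) : ph K J x ⬝ᵥ y = (fun i => K.bar (x i)) ⬝ᵥ J *ᵥ y :=
  (Matrix.dotProduct_mulVec _ _ _).symm

/-- A non-singular Hermitian matrix. -/
structure IsHerm (J : Matrix γ γ F) : Prop where
  herm : cj K J = J
  det_ne : J.det ≠ 0

/-- The isometries. -/
def Iso (J g : Matrix γ γ F) : Prop := cj K g * J * g = J

/-- The adjoint. -/
noncomputable def adj (J X : Matrix γ γ F) : Matrix γ γ F := J⁻¹ * cj K X * J

/-- A transvection. -/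
def tau (J : Matrix γ γ F) (v : γ → F) (c : F) : Matrix γ γ F := 1 + c • Matrix.vecMulVec v (ph K J v)

/-- The translation with centre `w`. -/
def trl (J : Matrix γ γ F) (w p : γ → F) (k : F) : Matrix γ γ F :=
  1 + Matrix.vecMulVec p (ph K J w) - Matrix.vecMulVec w (ph K J p) + k • Matrix.vecMulVec w (ph K J w)

theorem tau_apply (J : Matrix γ γ F) (v : γ → F) (c : F) (x : γ → F) :
    tau K J v c *ᵥ x = x + (c * (ph K J v ⬝ᵥ x)) • v := by
  simp only [tau, Matrix.add_mulVec, Matrix.one_mulVec, Matrix.smul_mulVec, Matrix.vecMulVec_mulVec,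
    op_smul_eq_smul, smul_smul]

theorem trl_apply (J : Matrix γ γ F) (w p : γ → F) (k : F) (x : γ → F) :
    trl K J w p k *ᵥ x = x + (ph K J w ⬝ᵥ x) • p - (ph K J p ⬝ᵥ x) • w + (k * (ph K J w ⬝ᵥ x)) • w := by
  simp only [trl, Matrix.add_mulVec, Matrix.sub_mulVec, Matrix.one_mulVec, Matrix.smul_mulVec,
    Matrix.vecMulVec_mulVec, op_smul_eq_smul, smul_smul]

omit [Finite F] in
theorem det_one_add_of_cube {N : Matrix γ γ F} (h : N * N * N = 0) : (1 + N).det = 1 := by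
  have hn : IsNilpotent (-N) := ⟨3, by rw [pow_succ, pow_two, neg_mul_neg, Matrix.mul_neg, h, neg_zero]⟩
  have h1 := Matrix.isNilpotent_charpoly_sub_pow_of_isNilpotent hn
  rw [isNilpotent_iff_eq_zero, sub_eq_zero] at h1
  have h2 := congrArg (Polynomial.eval (1 : F)) h1
  rw [Matrix.eval_charpoly, map_one, sub_neg_eq_add, Polynomial.eval_pow, Polynomial.eval_X, one_pow] at h2
  exact h2

theorem det_tau {J : Matrix γ γ F} {v : γ → F} (hv : ph K J v ⬝ᵥ v = 0) (c : F) : (tau K J v c).det = 1 := by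
  rw [tau, ← Matrix.smul_vecMulVec, det_one_add_vecMulVec, dotProduct_smul, hv, smul_zero, add_zero]

theorem exists_skew : ∃ θ : F, θ ≠ 0 ∧ K.bar θ = -θ := by
  obtain ⟨y, hy⟩ := K.exists_moved
  exact ⟨y - K.bar y, sub_ne_zero.2 hy.symm, by rw [map_sub, K.bar_bar]; ring⟩

theorem exists_tr {a : F} (ha : K.bar a = a) : ∃ k, k + K.bar k = a := by
  obtain ⟨y, hy⟩ := K.exists_trace
  refine ⟨a * y / (y + K.bar y), ?_⟩
  rw [map_div₀, map_mul, map_add, K.bar_bar, ha, add_comm (K.bar y) y]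
  field_simp

/-- A real-valued sesquilinear function has a non-trivial zero on any plane. -/
theorem exists_zero {V : Type*} [AddCommGroup V] [Module F V] (f : V → V → F)
    (addr : ∀ x y z, f x (y + z) = f x y + f x z) (smulr : ∀ (c : F) x y, f x (c • y) = c * f x y)
    (swap : ∀ x y, f y x = K.bar (f x y)) {x₁ x₂ : V} (h : ∀ c : F, x₂ ≠ c • x₁) (h1 : x₁ ≠ 0) :
    ∃ s t : F, s • x₁ + t • x₂ ≠ 0 ∧ f (s • x₁ + t • x₂) (s • x₁ + t • x₂) = 0 := by
  have addl : ∀ x y z, f (x + y) z = f x z + f y z := fun x y z => by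
    rw [swap z, addr, map_add, ← swap, ← swap]
  have smull : ∀ (c : F) x y, f (c • x) y = K.bar c * f x y := fun c x y => by
    rw [swap y, smulr, map_mul, ← swap]
  by_cases ha : f x₁ x₁ = 0
  · exact ⟨1, 0, by rwa [one_smul, zero_smul, add_zero], by rw [one_smul, zero_smul, add_zero]; exact ha⟩
  obtain ⟨a, hadef⟩ : ∃ a, a = f x₁ x₁ := ⟨_, rfl⟩
  obtain ⟨b, hbdef⟩ : ∃ b, b = f x₁ x₂ := ⟨_, rfl⟩
  obtain ⟨d, hddef⟩ : ∃ d, d = f x₂ x₂ := ⟨_, rfl⟩
  have har : K.bar a = a := by rw [hadef]; exact (swap _ _).symm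
  have hdr : K.bar d = d := by rw [hddef]; exact (swap _ _).symm
  rw [← hadef] at ha
  obtain ⟨e, he⟩ := K.exists_norm (-(d - K.bar b * b / a) / a) (by
    simp only [map_div₀, map_neg, map_sub, map_mul, K.bar_bar, har, hdr, mul_comm (K.bar b) b])
  refine ⟨e - b / a, 1, fun e0 => h (-(e - b / a)) ?_, ?_⟩
  · rw [one_smul, add_eq_zero_iff_eq_neg'] at e0
    rw [e0, neg_smul]
  · simp only [one_smul, addl, addr, smull, smulr, swap x₁ x₂, ← hadef, ← hbdef, ← hddef, map_sub, map_div₀, har]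
    field_simp at he ⊢
    linear_combination he

namespace IsHerm

variable {K} {J : Matrix γ γ F} (hJ : IsHerm K J)
include hJ

theorem isUnit : IsUnit J.det := Ne.isUnit hJ.det_ne

theorem swap (x y : γ → F) : ph K J y ⬝ᵥ x = K.bar (ph K J x ⬝ᵥ y) := by
  simp only [ph, dotProduct, Matrix.vecMul, map_sum, map_mul, K.bar_bar, Finset.sum_mul]
  rw [Finset.sum_comm]
  refine Finset.sum_congr rfl fun i _ => Finset.sum_congr rfl fun j _ => ?_
  have e : K.bar (J j i) = J i j := congrFun₂ hJ.herm i j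
  rw [e]
  ring

theorem orth_comm {x y : γ → F} (h : ph K J x ⬝ᵥ y = 0) : ph K J y ⬝ᵥ x = 0 := by rw [hJ.swap, h, map_zero]

theorem ne_comm {x y : γ → F} (h : ph K J x ⬝ᵥ y ≠ 0) : ph K J y ⬝ᵥ x ≠ 0 := fun e => h (hJ.orth_comm e)

theorem self_real (x : γ → F) : K.bar (ph K J x ⬝ᵥ x) = ph K J x ⬝ᵥ x := (hJ.swap x x).symm

theorem surj (l : γ → F) : ∃ b, ph K J b = l := by
  refine ⟨fun i => K.bar ((l ᵥ* J⁻¹) i), ?_⟩
  simp only [ph, K.bar_bar]
  rw [Matrix.vecMul_vecMul, Matrix.nonsing_inv_mul J hJ.isUnit, Matrix.vecMul_one]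

theorem ph_eq_zero {x : γ → F} (h : ph K J x = 0) : x = 0 := by
  have h1 := congrArg (· ᵥ* J⁻¹) h
  simp only [ph, Matrix.vecMul_vecMul, Matrix.mul_nonsing_inv J hJ.isUnit, Matrix.vecMul_one,
    Matrix.zero_vecMul] at h1
  funext i
  have := congrArg K.bar (congrFun h1 i)
  simpa [K.bar_bar] using this

theorem ph_ne {x : γ → F} (h : x ≠ 0) : ph K J x ≠ 0 := fun e => h (hJ.ph_eq_zero e)

theorem exists_one {x : γ → F} (h : x ≠ 0) : ∃ y, ph K J x ⬝ᵥ y = 1 := by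
  obtain ⟨y, hy⟩ := exists_dual_one (hJ.ph_ne h)
  exact ⟨y, by rwa [dotProduct_comm]⟩

theorem eq_zero_of_orth {x : γ → F} (h : ∀ y, ph K J x ⬝ᵥ y = 0) : x = 0 := by
  by_contra hx
  obtain ⟨y, hy⟩ := hJ.exists_one hx
  exact one_ne_zero (hy.symm.trans (h y))

theorem form_ext {T J' : Matrix γ γ F}
    (h : ∀ x y, ph K J (T *ᵥ x) ⬝ᵥ (T *ᵥ y) = ph K J' x ⬝ᵥ y) : cj K T * J * T = J' := by
  refine matrix_ext_dot fun x y => ?_
  obtain ⟨x', rfl⟩ : ∃ x', (fun i => K.bar (x' i)) = x := ⟨fun i => K.bar (x i), funext fun i => K.bar_bar _⟩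
  conv_rhs => rw [← ph_dot, ← h, ph_dot]
  rw [← Matrix.mulVec_mulVec, ← Matrix.mulVec_mulVec, Matrix.dotProduct_mulVec _ (cj K T)]
  congr 1
  funext i
  simp [Matrix.vecMul, Matrix.mulVec, dotProduct, cj_apply, mul_comm]

theorem iso_of_form {T : Matrix γ γ F} (h : ∀ x y, ph K J (T *ᵥ x) ⬝ᵥ (T *ᵥ y) = ph K J x ⬝ᵥ y) :
    Iso K J T := hJ.form_ext h

theorem ph_image {T : Matrix γ γ F} (hT : Iso K J T) (x : γ → F) : ph K J (T *ᵥ x) ᵥ* T = ph K J x := by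
  have e : (fun i => K.bar ((T *ᵥ x) i)) = (fun i => K.bar (x i)) ᵥ* cj K T := by
    funext i
    simp [Matrix.vecMul, Matrix.mulVec, dotProduct, cj_apply, mul_comm]
  rw [ph, ph, e, Matrix.vecMul_vecMul, Matrix.vecMul_vecMul, ← Matrix.mul_assoc, hT]

theorem dot_image {T : Matrix γ γ F} (hT : Iso K J T) (x y : γ → F) :
    ph K J (T *ᵥ x) ⬝ᵥ (T *ᵥ y) = ph K J x ⬝ᵥ y := by
  rw [Matrix.dotProduct_mulVec, hJ.ph_image hT]

theorem det_iso {T : Matrix γ γ F} (hT : Iso K J T) : IsUnit T.det := by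
  refine Ne.isUnit fun e => hJ.det_ne ?_
  have := congrArg Matrix.det hT
  rw [Matrix.det_mul, e, mul_zero] at this
  exact this.symm

theorem vecMul_inv {T : Matrix γ γ F} (hT : Iso K J T) (x : γ → F) : ph K J x ᵥ* T⁻¹ = ph K J (T *ᵥ x) := by
  rw [← hJ.ph_image hT x, Matrix.vecMul_vecMul, Matrix.mul_nonsing_inv T (hJ.det_iso hT), Matrix.vecMul_one]

theorem iso_one : Iso K J (1 : Matrix γ γ F) := by
  rw [Iso, cj_one, Matrix.one_mul, Matrix.mul_one]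

theorem iso_mul {S T : Matrix γ γ F} (hS : Iso K J S) (hT : Iso K J T) : Iso K J (S * T) := by
  rw [Iso, cj_mul, show cj K T * cj K S * J * (S * T) = cj K T * (cj K S * J * S) * T by
    simp only [Matrix.mul_assoc], hS, hT]

theorem iso_tau {v : γ → F} (hv : ph K J v ⬝ᵥ v = 0) {c : F} (hc : c + K.bar c = 0) : Iso K J (tau K J v c) := by
  refine hJ.iso_of_form fun x y => ?_
  rw [tau_apply, tau_apply]
  simp only [ph_add, ph_smul, add_dotProduct, dotProduct_add, smul_dotProduct, dotProduct_smul, smul_eq_mul,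
    map_mul, hv, ← hJ.swap v x]
  linear_combination (ph K J v ⬝ᵥ y) * (ph K J x ⬝ᵥ v) * hc

theorem iso_trl {w p : γ → F} (hw : ph K J w ⬝ᵥ w = 0) (hp : ph K J w ⬝ᵥ p = 0) {k : F}
    (hk : k + K.bar k = -(ph K J p ⬝ᵥ p)) : Iso K J (trl K J w p k) := by
  refine hJ.iso_of_form fun x y => ?_
  simp only [trl_apply, ph_add, ph_sub, ph_smul, add_dotProduct, sub_dotProduct, smul_dotProduct, dotProduct_add,
    dotProduct_sub, dotProduct_smul, smul_eq_mul, map_mul, hw, hp, hJ.orth_comm hp, ← hJ.swap w x, ← hJ.swap p x]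
  linear_combination (ph K J x ⬝ᵥ w) * (ph K J w ⬝ᵥ y) * hk

theorem det_trl {w p : γ → F} (hw : ph K J w ⬝ᵥ w = 0) (hp : ph K J w ⬝ᵥ p = 0) (k : F) :
    (trl K J w p k).det = 1 := by
  rw [trl, sub_eq_add_neg, add_assoc, add_assoc]
  refine det_one_add_of_cube (Matrix.ext_iff_mulVec.2 fun x => ?_)
  simp only [← Matrix.mulVec_mulVec, Matrix.add_mulVec, Matrix.neg_mulVec, Matrix.smul_mulVec,
    Matrix.vecMulVec_mulVec, op_smul_eq_smul, Matrix.mulVec_add, Matrix.mulVec_neg, Matrix.mulVec_smul,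
    dotProduct_add, dotProduct_neg, dotProduct_smul, smul_eq_mul, hw, hp, hJ.orth_comm hp, Matrix.zero_mulVec]
  module

theorem exists_k (p : γ → F) : ∃ k, k + K.bar k = -(ph K J p ⬝ᵥ p) :=
  exists_tr K (by rw [map_neg, hJ.self_real])

/-- An isotropic partner. -/
theorem exists_dual {w : γ → F} (hw : ph K J w ⬝ᵥ w = 0) (hw0 : w ≠ 0) :
    ∃ z, ph K J w ⬝ᵥ z = 1 ∧ ph K J z ⬝ᵥ w = 1 ∧ ph K J z ⬝ᵥ z = 0 := by
  obtain ⟨z₀, hz₀⟩ := hJ.exists_one hw0
  have hz₀' : ph K J z₀ ⬝ᵥ w = 1 := by rw [hJ.swap, hz₀, map_one]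
  obtain ⟨k, hk⟩ := hJ.exists_k z₀
  refine ⟨z₀ + k • w, ?_, ?_, ?_⟩ <;>
    simp only [ph_add, ph_smul, add_dotProduct, smul_dotProduct, dotProduct_add, dotProduct_smul, smul_eq_mul, hz₀,
      hz₀', hw, mul_zero, add_zero]
  linear_combination hk

/-- An anisotropic vector orthogonal to a hyperbolic pair. -/
theorem exists_aniso {u v : γ → F} (h3 : 3 ≤ Fintype.card γ) (hu : ph K J u ⬝ᵥ u = 0)
    (hv : ph K J v ⬝ᵥ v = 0) (huv : ph K J u ⬝ᵥ v = 1) :
    ∃ e, ph K J u ⬝ᵥ e = 0 ∧ ph K J v ⬝ᵥ e = 0 ∧ ph K J e ⬝ᵥ e ≠ 0 := by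
  have hvu : ph K J v ⬝ᵥ u = 1 := by rw [hJ.swap, huv, map_one]
  obtain ⟨x, hx, hx'⟩ := exists_orth ![ph K J u, ph K J v] (by simp; omega)
  have xu : ph K J u ⬝ᵥ x = 0 := hx' 0
  have xv : ph K J v ⬝ᵥ x = 0 := hx' 1
  by_cases hxx : ph K J x ⬝ᵥ x = 0
  swap
  · exact ⟨x, xu, xv, hxx⟩
  obtain ⟨y₀, hy₀⟩ := hJ.exists_one hx
  obtain ⟨y, hy⟩ : ∃ y, y = y₀ - (ph K J u ⬝ᵥ y₀) • v - (ph K J v ⬝ᵥ y₀) • u := ⟨_, rfl⟩
  have yu : ph K J u ⬝ᵥ y = 0 := by
    rw [hy, dotProduct_sub, dotProduct_sub, dotProduct_smul, dotProduct_smul, huv, hu]; simp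
  have yv : ph K J v ⬝ᵥ y = 0 := by
    rw [hy, dotProduct_sub, dotProduct_sub, dotProduct_smul, dotProduct_smul, hvu, hv]; simp
  have xy : ph K J x ⬝ᵥ y = 1 := by
    rw [hy, dotProduct_sub, dotProduct_sub, dotProduct_smul, dotProduct_smul, hy₀, hJ.orth_comm xu,
      hJ.orth_comm xv]; simp
  by_cases hyy : ph K J y ⬝ᵥ y = 0
  swap
  · exact ⟨y, yu, yv, hyy⟩
  obtain ⟨s, hs⟩ := K.exists_trace
  refine ⟨x + s • y, by rw [dotProduct_add, dotProduct_smul, xu, yu, smul_zero, add_zero],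
    by rw [dotProduct_add, dotProduct_smul, xv, yv, smul_zero, add_zero], fun e => hs ?_⟩
  have yx : ph K J y ⬝ᵥ x = 1 := by rw [hJ.swap, xy, map_one]
  simp only [ph_add, ph_smul, add_dotProduct, smul_dotProduct, dotProduct_add, dotProduct_smul, smul_eq_mul, xy, yx,
    hxx, hyy, mul_zero, mul_one, add_zero, zero_add] at e
  linear_combination e

/-- An isotropic vector orthogonal to few vectors. -/
theorem exists_iso_perp {κ : Type} [Fintype κ] (f : κ → γ → F) (h : Fintype.card κ + 2 ≤ Fintype.card γ) :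
    ∃ x, x ≠ 0 ∧ ph K J x ⬝ᵥ x = 0 ∧ ∀ i, f i ⬝ᵥ x = 0 := by
  obtain ⟨x₁, hx₁, h₁⟩ := exists_orth f (by omega)
  obtain ⟨θ, hθ⟩ := exists_dual_one hx₁
  obtain ⟨x₂, hx₂, h₂⟩ := exists_orth (fun i : Option κ => i.elim θ f) (by rw [Fintype.card_option]; omega)
  obtain ⟨s, t, hne, hst⟩ := exists_zero K (fun x y => ph K J x ⬝ᵥ y) (fun x y z => dotProduct_add _ _ _)
    (fun c x y => by rw [dotProduct_smul, smul_eq_mul]) (fun x y => hJ.swap x y) (x₁ := x₁) (x₂ := x₂)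
    (fun c e => hx₂ (by
      have := h₂ none
      simp only [Option.elim_none, e, dotProduct_smul, hθ, smul_eq_mul, mul_one] at this
      rw [e, this, zero_smul])) hx₁
  refine ⟨_, hne, hst, fun i => ?_⟩
  have h2i : f i ⬝ᵥ x₂ = 0 := h₂ (some i)
  rw [dotProduct_add, dotProduct_smul, dotProduct_smul, h₁, h2i, smul_zero, smul_zero, add_zero]

/-- A transvection moves one isotropic vector to a multiple of a non-orthogonal one. -/
theorem move_ne {w w' : γ → F} (hw : ph K J w ⬝ᵥ w = 0) (hw' : ph K J w' ⬝ᵥ w' = 0)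
    (h : ph K J w ⬝ᵥ w' ≠ 0) {θ : F} (hθ0 : θ ≠ 0) (hθ : K.bar θ = -θ) :
    ∃ T, Iso K J T ∧ T.det = 1 ∧ T *ᵥ w = -(θ * (ph K J w' ⬝ᵥ w)) • w' := by
  obtain ⟨h', hh'⟩ : ∃ h', h' = ph K J w' ⬝ᵥ w := ⟨_, rfl⟩
  have hb : ph K J w ⬝ᵥ w' = K.bar h' := by rw [hh', ← hJ.swap]
  obtain ⟨v, hv⟩ : ∃ v, v = w + (θ * h') • w' := ⟨_, rfl⟩
  have hvv : ph K J v ⬝ᵥ v = 0 := by
    rw [hv]
    simp only [ph_add, ph_smul, add_dotProduct, smul_dotProduct, dotProduct_add, dotProduct_smul, smul_eq_mul, hw,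
      hw', hb, ← hh', map_mul, hθ, mul_zero, add_zero, zero_add]
    ring
  have hvw : ph K J v ⬝ᵥ w = -θ * (K.bar h' * h') := by
    rw [hv]
    simp only [ph_add, ph_smul, add_dotProduct, smul_dotProduct, smul_eq_mul, hw, ← hh', map_mul, hθ, zero_add]
    ring
  have hne : ph K J v ⬝ᵥ w ≠ 0 := by
    rw [hvw]
    refine mul_ne_zero (neg_ne_zero.2 hθ0) (mul_ne_zero (by rwa [← hb]) ?_)
    rw [hh']; exact hJ.ne_comm h
  obtain ⟨c, hc⟩ : ∃ c, c = -(ph K J v ⬝ᵥ w)⁻¹ := ⟨_, rfl⟩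
  have hc' : c + K.bar c = 0 := by
    simp only [hc, hvw, map_neg, map_inv₀, map_mul, K.bar_bar, hθ, neg_neg, mul_comm h' (K.bar h'), neg_mul,
      inv_neg, add_neg_cancel]
  refine ⟨tau K J v c, hJ.iso_tau hvv hc', det_tau K hvv c, ?_⟩
  rw [tau_apply, hc, neg_mul, inv_mul_cancel₀ hne, neg_one_smul, hv, ← hh']
  module

/-- Isotropic vectors are conjugate up to scalars. -/
theorem move {w w' : γ → F} (hw : ph K J w ⬝ᵥ w = 0) (hw0 : w ≠ 0) (hw' : ph K J w' ⬝ᵥ w' = 0) (hw'0 : w' ≠ 0) :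
    ∃ (T : Matrix γ γ F) (c : F), Iso K J T ∧ T.det = 1 ∧ c ≠ 0 ∧ T *ᵥ w = c • w' := by
  obtain ⟨θ, hθ0, hθ⟩ := exists_skew K
  have step : ∀ {a b : γ → F}, ph K J a ⬝ᵥ a = 0 → ph K J b ⬝ᵥ b = 0 → ph K J a ⬝ᵥ b ≠ 0 →
      ∃ (T : Matrix γ γ F) (c : F), Iso K J T ∧ T.det = 1 ∧ c ≠ 0 ∧ T *ᵥ a = c • b := fun ha hb hab => by
    obtain ⟨T, h1, h2, h3⟩ := hJ.move_ne ha hb hab hθ0 hθ
    exact ⟨T, _, h1, h2, neg_ne_zero.2 (mul_ne_zero hθ0 (hJ.ne_comm hab)), h3⟩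
  by_cases hpr : ∃ c : F, w' = c • w
  · obtain ⟨c, rfl⟩ := hpr
    have hc : c ≠ 0 := fun e => hw'0 (by rw [e, zero_smul])
    exact ⟨1, c⁻¹, hJ.iso_one, Matrix.det_one, inv_ne_zero hc,
      by rw [Matrix.one_mulVec, smul_smul, inv_mul_cancel₀ hc, one_smul]⟩
  push Not at hpr
  by_cases hne : ph K J w ⬝ᵥ w' = 0
  swap
  · exact step hw hw' hne
  obtain ⟨θ₁, t1, t2⟩ := exists_dual_pair (hJ.ph_ne hw0) (v := ph K J w') (fun c e => hpr (K.bar c) (by
    refine sub_eq_zero.1 (hJ.ph_eq_zero ?_)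
    rw [ph_sub, ph_smul, K.bar_bar, e, sub_self])) 1 1
  rw [dotProduct_comm] at t1 t2
  obtain ⟨k, hk⟩ := hJ.exists_k θ₁
  obtain ⟨z, hz⟩ : ∃ z, z = θ₁ + k • w := ⟨_, rfl⟩
  have hzz : ph K J z ⬝ᵥ z = 0 := by
    rw [hz]
    simp only [ph_add, ph_smul, add_dotProduct, smul_dotProduct, dotProduct_add, dotProduct_smul, smul_eq_mul, hw, t1,
      hJ.swap w θ₁, map_one, mul_zero, add_zero]
    linear_combination hk
  have z1 : ph K J w ⬝ᵥ z = 1 := by rw [hz, dotProduct_add, dotProduct_smul, hw, smul_zero, add_zero, t1]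
  have z2 : ph K J w' ⬝ᵥ z = 1 := by
    rw [hz, dotProduct_add, dotProduct_smul, hJ.orth_comm hne, smul_zero, add_zero, t2]
  obtain ⟨T₁, c₁, h1, d1, n1, e1⟩ := step hw hzz (by rw [z1]; exact one_ne_zero)
  obtain ⟨T₂, c₂, h2, d2, n2, e2⟩ := step hzz hw' (by rw [hJ.swap, z2, map_one]; exact one_ne_zero)
  exact ⟨T₂ * T₁, c₁ * c₂, hJ.iso_mul h2 h1, by rw [Matrix.det_mul, d1, d2, one_mul], mul_ne_zero n1 n2,
    by rw [← Matrix.mulVec_mulVec, e1, Matrix.mulVec_smul, e2, smul_smul]⟩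

/-- An isometry scaling an isotropic vector by a fixed scalar. -/
theorem scale {w : γ → F} (hw : ph K J w ⬝ᵥ w = 0) (hw0 : w ≠ 0) {c : F} (hc : K.bar c = c) (hc0 : c ≠ 0) :
    ∃ T, Iso K J T ∧ T.det = 1 ∧ T *ᵥ w = c • w := by
  obtain ⟨θ, hθ0, hθ⟩ := exists_skew K
  obtain ⟨z, wz, zw, zz⟩ := hJ.exists_dual hw hw0
  obtain ⟨T₁, h1, d1, e1⟩ := hJ.move_ne hw zz (by rw [wz]; exact one_ne_zero) hθ0 hθ
  obtain ⟨T₂, h2, d2, e2⟩ := hJ.move_ne zz hw (by rw [zw]; exact one_ne_zero) (θ := c / θ)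
    (div_ne_zero hc0 hθ0) (by rw [map_div₀, hc, hθ, div_neg])
  refine ⟨T₂ * T₁, hJ.iso_mul h2 h1, by rw [Matrix.det_mul, d1, d2, one_mul], ?_⟩
  rw [← Matrix.mulVec_mulVec, e1, Matrix.mulVec_smul, e2, smul_smul, wz, zw, mul_one, mul_one, neg_mul_neg,
    mul_div_cancel₀ _ hθ0]

theorem adj_add (X Y : Matrix γ γ F) : adj K J (X + Y) = adj K J X + adj K J Y := by
  rw [adj, adj, adj, cj_add, Matrix.mul_add, Matrix.add_mul]

theorem adj_sub (X Y : Matrix γ γ F) : adj K J (X - Y) = adj K J X - adj K J Y := by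
  rw [adj, adj, adj, cj_sub, Matrix.mul_sub, Matrix.sub_mul]

theorem adj_smul (c : F) (X : Matrix γ γ F) : adj K J (c • X) = K.bar c • adj K J X := by
  rw [adj, adj, cj_smul, Matrix.mul_smul, Matrix.smul_mul]

theorem adj_one : adj K J (1 : Matrix γ γ F) = 1 := by
  rw [adj, cj_one, Matrix.mul_one, Matrix.nonsing_inv_mul J hJ.isUnit]

theorem adj_mul (X Y : Matrix γ γ F) : adj K J (X * Y) = adj K J Y * adj K J X := by
  simp only [adj, cj_mul, Matrix.mul_assoc, Matrix.mul_nonsing_inv_cancel_left J _ hJ.isUnit]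

theorem adj_adj (X : Matrix γ γ F) : adj K J (adj K J X) = X := by
  have e1 : cj K J⁻¹ = J⁻¹ := by
    refine (Matrix.inv_eq_left_inv (A := J) ?_).symm
    conv_lhs => arg 2; rw [← hJ.herm]
    rw [← cj_mul, Matrix.mul_nonsing_inv J hJ.isUnit, cj_one]
  simp only [adj, cj_mul, cj_cj, hJ.herm, e1, ← Matrix.mul_assoc, Matrix.nonsing_inv_mul J hJ.isUnit, Matrix.one_mul]
  simp only [Matrix.mul_assoc, Matrix.nonsing_inv_mul J hJ.isUnit, Matrix.mul_one]

theorem mul_adj (X : Matrix γ γ F) : J * adj K J X = cj K X * J := by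
  rw [adj, ← Matrix.mul_assoc, ← Matrix.mul_assoc, Matrix.mul_nonsing_inv J hJ.isUnit, Matrix.one_mul]

theorem adj_iso {T : Matrix γ γ F} (hT : Iso K J T) : adj K J T = T⁻¹ := by
  refine (Matrix.inv_eq_left_inv ?_).symm
  rw [adj, Matrix.mul_assoc _ J, Matrix.mul_assoc, ← Matrix.mul_assoc (cj K T), hT,
    Matrix.nonsing_inv_mul J hJ.isUnit]

theorem adj_rk (u v : γ → F) :
    adj K J (Matrix.vecMulVec u (ph K J v)) = Matrix.vecMulVec v (ph K J u) := by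
  have e : cj K (Matrix.vecMulVec u (ph K J v)) =
      Matrix.vecMulVec (J *ᵥ v) (fun i => K.bar (u i)) := by
    ext i j
    have hs : K.bar (ph K J v i) = (J *ᵥ v) i := by
      simp only [ph, Matrix.vecMul, Matrix.mulVec, dotProduct, map_sum, map_mul, K.bar_bar]
      refine Finset.sum_congr rfl fun k _ => ?_
      rw [show K.bar (J k i) = J i k from congrFun₂ hJ.herm i k, mul_comm]
    simp [cj_apply, Matrix.vecMulVec_apply, hs, mul_comm]
  rw [adj, e, Matrix.mul_vecMulVec, Matrix.vecMulVec_mul, Matrix.mulVec_mulVec,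
    Matrix.nonsing_inv_mul J hJ.isUnit, Matrix.one_mulVec]
  rfl

theorem rk_conj {T : Matrix γ γ F} (hT : Iso K J T) (u v : γ → F) :
    T * Matrix.vecMulVec u (ph K J v) * T⁻¹ = Matrix.vecMulVec (T *ᵥ u) (ph K J (T *ᵥ v)) := by
  rw [Matrix.mul_vecMulVec, Matrix.vecMulVec_mul, hJ.vecMul_inv hT]

end IsHerm

end CfsgLib.Classical.TensorUnitary
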