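import Cfsg.Agent.Lib.Classical.TensorUnitary.Tens
import Cfsg.Agent.Lib.Classical.TensorUnitary.Gen

set_option autoImplicit false
set_option linter.unusedSectionVars false

/-!
The stabiliser in `SU_n(q)` of a tensor product of two unitary spaces of different dimensions is maximal.
-/

namespace CfsgLib.Classical.TensorUnitary

open Matrix CfsgLib.Classical.TensorMax CfsgLib.Classical.Herm Cfsg
open CfsgLib.Classical.TensorSymp (ten kron_mulVec_ten single_eq_ten)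
open CfsgLib.Classical.TensorOrth (coords coords_apply toGL toGL_mem_iff)
open CfsgLib.ClassicalAut (Unitary.Conj Unitary.herm_apply)
open scoped MatrixGroups Kronecker

variable {F : Type*} [Field F] [Finite F] {q : ℕ} (K : Unitary.Conj F q)

section gram

variable {d : ℕ} {f : (Fin d → F) → (Fin d → F) → F} (hf : Cfsg.Geo.IsUnitaryFormPow q f)
include hf

theorem gram_herm (i j : Fin d) : K.bar (Cfsg.Geo.gramMatrix f i j) = Cfsg.Geo.gramMatrix f j i := by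
  rw [K.bar_apply]
  exact (hf.herm _ _).symm

theorem form_eq_gram (v w : Fin d → F) :
    f v w = ∑ i, ∑ j, v i * Cfsg.Geo.gramMatrix f i j * K.bar (w j) := by
  have lin : ∀ x y, f x y = ∑ i, x i * f (Pi.single i 1) y := fun x y => by
    let L : (Fin d → F) →ₗ[F] F :=
      { toFun := fun z => f z y
        map_add' := fun a b => hf.add_left _ _ _
        map_smul' := fun r a => hf.smul_left r _ _ }
    show L x = _
    conv_lhs => rw [pi_eq_sum_univ' x]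
    rw [map_sum]
    exact Finset.sum_congr rfl fun i _ => by rw [map_smul]; rfl
  rw [lin]
  refine Finset.sum_congr rfl fun i _ => ?_
  rw [hf.herm, lin, ← K.bar_apply, map_sum, Finset.mul_sum]
  refine Finset.sum_congr rfl fun j _ => ?_
  rw [map_mul, show K.bar (f (Pi.single j 1) (Pi.single i 1)) = Cfsg.Geo.gramMatrix f i j from gram_herm K hf j i]
  ring

theorem isHerm_gram : IsHerm K (Cfsg.Geo.gramMatrix f)ᵀ where
  herm := by
    ext i j
    simp only [cj_apply, Matrix.transpose_apply]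
    exact gram_herm K hf i j
  det_ne := by
    intro e
    obtain ⟨v, hv0, hv⟩ := Matrix.exists_mulVec_eq_zero_iff.2 e
    obtain ⟨-, x, hx⟩ := hf.nondegenerate v hv0
    refine hx ?_
    rw [form_eq_gram K hf, Finset.sum_comm]
    refine Finset.sum_eq_zero fun j _ => ?_
    rw [← Finset.sum_mul]
    have := congrFun hv j
    simp only [Matrix.mulVec, dotProduct, Matrix.transpose_apply, Pi.zero_apply] at this
    rw [show ∑ i, v i * Cfsg.Geo.gramMatrix f i j = ∑ i, Cfsg.Geo.gramMatrix f i j * v i from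
      Finset.sum_congr rfl fun i _ => mul_comm _ _, this, zero_mul]

end gram

variable {α β : Type} [Fintype α] [DecidableEq α] [Fintype β] [DecidableEq β]

theorem ph_kron_ten (JA : Matrix α α F) (JB : Matrix β β F) (a : α → F) (b : β → F) :
    ph K (JA ⊗ₖ JB) (ten a b) = ten (ph K JA a) (ph K JB b) := by
  funext ⟨i, k⟩
  rw [← dotProduct_single_one (ph K (JA ⊗ₖ JB) (ten a b)) (i, k), single_eq_ten, ph_ten_dot, dotProduct_single_one,
    dotProduct_single_one]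
  rfl

theorem zm_rk (JA : Matrix α α F) (JB : Matrix β β F) (c : F) (u : α → F) (w : β → F) :
    Zm K JB w (c • Rk K JA u u) =
      c • Matrix.vecMulVec (ten u w) (ph K (JA ⊗ₖ JB) (ten u w)) := by
  rw [zm_smul, zm_kron, ph_kron_ten]
  ext ⟨i, k⟩ ⟨j, l⟩
  simp [Rk, ten, Matrix.vecMulVec_apply, Matrix.kronecker_apply]
  ring_nf
  simp

theorem exists_not_tens {JA : Matrix α α F} {JB : Matrix β β F} {M : Subgroup (GL (α × β) F)}
    (H : Hyp K JA JB M) :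
    ∃ g : GL (α × β) F, Iso K (JA ⊗ₖ JB) g.1 ∧ g.1.det = 1 ∧ ¬ Tens g.1 := by
  obtain ⟨u, hu0, hu, -⟩ := H.hA.exists_iso_perp (fun i : Fin 0 => i.elim0) (by simpa using H.two_le)
  obtain ⟨v, huv, -, -⟩ := H.hA.exists_dual hu hu0
  obtain ⟨w, hw0, hw, -⟩ := H.hB.exists_iso_perp (fun i : Fin 0 => i.elim0) (by have := H.three; simp; omega)
  obtain ⟨z, hwz, -, -⟩ := H.hB.exists_dual hw hw0
  obtain ⟨θ, hθ0, hθ⟩ := TensorUnitary.exists_skew K
  obtain ⟨x, hx⟩ : ∃ x, x = ten u w := ⟨_, rfl⟩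
  have hxx : ph K (JA ⊗ₖ JB) x ⬝ᵥ x = 0 := by rw [hx, ph_ten_dot, hu, zero_mul]
  have hd : (tau K (JA ⊗ₖ JB) x θ).det = 1 := det_tau K hxx θ
  refine ⟨Matrix.GeneralLinearGroup.mkOfDetNeZero _ (hd.trans_ne one_ne_zero),
    H.hAB.iso_tau hxx (by rw [hθ, add_neg_cancel]), hd, fun hT => ?_⟩
  obtain ⟨N, hN⟩ := H.tens_small (X := θ • Matrix.vecMulVec x (ph K (JA ⊗ₖ JB) x)) hT (by
    rw [← Matrix.smul_vecMulVec, Matrix.vecMulVec_eq Unit]
    refine lt_of_le_of_lt ((Matrix.rank_mul_le_left _ _).trans (Matrix.rank_le_card_width _)) ?_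
    have := H.three
    simp
    omega)
  have h1 := congrArg (· *ᵥ ten v z) hN
  simp only [Matrix.smul_mulVec, Matrix.vecMulVec_mulVec, op_smul_eq_smul, kron_mulVec_ten, Matrix.one_mulVec] at h1
  rw [hx, ph_ten_dot, huv, hwz, one_mul, one_smul] at h1
  obtain ⟨ψ, p1, p2⟩ := exists_dual_pair hu0 (v := v) (fun c e => by
    rw [e, dotProduct_smul, hu, smul_zero] at huv
    exact zero_ne_one huv) 0 1
  have h2 := congrArg (sl ψ) h1
  rw [map_smul, sl_ten, sl_ten, p1, p2, zero_smul, smul_zero, one_smul] at h2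
  rw [← h2] at h1
  have h3 : ten v (0 : β → F) = 0 := by ext p; simp [ten]
  rw [h3, smul_eq_zero, or_iff_right hθ0] at h1
  obtain ⟨i, hi⟩ := Function.ne_iff.1 hu0
  obtain ⟨k, hk⟩ := Function.ne_iff.1 hw0
  exact mul_ne_zero hi hk (congrFun h1 (i, k))

include K in
/-- Maximality, given that the elements are products without roots and that pure centres generate. -/
theorem isMaximalIn_of [Fintype F] {n n₁ n₂ : ℕ} (hn : 4 ≤ n) (h1 : 2 ≤ n₁) (h3 : 3 ≤ n₂)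
    (htens : ∀ (JA : Matrix (Fin n₁) (Fin n₁) F) (JB : Matrix (Fin n₂) (Fin n₂) F)
      (M : Subgroup (GL (Fin n₁ × Fin n₂) F)), Hyp K JA JB M → ¬ Root K JA JB M → ∀ g ∈ M, Tens g.1)
    (hgen : ∀ (JA : Matrix (Fin n₁) (Fin n₁) F) (JB : Matrix (Fin n₂) (Fin n₂) F) (M : Subgroup (SU n F q))
      (Φ : (Fin n₁ × Fin n₂ → F) →ₗ[F] (Fin n → F)), IsHerm K JA → IsHerm K JB → Function.Surjective Φ →
      (∀ X Y, hermForm n F q (Φ X) (Φ Y) = ph K (JA ⊗ₖ JB) Y ⬝ᵥ X) →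
      (∀ u w, ph K JA u ⬝ᵥ u = 0 → ph K JB w ⬝ᵥ w = 0 → Φ (ten u w) ∈ centres K M) → M = ⊤)
    (e : Fin n ≃ Fin n₁ × Fin n₂) (P : GL (Fin n) F)
    {f₁ : (Fin n₁ → F) → (Fin n₁ → F) → F} {f₂ : (Fin n₂ → F) → (Fin n₂ → F) → F}
    (hf₁ : Cfsg.Geo.IsUnitaryFormPow q f₁) (hf₂ : Cfsg.Geo.IsUnitaryFormPow q f₂)
    (hT : Cfsg.Geo.IsTensorFormStructure (fun x : F => x ^ q) (Cfsg.hermForm n F q) f₁ f₂ e P) :
    Cfsg.Geo.IsMaximalIn (Cfsg.GU n F q ⊓ Cfsg.Geo.specialLinear (Fin n) F)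
      (Cfsg.Geo.tensorProductSubgroup n₁ n₂ e P ⊓ (Cfsg.GU n F q ⊓ Cfsg.Geo.specialLinear (Fin n) F)) := by
  classical
  haveI : Nonempty (Fin n₁) := ⟨⟨0, by omega⟩⟩
  haveI : Nonempty (Fin n₂) := ⟨⟨0, by omega⟩⟩
  obtain ⟨c, hc, hB⟩ := hT
  obtain ⟨J₁, hJ₁⟩ : ∃ J₁, J₁ = c • (Cfsg.Geo.gramMatrix f₁)ᵀ := ⟨_, rfl⟩
  obtain ⟨J₂, hJ₂⟩ : ∃ J₂, J₂ = (Cfsg.Geo.gramMatrix f₂)ᵀ := ⟨_, rfl⟩
  obtain ⟨φ, hφ⟩ : ∃ φ, φ = toGL e P := ⟨_, rfl⟩
  have hform : ∀ x y, hermForm n F q (coords e P x) (coords e P y) = ph K (J₁ ⊗ₖ J₂) y ⬝ᵥ x := by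
    intro x y
    rw [coords_apply, coords_apply, hB, Cfsg.Geo.formOfGram, hJ₁, hJ₂, ph, dotProduct, Finset.mul_sum]
    refine Finset.sum_congr rfl fun a _ => ?_
    rw [Matrix.vecMul, dotProduct, Finset.mul_sum, Finset.sum_mul]
    refine Finset.sum_congr rfl fun b _ => ?_
    simp only [Matrix.kroneckerMap_apply, Matrix.smul_apply, Matrix.transpose_apply, smul_eq_mul, ← K.bar_apply]
    ring
  have hap : ∀ (g : GL (Fin n₁ × Fin n₂) F) z, (φ g).1 *ᵥ coords e P z = coords e P (g.1 *ᵥ z) := by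
    intro g z
    rw [hφ]
    show ((P : Matrix _ _ F) * Matrix.submatrix g.1 e e * (P⁻¹ : GL (Fin n) F).1) *ᵥ _ = _
    rw [coords_apply, coords_apply, Matrix.mulVec_mulVec, Matrix.mul_assoc, Units.inv_mul, Matrix.mul_one,
      ← Matrix.mulVec_mulVec, Matrix.submatrix_mulVec_equiv]
    congr 2
    rw [Function.comp_assoc, Equiv.self_comp_symm, Function.comp_id]
  have hdet : ∀ g, (φ g).1.det = g.1.det := fun g => by
    rw [hφ]
    show ((P : Matrix _ _ F) * Matrix.submatrix g.1 e e * (P⁻¹ : GL (Fin n) F).1).det = _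
    rw [Matrix.det_mul, Matrix.det_mul, Matrix.det_submatrix_equiv_self, mul_right_comm, ← Matrix.det_mul,
      Units.mul_inv, Matrix.det_one, one_mul]
  have hsurj : Function.Surjective (coords e P) := fun v => ⟨((P⁻¹ : GL (Fin n) F).1 *ᵥ v) ∘ e.symm, by
    rw [coords_apply, Function.comp_assoc, Equiv.symm_comp_self, Function.comp_id, Matrix.mulVec_mulVec,
      Units.mul_inv, Matrix.one_mulVec]⟩
  -- the scalar is fixed
  have hcr : K.bar c = c := by
    obtain ⟨a, b, hab⟩ : ∃ a b, (J₁ ⊗ₖ J₂) a b ≠ 0 := by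
      by_contra hh
      push Not at hh
      refine mul_ne_zero (pow_ne_zero _ ?_) (pow_ne_zero _ (hJ₂ ▸ (isHerm_gram K hf₂).det_ne))
        ((Matrix.det_kronecker J₁ J₂).symm.trans (by
          rw [show J₁ ⊗ₖ J₂ = 0 from Matrix.ext hh, Matrix.det_zero]))
      rw [hJ₁, Matrix.det_smul]
      exact mul_ne_zero (pow_ne_zero _ hc) (isHerm_gram K hf₁).det_ne
    have hv : ∀ a b, ph K (J₁ ⊗ₖ J₂) (Pi.single a 1) ⬝ᵥ Pi.single b 1 = (J₁ ⊗ₖ J₂) a b := fun a b => by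
      rw [dotProduct_single_one, ph, show (fun i => K.bar ((Pi.single a (1 : F) : Fin n₁ × Fin n₂ → F) i)) =
        Pi.single a 1 from funext fun i => by by_cases h : i = a <;> simp [h], Matrix.single_one_vecMul]
      rfl
    have h0 : hermForm n F q (coords e P (Pi.single a 1)) (coords e P (Pi.single b 1)) =
        K.bar (hermForm n F q (coords e P (Pi.single b 1)) (coords e P (Pi.single a 1))) := by
      rw [Unitary.herm_apply K, Unitary.herm_apply K, map_sum]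
      exact Finset.sum_congr rfl fun i _ => by rw [map_mul, K.bar_bar, mul_comm]
    rw [hform, hform, hv, hv] at h0
    simp only [hJ₁, hJ₂, Matrix.kroneckerMap_apply, Matrix.smul_apply, Matrix.transpose_apply, smul_eq_mul, map_mul,
      gram_herm K hf₁, gram_herm K hf₂] at h0
    simp only [hJ₁, hJ₂, Matrix.kroneckerMap_apply, Matrix.smul_apply, Matrix.transpose_apply, smul_eq_mul] at hab
    have h2 : Cfsg.Geo.gramMatrix f₁ a.1 b.1 * Cfsg.Geo.gramMatrix f₂ a.2 b.2 ≠ 0 := fun e0 => hab (by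
      rw [← gram_herm K hf₁ a.1 b.1, ← gram_herm K hf₂ a.2 b.2, mul_assoc, ← map_mul, e0, map_zero, mul_zero])
    refine mul_right_cancel₀ h2 ?_
    linear_combination -h0
  have hH₁ : IsHerm K J₁ := by
    refine ⟨?_, ?_⟩
    · rw [hJ₁, cj_smul, hcr, (isHerm_gram K hf₁).herm]
    · rw [hJ₁, Matrix.det_smul]; exact mul_ne_zero (pow_ne_zero _ hc) (isHerm_gram K hf₁).det_ne
  have hH₂ : IsHerm K J₂ := hJ₂ ▸ isHerm_gram K hf₂
  have hH : IsHerm K (J₁ ⊗ₖ J₂) := ⟨by rw [cj_kron, hH₁.herm, hH₂.herm], by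
    rw [Matrix.det_kronecker]; exact mul_ne_zero (pow_ne_zero _ hH₁.det_ne) (pow_ne_zero _ hH₂.det_ne)⟩
  have hiso : ∀ g, φ g ∈ Cfsg.GU n F q ⊓ Cfsg.Geo.specialLinear (Fin n) F ↔
      Iso K (J₁ ⊗ₖ J₂) g.1 ∧ g.1.det = 1 := by
    intro g
    have key : ∀ x y, ph K (J₁ ⊗ₖ J₂) (g.1 *ᵥ x) ⬝ᵥ (g.1 *ᵥ y) =
        hermForm n F q ((φ g).1 *ᵥ coords e P y) ((φ g).1 *ᵥ coords e P x) := fun x y => by
      rw [hap, hap, hform]
    constructor
    · rintro ⟨h, h'⟩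
      refine ⟨hH.form_ext fun x y => ?_, ?_⟩
      · rw [key, ← hform]
        exact h _ _
      · rw [← hdet]
        exact congrArg Units.val (MonoidHom.mem_ker.1 h')
    · rintro ⟨h, h'⟩
      refine ⟨fun u v => ?_, MonoidHom.mem_ker.2 (Units.ext ((hdet g).trans h'))⟩
      obtain ⟨x, rfl⟩ := hsurj u
      obtain ⟨y, rfl⟩ := hsurj v
      show hermForm n F q ((φ g).1 *ᵥ coords e P x) ((φ g).1 *ᵥ coords e P y) = _
      rw [← key, hH.dot_image h, hform]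
  have hkr : ∀ g, φ g ∈ Cfsg.Geo.tensorProductSubgroup n₁ n₂ e P ↔ Tens g.1 := fun g => by
    rw [hφ]; exact toGL_mem_iff e P g
  have mk : ∀ L : Subgroup (GL (Fin n) F), L ≤ Cfsg.GU n F q ⊓ Cfsg.Geo.specialLinear (Fin n) F →
      Cfsg.Geo.tensorProductSubgroup n₁ n₂ e P ⊓ (Cfsg.GU n F q ⊓ Cfsg.Geo.specialLinear (Fin n) F) ≤ L →
      Hyp K J₁ J₂ (L.comap φ.toMonoidHom) := fun L hL hL' =>
    { hA := hH₁
      hB := hH₂
      two_le := by simpa using h1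
      three := by simp only [Fintype.card_fin]; omega
      le := fun g hg => (hiso g).1 (hL hg)
      tens := fun g ha hb ht => hL' ⟨(hkr g).2 ht, (hiso g).2 ⟨ha, hb⟩⟩ }
  refine ⟨lt_of_le_of_ne inf_le_right fun hh => ?_, fun L hL' hL => ?_⟩
  · obtain ⟨g, hg, hg', hnt⟩ := exists_not_tens K (mk _ le_rfl inf_le_right)
    have := (hiso g).2 ⟨hg, hg'⟩
    rw [← hh] at this
    exact hnt ((hkr g).1 this.1)
  have HM := mk L hL hL'
  by_cases hR : Root K J₁ J₂ (L.comap φ.toMonoidHom)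
  swap
  · refine Or.inl (le_antisymm (fun y hy => ?_) hL')
    obtain ⟨g, rfl⟩ := φ.surjective y
    exact ⟨(hkr g).2 (htens _ _ _ HM hR g hy), hL hy⟩
  refine Or.inr (le_antisymm hL fun y hy => ?_)
  have htop : L.comap (toGLHom (F := F) (n := n) (q := q)) = ⊤ := by
    refine hgen J₁ J₂ _ (coords e P) hH₁ hH₂ hsurj hform
      fun u w hu hw => ⟨by rw [hform, ph_ten_dot, hu, zero_mul], fun t d ht => ?_⟩
    obtain ⟨g, hg, hg'⟩ := HM.pure_all hR hu hw d ht.2.1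
    show toGLHom t ∈ L
    suffices he : toGLHom t = φ g by rw [he]; exact hg
    refine Units.ext (Matrix.ext_iff_mulVec.2 fun v => ?_)
    obtain ⟨x, rfl⟩ := hsurj v
    show app t (coords e P x) = _
    rw [ht.2.2, hap, hg', zm_rk, Matrix.add_mulVec, Matrix.one_mulVec, Matrix.smul_mulVec, Matrix.vecMulVec_mulVec,
      op_smul_eq_smul, hform, map_add, map_smul, map_smul, smul_smul]
  obtain ⟨s, hs⟩ := (mem_range_iff y).1 hy
  have := (Subgroup.eq_top_iff' _).1 htop s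
  rw [← hs]
  exact this

include K in
theorem isMaximalIn [Fintype F] {n n₁ n₂ : ℕ} (hn : 4 ≤ n) (h1 : 2 ≤ n₁) (h12 : n₁ < n₂) (h4 : 4 ≤ n₂)
    (hex : ¬ (n₁ = 2 ∧ q = 2)) (e : Fin n ≃ Fin n₁ × Fin n₂) (P : GL (Fin n) F)
    {f₁ : (Fin n₁ → F) → (Fin n₁ → F) → F} {f₂ : (Fin n₂ → F) → (Fin n₂ → F) → F}
    (hf₁ : Cfsg.Geo.IsUnitaryFormPow q f₁) (hf₂ : Cfsg.Geo.IsUnitaryFormPow q f₂)
    (hT : Cfsg.Geo.IsTensorFormStructure (fun x : F => x ^ q) (Cfsg.hermForm n F q) f₁ f₂ e P) :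
    Cfsg.Geo.IsMaximalIn (Cfsg.GU n F q ⊓ Cfsg.Geo.specialLinear (Fin n) F)
      (Cfsg.Geo.tensorProductSubgroup n₁ n₂ e P ⊓ (Cfsg.GU n F q ⊓ Cfsg.Geo.specialLinear (Fin n) F)) := by
  have hex' : q = 2 → 3 ≤ Fintype.card (Fin n₁) := fun hq => by
    rw [Fintype.card_fin]
    by_contra hlt
    exact hex ⟨by omega, hq⟩
  exact isMaximalIn_of K hn h1 (by omega)
    (fun _ _ _ H hR g hg => H.tens_all hex' (by simpa using h12) (by simpa using h4) hR hg)
    (fun _ _ _ Φ hA hB hs hΦ hc => eq_top_of_pure hA hB (by simpa using h1) (by simpa using h4) hn Φ hs hΦ hc)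
    e P hf₁ hf₂ hT

end CfsgLib.Classical.TensorUnitary
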