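import Cfsg.Agent.Lib.Classical.TensorUnitary.Base
import Cfsg.Agent.Lib.Classical.QuadPairInvol.Basic
import Cfsg.Agent.Lib.Classical.TensorSymp.Gen

set_option autoImplicit false
set_option linter.unusedSectionVars false

/-!
Two quadratic unipotents of different ranks generate a group with a non-trivial element commuting with both;
slices of vectors of a tensor product.
-/

namespace CfsgLib.Classical.TensorUnitary

open Matrix CfsgLib.Classical.TensorMax
open CfsgLib.Classical.TensorSymp (ten kron_mulVec_ten ten_dot)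
open CfsgLib.ClassicalAut (Unitary.Conj)
open scoped MatrixGroups Kronecker

variable {F : Type*} [Field F]

theorem rank_conj {ι : Type} [Fintype ι] [DecidableEq ι] (u : GL ι F) (X : Matrix ι ι F) :
    (u.1 * X * (u⁻¹).1).rank = X.rank := by
  rw [Matrix.rank_mul_eq_left_of_isUnit_det _ _ ((Matrix.isUnit_iff_isUnit_det _).1 (u⁻¹).isUnit),
    Matrix.rank_mul_eq_right_of_isUnit_det _ _ ((Matrix.isUnit_iff_isUnit_det _).1 u.isUnit)]

variable [Finite F]

/-- An element commuting with both generators. -/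
theorem exists_commuting {ι : Type} [Fintype ι] [DecidableEq ι] {x k : GL ι F} {X K : Matrix ι ι F}
    (hX : X * X = 0) (hK : K * K = 0) (hx : x.1 = 1 + X) (hk : k.1 = 1 + K) (hr : K.rank < X.rank) :
    ∃ z ∈ Subgroup.closure ({x, k} : Set (GL ι F)), z ≠ 1 ∧ z * x = x * z ∧ z * k = k * z := by
  classical
  obtain ⟨p, hp⟩ := CharP.exists F
  haveI : Fact p.Prime := ⟨(CharP.char_is_prime_or_zero F p).resolve_right (CharP.char_ne_zero_of_finite F p)⟩
  have hxG : x ∈ Subgroup.closure ({x, k} : Set (GL ι F)) := Subgroup.subset_closure (Set.mem_insert _ _)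
  have hkG : k ∈ Subgroup.closure ({x, k} : Set (GL ι F)) :=
    Subgroup.subset_closure (Set.mem_insert_of_mem _ (Set.mem_singleton _))
  by_cases h2 : (2 : F) = 0
  · have sq : ∀ {y : GL ι F} {Y : Matrix ι ι F}, Y * Y = 0 → y.1 = 1 + Y → y * y = 1 := fun {y Y} hY hy =>
      Units.ext (by
        rw [Units.val_mul, hy, Units.val_one, Matrix.add_mul, Matrix.one_mul, Matrix.mul_add, Matrix.mul_one, hY,
          add_zero, add_assoc, ← two_smul F, h2, zero_smul, add_zero])
    have x2 := sq hX hx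
    have k2 := sq hK hk
    obtain ⟨h, hdef⟩ : ∃ h, h = x * k := ⟨_, rfl⟩
    have hxi : x⁻¹ = x := inv_eq_of_mul_eq_one_right x2
    have hki : k⁻¹ = k := inv_eq_of_mul_eq_one_right k2
    have xh : x * h * x⁻¹ = h⁻¹ := by
      rw [hdef, _root_.mul_inv_rev, hxi, hki, ← mul_assoc x x, x2, one_mul]
    have kh : k * h * k⁻¹ = h⁻¹ := by
      rw [hdef, _root_.mul_inv_rev, hxi, hki, mul_assoc, mul_assoc, k2, mul_one]
    rcases Nat.even_or_odd (orderOf h) with ⟨l, hl⟩ | ⟨m, hm⟩
    · have hl0 : 0 < orderOf h := orderOf_pos h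
      have hzz : h ^ l * h ^ l = 1 := by rw [← pow_add, ← hl, pow_orderOf_eq_one]
      have hzi : (h ^ l)⁻¹ = h ^ l := inv_eq_of_mul_eq_one_right hzz
      refine ⟨h ^ l, pow_mem (hdef ▸ mul_mem hxG hkG) _, fun e => ?_, ?_, ?_⟩
      · have := orderOf_le_of_pow_eq_one (by omega) e
        omega
      · have : x * h ^ l * x⁻¹ = h ^ l := by rw [← conj_pow, xh, inv_pow, hzi]
        rw [mul_inv_eq_iff_eq_mul] at this
        exact this.symm
      · have : k * h ^ l * k⁻¹ = h ^ l := by rw [← conj_pow, kh, inv_pow, hzi]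
        rw [mul_inv_eq_iff_eq_mul] at this
        exact this.symm
    · exfalso
      obtain ⟨c, hc⟩ : ∃ c, c = h ^ (m + 1) := ⟨_, rfl⟩
      have xc : x * c * x⁻¹ = c⁻¹ := by rw [hc, ← conj_pow, xh, inv_pow]
      have hk' : c⁻¹ * x * c = k := by
        rw [← xc, hxi, mul_assoc (x * c), x2, mul_one, mul_assoc, hc, ← pow_add,
          show m + 1 + (m + 1) = orderOf h + 1 by omega, pow_succ, pow_orderOf_eq_one, one_mul, hdef, ← mul_assoc,
          x2, one_mul]
      have e : K = (c⁻¹).1 * X * ((c⁻¹)⁻¹).1 := by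
        have := congrArg Units.val hk'
        rw [Units.val_mul, Units.val_mul, hx, hk, Matrix.mul_add, Matrix.mul_one, Matrix.add_mul, c.inv_mul] at this
        rw [inv_inv]
        exact (add_left_cancel this).symm
      rw [e, rank_conj] at hr
      exact lt_irrefl _ hr
  have hp2 : p ≠ 2 := fun e => by subst e; exact h2 (CharP.cast_eq_zero F 2)
  by_cases hP : IsPGroup p (Subgroup.closure ({x, k} : Set (GL ι F)))
  · haveI : Nontrivial (Subgroup.closure ({x, k} : Set (GL ι F))) := by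
      refine ⟨⟨⟨x, hxG⟩, 1, fun e => ?_⟩⟩
      have h1 := congrArg (fun y : Subgroup.closure ({x, k} : Set (GL ι F)) => (y : GL ι F).1) e
      simp only [Subgroup.coe_one, Units.val_one, hx, add_eq_left] at h1
      rw [h1, Matrix.rank_zero] at hr
      omega
    haveI := hP.center_nontrivial
    obtain ⟨⟨⟨z, hz⟩, hzc⟩, hz1⟩ := exists_ne (1 : Subgroup.center (Subgroup.closure ({x, k} : Set (GL ι F))))
    refine ⟨z, hz, fun e => hz1 (Subtype.ext (Subtype.ext e)), ?_, ?_⟩
    · exact congrArg Subtype.val (Subgroup.mem_center_iff.1 hzc ⟨x, hxG⟩).symm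
    · exact congrArg Subtype.val (Subgroup.mem_center_iff.1 hzc ⟨k, hkG⟩).symm
  · obtain ⟨z, hz, hz2, hz1⟩ := QuadPairInvol.exists_invol hp2 hX hK hx hk hP
    obtain ⟨cX, cK⟩ := QuadPairInvol.invol_comm h2 hX hK hx hk hz hz2
    refine ⟨z, hz, hz1, Units.ext ?_, Units.ext ?_⟩
    · rw [Units.val_mul, Units.val_mul, hx, Matrix.mul_add, Matrix.add_mul, Matrix.mul_one, Matrix.one_mul, cX]
    · rw [Units.val_mul, Units.val_mul, hk, Matrix.mul_add, Matrix.add_mul, Matrix.mul_one, Matrix.one_mul, cK]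

omit [Finite F]

variable {α β : Type} [Fintype α] [DecidableEq α] [Fintype β] [DecidableEq β]

/-- The slice of a vector along a functional of the first factor. -/
def sl (ψ : α → F) : (α × β → F) →ₗ[F] (β → F) where
  toFun p l := ψ ⬝ᵥ fun i => p (i, l)
  map_add' p p' := by ext l; exact dotProduct_add _ _ _
  map_smul' c p := by ext l; exact dotProduct_smul _ _ _

theorem sl_apply (ψ : α → F) (p : α × β → F) (l : β) : sl ψ p l = ψ ⬝ᵥ fun i => p (i, l) := rfl

theorem sl_ten (ψ u : α → F) (b : β → F) : sl ψ (ten u b) = (ψ ⬝ᵥ u) • b := by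
  ext l
  simp [sl_apply, ten, dotProduct, Finset.sum_mul, mul_assoc]

theorem kr_mulVec (φ : β → F) (p : α × β → F) (i : α) : (kr α φ *ᵥ p) i = φ ⬝ᵥ fun l => p (i, l) := by
  simp only [Matrix.mulVec, dotProduct, Fintype.sum_prod_type, kr_apply, ite_mul, zero_mul]
  rw [Finset.sum_eq_single i]
  · simp
  · intro j _ hj; simp [Ne.symm hj]
  · simp

theorem kr_mulVec_ten (φ : β → F) (u : α → F) (b : β → F) : kr α φ *ᵥ ten u b = (φ ⬝ᵥ b) • u := by
  ext i
  rw [kr_mulVec]
  simp only [ten, dotProduct, Pi.smul_apply, smul_eq_mul, Finset.sum_mul]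
  exact Finset.sum_congr rfl fun l _ => by ring

theorem dot_kr_mulVec (ψ : α → F) (φ : β → F) (p : α × β → F) :
    ψ ⬝ᵥ (kr α φ *ᵥ p) = φ ⬝ᵥ sl ψ p := by
  simp only [dotProduct, kr_mulVec, sl_apply, Finset.mul_sum]
  rw [Finset.sum_comm]
  exact Finset.sum_congr rfl fun l _ => Finset.sum_congr rfl fun i _ => by ring

/-- The form of two pure tensors. -/
theorem ph_ten_dot [Finite F] {q : ℕ} {K : Unitary.Conj F q} (JA : Matrix α α F) (JB : Matrix β β F) (a a' : α → F) (b b' : β → F) :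
    ph K (JA ⊗ₖ JB) (ten a b) ⬝ᵥ ten a' b' = (ph K JA a ⬝ᵥ a') * (ph K JB b ⬝ᵥ b') := by
  have e : (fun p => K.bar (ten a b p)) = ten (fun i => K.bar (a i)) (fun k => K.bar (b k)) := by
    funext p; simp [ten]
  rw [ph_dot, ph_dot, ph_dot, e, kron_mulVec_ten, ten_dot]

/-- A slice which is onto forces a large rank. -/
theorem card_le_rank_of_sl {γ : Type} [Fintype γ] [DecidableEq γ] (ψ : α → F) (X : Matrix (α × β) γ F)
    (h : ∀ b : β → F, ∃ v, sl ψ (X *ᵥ v) = b) : Fintype.card β ≤ X.rank := by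
  have hle : (⊤ : Submodule F (β → F)) ≤ (LinearMap.range X.mulVecLin).map (sl ψ) := fun b _ => by
    obtain ⟨v, hv⟩ := h b
    exact ⟨_, ⟨v, rfl⟩, hv⟩
  have := (Submodule.finrank_mono hle).trans (Submodule.finrank_map_le _ _)
  rwa [finrank_top, Module.finrank_pi] at this

end CfsgLib.Classical.TensorUnitary
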