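import Cfsg.Agent.Lib.Classical.TensorUnitary.Stab

set_option autoImplicit false
set_option linter.unusedSectionVars false

/-!
A central element which is not scalar gives a transvection whose centre is a pure tensor, and then all of them.
-/

namespace CfsgLib.Classical.TensorUnitary

open Matrix CfsgLib.Classical.TensorMax
open CfsgLib.ClassicalAut (Unitary.Conj)
open scoped MatrixGroups Kronecker

variable {F : Type*} [Field F] [Finite F] {q : ℕ} (K : Unitary.Conj F q)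
variable {α β γ : Type} [Fintype α] [DecidableEq α] [Fintype β] [DecidableEq β] [Fintype γ] [DecidableEq γ]

/-- A rank one matrix. -/
def Rk (J : Matrix γ γ F) (u v : γ → F) : Matrix γ γ F := Matrix.vecMulVec u (ph K J v)

/-- A pure tensor all of whose transvections lie in `M`. -/
def Pure (JA : Matrix α α F) (JB : Matrix β β F) (M : Subgroup (GL (α × β) F)) (u : α → F) (w : β → F) : Prop :=
  ∀ c : F, c + K.bar c = 0 → InM M (1 + Zm K JB w (c • Rk K JA u u))

/-- Some transvection with pure centre lies in `M`. -/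
def Root (JA : Matrix α α F) (JB : Matrix β β F) (M : Subgroup (GL (α × β) F)) : Prop :=
  ∃ (u : α → F) (w : β → F) (c : F), u ≠ 0 ∧ ph K JA u ⬝ᵥ u = 0 ∧ w ≠ 0 ∧ ph K JB w ⬝ᵥ w = 0 ∧ c ≠ 0 ∧
    c + K.bar c = 0 ∧ InM M (1 + Zm K JB w (c • Rk K JA u u))

include K in
theorem two_zero (hq : q = 2) : (2 : F) = 0 := by
  cases nonempty_fintype F
  have h := FiniteField.cast_card_eq_zero F
  rw [← Nat.card_eq_fintype_card, K.card, hq] at h
  exact mul_self_eq_zero.1 (show (2 : F) * 2 = 0 by push_cast at h; linear_combination h)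

include K in
theorem exists_real (hq : q ≠ 2) : ∃ c : F, K.bar c = c ∧ c ≠ 0 ∧ c * c - c ≠ 0 := by
  obtain ⟨g, hg⟩ := K.exists_gen
  have h2 := K.two_le
  refine ⟨(g : F) ^ (q + 1), ?_, pow_ne_zero _ g.ne_zero, fun e => ?_⟩
  · cases nonempty_fintype F
    rw [K.bar_apply, ← pow_mul, add_mul, one_mul, ← sq, pow_add, ← K.card, Nat.card_eq_fintype_card,
      FiniteField.pow_card, pow_succ, mul_comm]
  rw [show ((g : F) ^ (q + 1)) * (g : F) ^ (q + 1) - (g : F) ^ (q + 1) =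
    (g : F) ^ (q + 1) * ((g : F) ^ (q + 1) - 1) by ring, mul_eq_zero,
    or_iff_right (pow_ne_zero _ g.ne_zero), sub_eq_zero] at e
  have h4 := Nat.le_of_dvd (by omega) (orderOf_dvd_of_pow_eq_one (n := q + 1) (x := g)
    (Units.ext (by rwa [Units.val_pow_eq_pow_val])))
  rw [hg] at h4
  have : q * 3 ≤ q ^ 2 := by rw [sq]; exact Nat.mul_le_mul_left q (by omega)
  omega

variable {K}

namespace IsHerm

variable {J : Matrix γ γ F} (hJ : IsHerm K J)
include hJ

theorem ph_vecMul (X : Matrix γ γ F) (x : γ → F) : ph K J x ᵥ* X = ph K J (adj K J X *ᵥ x) := by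
  have e : (fun i => K.bar ((adj K J X *ᵥ x) i)) = (fun i => K.bar (x i)) ᵥ* cj K (adj K J X) := by
    funext i
    simp [Matrix.vecMul, Matrix.mulVec, dotProduct, cj_apply, mul_comm]
  have e1 : cj K (adj K J X) * J = J * X := by
    have h1 := congrArg (cj K) (hJ.mul_adj X)
    rwa [cj_mul, cj_mul, cj_cj, hJ.herm] at h1
  rw [ph, ph, e, Matrix.vecMul_vecMul, Matrix.vecMul_vecMul, e1]

theorem dot_adj (X : Matrix γ γ F) (x y : γ → F) :
    ph K J x ⬝ᵥ (X *ᵥ y) = ph K J (adj K J X *ᵥ x) ⬝ᵥ y := by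
  rw [Matrix.dotProduct_mulVec, hJ.ph_vecMul]

theorem rk_smul_left (c : F) (u v : γ → F) : Rk K J (c • u) v = c • Rk K J u v := by
  rw [Rk, Rk, Matrix.smul_vecMulVec]

theorem rk_smul_right (c : F) (u v : γ → F) : Rk K J u (c • v) = K.bar c • Rk K J u v := by
  rw [Rk, Rk, ph_smul, Matrix.vecMulVec_smul]

theorem rk_add_left (u u' v : γ → F) : Rk K J (u + u') v = Rk K J u v + Rk K J u' v := by
  rw [Rk, Rk, Rk, Matrix.add_vecMulVec]

theorem rk_add_right (u v v' : γ → F) : Rk K J u (v + v') = Rk K J u v + Rk K J u v' := by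
  rw [Rk, Rk, Rk, ph_add, Matrix.vecMulVec_add]

/-- A self-adjoint matrix isotropic on the isotropic vectors is a scalar. -/
theorem scalar_of_iso (h2 : 2 ≤ Fintype.card γ) {X : Matrix γ γ F} (hX : adj K J X = X)
    (h : ∀ u, ph K J u ⬝ᵥ u = 0 → ph K J u ⬝ᵥ (X *ᵥ u) = 0) : ∃ c : F, X = c • 1 := by
  have sw : ∀ x y, ph K J y ⬝ᵥ (X *ᵥ x) = K.bar (ph K J x ⬝ᵥ (X *ᵥ y)) := fun x y => by
    rw [hJ.dot_adj X x y, hX, ← hJ.swap]
  obtain ⟨u, hu0, hu, -⟩ := hJ.exists_iso_perp (fun i : Fin 0 => i.elim0) (by simpa using h2)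
  obtain ⟨τ, hτ⟩ := K.exists_moved
  obtain ⟨θ, hθ0, hθ⟩ := exists_skew K
  -- the isotropic vectors are eigenvectors
  have real : ∀ u v, ph K J u ⬝ᵥ u = 0 → ph K J v ⬝ᵥ v = 0 → ph K J u ⬝ᵥ v = 1 →
      K.bar (ph K J u ⬝ᵥ (X *ᵥ v)) = ph K J u ⬝ᵥ (X *ᵥ v) := by
    intro u v hu hv huv
    have hvu : ph K J v ⬝ᵥ u = 1 := by rw [hJ.swap, huv, map_one]
    have e := h (u + θ • v) (by
      simp only [ph_add, ph_smul, add_dotProduct, smul_dotProduct, dotProduct_add, dotProduct_smul, smul_eq_mul, hu,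
        hv, huv, hvu, hθ]
      ring)
    simp only [Matrix.mulVec_add, Matrix.mulVec_smul, ph_add, ph_smul, add_dotProduct, smul_dotProduct,
      dotProduct_add, dotProduct_smul, smul_eq_mul, h u hu, h v hv, hθ, sw u v] at e
    refine mul_left_cancel₀ hθ0 ?_
    linear_combination -e
  have line : ∀ u, ph K J u ⬝ᵥ u = 0 → ∀ v, ph K J v ⬝ᵥ v = 0 → ph K J u ⬝ᵥ v = 1 →
      X *ᵥ u = (ph K J u ⬝ᵥ (X *ᵥ v)) • u := by
    intro u hu v hv huv
    have hvu : ph K J v ⬝ᵥ u = 1 := by rw [hJ.swap, huv, map_one]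
    obtain ⟨lam, hlam⟩ : ∃ lam, lam = ph K J u ⬝ᵥ (X *ᵥ v) := ⟨_, rfl⟩
    have hr : K.bar lam = lam := hlam ▸ real u v hu hv huv
    have hz : ∀ z, ph K J u ⬝ᵥ z = 0 → ph K J v ⬝ᵥ z = 0 → ph K J u ⬝ᵥ (X *ᵥ z) = 0 := by
      intro z hzu hzv
      have key : ∀ z, ph K J u ⬝ᵥ z = 0 → ph K J v ⬝ᵥ z = 0 →
          K.bar (ph K J u ⬝ᵥ (X *ᵥ z)) = ph K J u ⬝ᵥ (X *ᵥ z) := by
        intro z hzu hzv
        obtain ⟨k, hk⟩ := hJ.exists_k z
        have := real u (v + z + k • u) hu (by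
          simp only [ph_add, ph_smul, add_dotProduct, smul_dotProduct, dotProduct_add, dotProduct_smul, smul_eq_mul,
            hu, hv, hvu, huv, hzu, hzv, hJ.orth_comm hzu, hJ.orth_comm hzv]
          linear_combination hk) (by
          rw [dotProduct_add, dotProduct_add, dotProduct_smul, huv, hzu, hu, smul_zero, add_zero, add_zero])
        simp only [Matrix.mulVec_add, Matrix.mulVec_smul, dotProduct_add, dotProduct_smul, smul_eq_mul, h u hu,
          mul_zero, add_zero, ← hlam, map_add, hr] at this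
        exact add_left_cancel this
      have e1 := key z hzu hzv
      have e2 := key (τ • z) (by rw [dotProduct_smul, hzu, smul_zero]) (by rw [dotProduct_smul, hzv, smul_zero])
      rw [Matrix.mulVec_smul, dotProduct_smul, smul_eq_mul, map_mul, e1] at e2
      exact (mul_eq_zero.1 (show (K.bar τ - τ) * (ph K J u ⬝ᵥ (X *ᵥ z)) = 0 by linear_combination e2)).resolve_left
        (sub_ne_zero.2 hτ)
    refine sub_eq_zero.1 (hJ.eq_zero_of_orth fun x => ?_)
    obtain ⟨z, hzdef⟩ : ∃ z, z = x - (ph K J v ⬝ᵥ x) • u - (ph K J u ⬝ᵥ x) • v := ⟨_, rfl⟩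
    have e := hz z (by rw [hzdef, dotProduct_sub, dotProduct_sub, dotProduct_smul, dotProduct_smul, hu, huv]; simp)
      (by rw [hzdef, dotProduct_sub, dotProduct_sub, dotProduct_smul, dotProduct_smul, hv, hvu]; simp)
    simp only [hzdef, Matrix.mulVec_sub, Matrix.mulVec_smul, dotProduct_sub, dotProduct_smul, smul_eq_mul, h u hu,
      ← hlam] at e
    rw [← hlam, ph_sub, ph_smul, hr, sub_dotProduct, smul_dotProduct, smul_eq_mul]
    conv_lhs => rw [show ph K J (X *ᵥ u) ⬝ᵥ x = ph K J u ⬝ᵥ (X *ᵥ x) by rw [hJ.dot_adj X u x, hX]]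
    linear_combination e
  obtain ⟨v, huv, hvu, hv⟩ := hJ.exists_dual hu hu0
  obtain ⟨lam, hlam⟩ : ∃ lam, lam = ph K J u ⬝ᵥ (X *ᵥ v) := ⟨_, rfl⟩
  have eu : X *ᵥ u = lam • u := hlam ▸ line u hu v hv huv
  have ev : ∀ v', ph K J v' ⬝ᵥ v' = 0 → ph K J u ⬝ᵥ v' = 1 → X *ᵥ v' = lam • v' := by
    intro v' hv' huv'
    have hvu' : ph K J v' ⬝ᵥ u = 1 := by rw [hJ.swap, huv', map_one]
    have := line v' hv' u hu hvu'
    rwa [eu, dotProduct_smul, hvu', smul_eq_mul, mul_one] at this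
  refine ⟨lam, Matrix.ext_iff_mulVec.2 fun x => ?_⟩
  rw [Matrix.smul_mulVec, Matrix.one_mulVec]
  obtain ⟨z, hzdef⟩ : ∃ z, z = x - (ph K J v ⬝ᵥ x) • u - (ph K J u ⬝ᵥ x) • v := ⟨_, rfl⟩
  have hzu : ph K J u ⬝ᵥ z = 0 := by
    rw [hzdef, dotProduct_sub, dotProduct_sub, dotProduct_smul, dotProduct_smul, hu, huv]; simp
  have hzv : ph K J v ⬝ᵥ z = 0 := by
    rw [hzdef, dotProduct_sub, dotProduct_sub, dotProduct_smul, dotProduct_smul, hv, hvu]; simp
  obtain ⟨k, hk⟩ := hJ.exists_k z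
  have e := ev (v + z + k • u) (by
    simp only [ph_add, ph_smul, add_dotProduct, smul_dotProduct, dotProduct_add, dotProduct_smul, smul_eq_mul, hu,
      hv, hvu, huv, hzu, hzv, hJ.orth_comm hzu, hJ.orth_comm hzv]
    linear_combination hk) (by
    rw [dotProduct_add, dotProduct_add, dotProduct_smul, huv, hzu, hu, smul_zero, add_zero, add_zero])
  have ev0 := ev v hv huv
  have hx : x = z + (ph K J v ⬝ᵥ x) • u + (ph K J u ⬝ᵥ x) • v := by rw [hzdef]; abel
  rw [Matrix.mulVec_add, Matrix.mulVec_add, Matrix.mulVec_smul, eu, ev0] at e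
  have hz : X *ᵥ z = lam • z := by linear_combination (norm := module) e
  conv_lhs => rw [hx, Matrix.mulVec_add, Matrix.mulVec_add, Matrix.mulVec_smul, Matrix.mulVec_smul, hz, eu, ev0]
  conv_rhs => rw [hx]
  module

end IsHerm

variable {JA : Matrix α α F} {JB : Matrix β β F} {M : Subgroup (GL (α × β) F)}

namespace Hyp

variable (H : Hyp K JA JB M)
include H

theorem lv_add {w : β → F} (hw : ph K JB w ⬝ᵥ w = 0) {C C' : Matrix α α F} (h : InM M (1 + Zm K JB w C))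
    (h' : InM M (1 + Zm K JB w C')) : InM M (1 + Zm K JB w (C + C')) := by
  rw [zm_add]
  exact h.add h' (zm_mul K JB hw _ _)

theorem lv_neg {w : β → F} (hw : ph K JB w ⬝ᵥ w = 0) {C : Matrix α α F} (h : InM M (1 + Zm K JB w C)) :
    InM M (1 + Zm K JB w (-C)) := by
  rw [show Zm K JB w (-C) = -Zm K JB w C by rw [← neg_one_smul F C, zm_smul, neg_one_smul]]
  exact h.neg (zm_mul K JB hw _ _)

theorem lv_sub {w : β → F} (hw : ph K JB w ⬝ᵥ w = 0) {C C' : Matrix α α F} (h : InM M (1 + Zm K JB w C))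
    (h' : InM M (1 + Zm K JB w C')) : InM M (1 + Zm K JB w (C - C')) := by
  rw [sub_eq_add_neg]
  exact H.lv_add hw h (H.lv_neg hw h')

theorem lv_smul {w : β → F} (hw : ph K JB w ⬝ᵥ w = 0) (hw0 : w ≠ 0) {C : Matrix α α F}
    (h : InM M (1 + Zm K JB w C)) {c : F} (hc : K.bar c = c) : InM M (1 + Zm K JB w (c • C)) := by
  have hz : InM M (1 + Zm K JB w (0 : Matrix α α F)) := by simpa using H.lv_sub hw h h
  have hsq : ∀ d : F, K.bar d = d → InM M (1 + Zm K JB w ((d * d) • C)) := fun d hd => by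
    by_cases hd0 : d = 0
    · rw [hd0, mul_zero, zero_smul]; exact hz
    obtain ⟨T, hT, dT, hTw⟩ := H.hB.scale hw hw0 hd hd0
    have := H.inM_zm_conj H.hA.iso_one hT Matrix.det_one dT h
    rwa [hTw, inv_one, Matrix.one_mul, Matrix.mul_one, zm_smul_vec, hd] at this
  by_cases h2 : (2 : F) = 0
  · haveI : CharP F 2 := CharTwo.of_one_ne_zero_of_two_eq_zero one_ne_zero h2
    obtain ⟨d, hd⟩ := FiniteField.isSquare_of_char_two (ringChar.eq F 2) c
    rw [hd]
    refine hsq d (sub_eq_zero.1 (mul_self_eq_zero.1 ?_))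
    have e : K.bar d * K.bar d = d * d := by rw [← map_mul, ← hd, hc]
    linear_combination e + (d * d - K.bar d * d) * h2
  have hb : ∀ {b : F}, K.bar b = b → K.bar (b / 2) = b / 2 := fun hb => by rw [map_div₀, hb, map_ofNat]
  have e : c = (c + 1) / 2 * ((c + 1) / 2) - (c - 1) / 2 * ((c - 1) / 2) := by field_simp; ring
  rw [e, sub_smul]
  exact H.lv_sub hw (hsq _ (hb (by rw [map_add, hc, map_one]))) (hsq _ (hb (by rw [map_sub, hc, map_one])))

/-- A transvection of the first factor conjugating a central element. -/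
theorem lv_conj {w : β → F} {C : Matrix α α F} (h : InM M (1 + Zm K JB w C)) {S : Matrix α α F}
    (hS : Iso K JA S) (dS : S.det = 1) : InM M (1 + Zm K JB w (S * C * S⁻¹)) := by
  have := H.inM_zm_conj hS H.hB.iso_one dS Matrix.det_one h
  rwa [Matrix.one_mulVec] at this

/-- A central element which is not scalar gives a root. -/
theorem root_of_not_small (hex : q = 2 → 3 ≤ Fintype.card α) (hns : ¬ Small K JB M) : Root K JA JB M := by
  classical
  unfold Small at hns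
  push Not at hns
  obtain ⟨w, hw, hw0, C, hC, hns⟩ := hns
  obtain ⟨θ, hθ0, hθ⟩ := exists_skew K
  have hθs : θ + K.bar θ = 0 := by rw [hθ, add_neg_cancel]
  obtain ⟨X, hX⟩ : ∃ X, X = θ⁻¹ • C := ⟨_, rfl⟩
  have hXa : adj K JA X = X := by
    rw [hX, H.hA.adj_smul, H.zm_adj hw hw0 hC, map_inv₀, hθ, inv_neg, smul_neg, neg_smul, neg_neg]
  have hC' : C = θ • X := by rw [hX, smul_smul, mul_inv_cancel₀ hθ0, one_smul]
  obtain ⟨u, hu, hh⟩ : ∃ u, ph K JA u ⬝ᵥ u = 0 ∧ ph K JA u ⬝ᵥ (X *ᵥ u) ≠ 0 := by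
    by_contra hc
    push Not at hc
    obtain ⟨c, hc'⟩ := H.hA.scalar_of_iso H.two_le hXa hc
    exact hns (θ * c) (by rw [hC', hc', smul_smul])
  have hu0 : u ≠ 0 := fun e => hh (by rw [e, ph_zero, zero_dotProduct])
  obtain ⟨h, hhdef⟩ : ∃ h, h = ph K JA u ⬝ᵥ (X *ᵥ u) := ⟨_, rfl⟩
  rw [← hhdef] at hh
  obtain ⟨y, hy⟩ : ∃ y, y = X *ᵥ u := ⟨_, rfl⟩
  rw [← hy] at hhdef
  have hhr : K.bar h = h := by
    rw [hhdef, ← H.hA.swap]
    conv_rhs => rw [hy, H.hA.dot_adj X u u, hXa, ← hy]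
  -- the differences with the conjugates by transvections at `u`
  obtain ⟨N, hN⟩ : ∃ N, N = Rk K JA u u := ⟨_, rfl⟩
  have hD : ∀ t : F, t + K.bar t = 0 → InM M (1 + Zm K JB w
      (θ • (t • (Rk K JA u y - Rk K JA y u) - (t * t * h) • N))) := by
    intro t ht
    have hiso := H.hA.iso_tau hu ht
    have h1 := H.lv_sub hw (H.lv_conj hC hiso (det_tau K hu t)) hC
    have hinv : (tau K JA u t)⁻¹ = 1 - t • N := by
      refine Matrix.inv_eq_right_inv ?_
      rw [tau, hN, Rk, Matrix.mul_sub, Matrix.mul_one, Matrix.add_mul, Matrix.one_mul, Matrix.smul_mul,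
        Matrix.mul_smul, Matrix.vecMulVec_mul_vecMulVec, hu, zero_smul, Matrix.vecMulVec_zero, smul_zero, smul_zero]
      abel
    have e : tau K JA u t * C * (tau K JA u t)⁻¹ - C =
        θ • (t • (Rk K JA u y - Rk K JA y u) - (t * t * h) • N) := by
      have e1 : N * X = Rk K JA u y := by rw [hN, Rk, Matrix.vecMulVec_mul, H.hA.ph_vecMul, hXa, hy]; rfl
      have e2 : X * N = Rk K JA y u := by rw [hN, Rk, Matrix.mul_vecMulVec, ← hy]; rfl
      have e3 : Rk K JA u y * N = h • N := by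
        rw [hN, Rk, Rk, Matrix.vecMulVec_mul_vecMulVec, Matrix.vecMulVec_smul, H.hA.swap, ← hhdef, hhr]
      have e4 : N * Rk K JA y u = h • N := by
        rw [hN, Rk, Rk, Matrix.vecMulVec_mul_vecMulVec, Matrix.vecMulVec_smul, ← hhdef]
      rw [hinv, hC', show tau K JA u t = 1 + t • N by rw [hN]; rfl]
      simp only [Matrix.mul_sub, Matrix.add_mul, Matrix.one_mul, Matrix.mul_one, Matrix.smul_mul, Matrix.mul_smul,
        e1, e2, e3, e4, smul_sub, smul_add, smul_smul]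
      module
    rwa [e] at h1
  suffices hkey : ∃ c : F, c ≠ 0 ∧ InM M (1 + Zm K JB w (c • Rk K JA u u)) by
    obtain ⟨c, hc0, hc⟩ := hkey
    refine ⟨u, w, c, hu0, hu, hw0, hw, hc0, ?_, hc⟩
    have := H.zm_adj hw hw0 hc
    rw [H.hA.adj_smul, show adj K JA (Rk K JA u u) = Rk K JA u u from H.hA.adj_rk u u, ← neg_smul] at this
    have hR : Rk K JA u u ≠ 0 := fun e => by
      obtain ⟨i, hi⟩ := Function.ne_iff.1 hu0
      obtain ⟨j, hj⟩ := Function.ne_iff.1 (H.hA.ph_ne hu0)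
      exact mul_ne_zero hi hj (congrFun₂ e i j)
    exact add_eq_zero_iff_eq_neg'.2 (smul_left_injective F hR this)
  by_cases hq : q = 2
  swap
  · obtain ⟨c, hc, hc0, hcc⟩ := exists_real K hq
    have h1 := H.lv_sub hw (hD (c * θ) (by rw [map_mul, hc, ← mul_add, hθs, mul_zero]))
      (H.lv_smul hw hw0 (hD θ hθs) hc)
    refine ⟨-((c * c - c) * (θ * θ * θ * h)),
      neg_ne_zero.2 (mul_ne_zero hcc (mul_ne_zero (mul_ne_zero (mul_ne_zero hθ0 hθ0) hθ0) hh)), ?_⟩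
    convert h1 using 3
    rw [← hN]
    module
  have h2 := two_zero K hq
  obtain ⟨v, huv, hvu, hv⟩ := H.hA.exists_dual hu hu0
  obtain ⟨e, hue, -, hee⟩ := H.hA.exists_aniso (hex hq) hu hv huv
  obtain ⟨s, hs⟩ := K.exists_trace
  obtain ⟨k₁, hk₁⟩ := H.hA.exists_k e
  obtain ⟨k₂, hk₂⟩ := H.hA.exists_k (s • e)
  obtain ⟨k₃, hk₃⟩ := H.hA.exists_k (e + s • e)
  have hF : ∀ p k, ph K JA u ⬝ᵥ p = 0 → k + K.bar k = -(ph K JA p ⬝ᵥ p) → InM M (1 + Zm K JB w
      (θ • (θ • (Rk K JA u (y + h • p - (ph K JA p ⬝ᵥ y) • u + (k * h) • u) -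
        Rk K JA (y + h • p - (ph K JA p ⬝ᵥ y) • u + (k * h) • u) u) - (θ * θ * h) • N))) := by
    intro p k hp hk
    have hiso := H.hA.iso_trl hu hp hk
    have h1 := H.lv_conj (hD θ hθs) hiso (H.hA.det_trl hu hp k)
    have eu : trl K JA u p k *ᵥ u = u := by
      rw [trl_apply, hu, H.hA.orth_comm hp]; simp
    have ey : trl K JA u p k *ᵥ y = y + h • p - (ph K JA p ⬝ᵥ y) • u + (k * h) • u := by
      rw [trl_apply, ← hhdef]
    convert h1 using 3
    simp only [hN, Matrix.mul_smul, Matrix.smul_mul, Matrix.mul_sub, Matrix.sub_mul, Rk, H.hA.rk_conj hiso, eu, ey]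
  have he' : ph K JA u ⬝ᵥ (s • e) = 0 := by rw [dotProduct_smul, hue, smul_zero]
  have h1 := H.lv_add hw (H.lv_sub hw (H.lv_sub hw (hF (e + s • e) k₃ (by rw [dotProduct_add, hue, he', add_zero]) hk₃)
    (hF e k₁ hue hk₁)) (hF (s • e) k₂ he' hk₂)) (hD θ hθs)
  obtain ⟨δ, hδ⟩ : ∃ δ, δ = k₃ - k₁ - k₂ := ⟨_, rfl⟩
  refine ⟨θ * θ * (h * (K.bar δ - δ)), mul_ne_zero (mul_ne_zero hθ0 hθ0) (mul_ne_zero hh ?_), ?_⟩
  · intro e0
    refine mul_ne_zero hs hee ?_
    simp only [hδ, map_sub] at e0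
    simp only [ph_add, ph_smul, add_dotProduct, smul_dotProduct, dotProduct_add, dotProduct_smul, smul_eq_mul] at hk₂ hk₃
    linear_combination hk₃ - hk₁ - hk₂ - e0 - (k₃ - k₁ - k₂) * h2
  convert h1 using 3
  rw [← hN, hδ]
  simp only [hN, sub_eq_add_neg, ← neg_smul, H.hA.rk_add_left, H.hA.rk_add_right, H.hA.rk_smul_left,
    H.hA.rk_smul_right, map_add, map_neg, map_mul, hhr, ph_add, ph_smul, add_dotProduct, smul_dotProduct,
    smul_eq_mul, K.bar_bar]
  module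

/-- One pure centre gives all of them. -/
theorem pure_all (hR : Root K JA JB M) {u' : α → F} (hu' : ph K JA u' ⬝ᵥ u' = 0) {w' : β → F}
    (hw' : ph K JB w' ⬝ᵥ w' = 0) : Pure K JA JB M u' w' := by
  obtain ⟨u, w, c₀, hu0, hu, hw0, hw, hc0, hc, hR⟩ := hR
  intro c hcs
  by_cases hz : u' = 0 ∨ w' = 0
  · have e : Zm K JB w' (c • Rk K JA u' u') = 0 := by
      rcases hz with e | e <;> simp [e, Zm, Rk, kc_zero, ph_zero, kr_zero]
    rw [e, add_zero]
    exact InM.one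
  push Not at hz
  obtain ⟨S, d, hS, dS, hd, hSu⟩ := H.hA.move hu hu0 hu' hz.1
  obtain ⟨T, d', hT, dT, hd', hTw⟩ := H.hB.move hw hw0 hw' hz.2
  have h1 := H.inM_zm_conj hS hT dS dT hR
  rw [hTw, zm_smul_vec, Rk, Matrix.mul_smul, Matrix.smul_mul, H.hA.rk_conj hS, hSu,
    show Matrix.vecMulVec (d • u') (ph K JA (d • u')) = Rk K JA (d • u') (d • u') from rfl, H.hA.rk_smul_left,
    H.hA.rk_smul_right, smul_smul, smul_smul, smul_smul] at h1
  obtain ⟨e, he⟩ : ∃ e, e = d' * K.bar d' * c₀ * d * K.bar d := ⟨_, rfl⟩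
  rw [← he] at h1
  have he0 : e ≠ 0 := by
    rw [he]
    simp [hd, hd', hc0]
  have hes : K.bar e = -e := by
    rw [he]
    simp only [map_mul, K.bar_bar, eq_neg_of_add_eq_zero_right hc]
    ring
  have h2 := H.lv_smul hw' hz.2 h1 (c := c / e) (by
    rw [map_div₀, hes, eq_neg_of_add_eq_zero_right hcs, neg_div_neg_eq])
  rwa [smul_smul, div_mul_cancel₀ _ he0] at h2

end Hyp

end CfsgLib.Classical.TensorUnitary
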