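import Cfsg.Agent.Lib.Classical.TensorUnitary.Tens
import Cfsg.Agent.Lib.Classical.TensorUnitary.Gen
import Mathlib.GroupTheory.Nilpotent
import Mathlib.GroupTheory.Sylow

set_option autoImplicit false
set_option linter.unusedSectionVars false

/-!
Products of a Hermitian plane and a Hermitian space of dimension three: coordinates, groups of unipotent
elements, and the subgroups of prime power order containing a transvection of the second factor.
-/

namespace CfsgLib.Classical.TensorUnitary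

open Matrix CfsgLib.Classical.TensorMax
open CfsgLib.Classical.TensorSymp (ten kc_mulVec kron_mulVec_ten)
open CfsgLib.ClassicalAut (Unitary.Conj)
open scoped MatrixGroups Kronecker

variable {F : Type*} [Field F] [Finite F]

/-- A set of matrices closed under sums and products and consisting of nilpotents gives a `p`-group. -/
theorem isPGroup_of_nil {ι : Type} [Fintype ι] [DecidableEq ι] (p : ℕ) [Fact p.Prime] [CharP F p]
    {S : Set (GL ι F)} (N : Set (Matrix ι ι F)) (h0 : (0 : Matrix ι ι F) ∈ N) (hS : ∀ x ∈ S, x.1 - 1 ∈ N)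
    (hadd : ∀ a ∈ N, ∀ b ∈ N, a + b ∈ N) (hmul : ∀ a ∈ N, ∀ b ∈ N, a * b ∈ N) (hnil : ∀ a ∈ N, a ^ 4 = 0) :
    IsPGroup p (Subgroup.closure S) := by
  rcases isEmpty_or_nonempty ι with he | hne
  · exact IsPGroup.of_card (n := 0) (by
      rw [pow_zero, Nat.card_eq_one_iff_unique]
      exact ⟨⟨fun a b => Subtype.ext (Units.ext (Matrix.ext fun i => he.elim i))⟩, ⟨1⟩⟩)
  have hmem : ∀ x ∈ Submonoid.closure S, x.1 - 1 ∈ N := fun x hx => by
    induction hx using Submonoid.closure_induction with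
    | mem x hx => exact hS x hx
    | one => simpa using h0
    | mul x y _ _ h h' =>
      have e : (x * y).1 - 1 = (x.1 - 1) * (y.1 - 1) + ((x.1 - 1) + (y.1 - 1)) := by
        rw [Units.val_mul]; noncomm_ring
      exact e ▸ hadd _ (hmul _ h _ h') _ (hadd _ h _ h')
  rintro ⟨y, hy⟩
  have hy' : y ∈ Submonoid.closure S := by
    rwa [← Subgroup.mem_toSubmonoid, Subgroup.closure_toSubmonoid_of_finite] at hy
  refine ⟨2, Subtype.ext ?_⟩
  show y ^ p ^ 2 = 1
  have h4 : (y.1 - 1) ^ p ^ 2 = 0 := by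
    refine pow_eq_zero_of_le ?_ (hnil _ (hmem y hy'))
    calc 4 = 2 ^ 2 := rfl
      _ ≤ p ^ 2 := Nat.pow_le_pow_left (Fact.out : p.Prime).two_le 2
  refine Units.ext ?_
  rw [Units.val_pow_eq_pow_val, Units.val_one]
  have : y.1 = 1 + (y.1 - 1) := by abel
  rw [this, add_pow_char_pow_of_commute _ _ (Commute.one_left _), one_pow, h4, add_zero]

variable {q : ℕ} {K : Unitary.Conj F q}
variable {α β γ : Type} [Fintype α] [DecidableEq α] [Fintype β] [DecidableEq β] [Fintype γ] [DecidableEq γ]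

/-- A Kronecker product is the identity only for scalars. -/
theorem kron_eq_one [Nonempty α] [Nonempty β] {S : Matrix α α F} {T : Matrix β β F} (h : S ⊗ₖ T = 1) :
    ∃ c : F, c ≠ 0 ∧ S = c • 1 ∧ T = c⁻¹ • 1 := by
  obtain ⟨i⟩ := ‹Nonempty α›
  obtain ⟨k⟩ := ‹Nonempty β›
  have e : ∀ a a' b b', S a a' * T b b' = (1 : Matrix (α × β) (α × β) F) (a, b) (a', b') := fun a a' b b' => by
    rw [← h]; rfl
  have h1 : S i i * T k k = 1 := by rw [e, Matrix.one_apply_eq]
  have hT : T k k ≠ 0 := fun e0 => by rw [e0, mul_zero] at h1; exact zero_ne_one h1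
  have hS : S i i ≠ 0 := fun e0 => by rw [e0, zero_mul] at h1; exact zero_ne_one h1
  refine ⟨S i i, hS, ?_, ?_⟩
  · ext a a'
    have := e a a' k k
    rw [Matrix.one_apply] at this
    rw [Matrix.smul_apply, Matrix.one_apply, smul_eq_mul]
    by_cases ha : a = a'
    · rw [if_pos (by rw [ha])] at this
      rw [if_pos ha, mul_one, ← mul_left_inj' hT, this, h1]
    · rw [if_neg (fun e0 => ha (congrArg Prod.fst e0))] at this
      rw [if_neg ha, mul_zero]
      exact (mul_eq_zero.1 this).resolve_right hT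
  · ext b b'
    have := e i i b b'
    rw [Matrix.one_apply] at this
    rw [Matrix.smul_apply, Matrix.one_apply, smul_eq_mul]
    by_cases hb : b = b'
    · rw [if_pos (by rw [hb])] at this
      rw [if_pos hb, mul_one]
      exact eq_inv_of_mul_eq_one_right this
    · rw [if_neg (fun e0 => hb (congrArg Prod.snd e0))] at this
      rw [if_neg hb, mul_zero]
      exact (mul_eq_zero.1 this).resolve_left hS

theorem ten_zero_right (a : α → F) : ten a (0 : β → F) = 0 := by ext p; simp [ten]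

theorem ten_ne {a : α → F} {b : β → F} (ha : a ≠ 0) (hb : b ≠ 0) : ten a b ≠ 0 := by
  obtain ⟨i, hi⟩ := Function.ne_iff.1 ha
  obtain ⟨k, hk⟩ := Function.ne_iff.1 hb
  exact fun h => mul_ne_zero hi hk (congrFun h (i, k))

/-- Proportional pure tensors have proportional factors. -/
theorem eq_of_ten {a a' : α → F} {b b' : β → F} (ha : a ≠ 0) (h : ten a b = ten a' b') : ∃ r : F, b = r • b' := by
  obtain ⟨ψ, hψ⟩ := exists_dual_one ha
  have e := congrArg (sl ψ) h
  rw [sl_ten, sl_ten, hψ, one_smul] at e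
  exact ⟨_, e⟩

namespace IsHerm

variable {J : Matrix γ γ F} (hJ : IsHerm K J)
include hJ

theorem rk_mulVec (u v x : γ → F) : Rk K J u v *ᵥ x = (ph K J v ⬝ᵥ x) • u := by
  rw [Rk, Matrix.vecMulVec_mulVec, op_smul_eq_smul]

theorem rk_sq {u : γ → F} (hu : ph K J u ⬝ᵥ u = 0) : Rk K J u u * Rk K J u u = 0 := by
  rw [Rk, Matrix.vecMulVec_mul_vecMulVec, hu, zero_smul, Matrix.vecMulVec_zero]

/-- A vector of norm different from zero. -/
theorem exists_nonsingular {u v : γ → F} (hu : ph K J u ⬝ᵥ u = 0) (hv : ph K J v ⬝ᵥ v = 0)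
    (huv : ph K J u ⬝ᵥ v = 1) : ∃ a, ph K J a ⬝ᵥ a = 1 := by
  obtain ⟨k, hk⟩ := exists_tr K (a := (1 : F)) (map_one _)
  refine ⟨u + k • v, ?_⟩
  have hvu : ph K J v ⬝ᵥ u = 1 := by rw [hJ.swap, huv, map_one]
  simp only [ph_add, ph_smul, add_dotProduct, smul_dotProduct, dotProduct_add, dotProduct_smul, smul_eq_mul, hu, hv,
    huv, hvu, mul_zero, mul_one, zero_add, add_zero]
  rw [add_comm]; exact hk

/-- The identity of a plane. -/
theorem rk_pair (h2 : Fintype.card γ = 2) {u v : γ → F} (hu : ph K J u ⬝ᵥ u = 0) (hv : ph K J v ⬝ᵥ v = 0)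
    (huv : ph K J u ⬝ᵥ v = 1) : Rk K J u v + Rk K J v u = 1 := by
  have hvu : ph K J v ⬝ᵥ u = 1 := by rw [hJ.swap, huv, map_one]
  have hli : LinearIndependent F ![u, v] := by
    refine LinearIndependent.pair_iff.2 fun s t e => ?_
    have e1 := congrArg (ph K J u ⬝ᵥ ·) e
    have e2 := congrArg (ph K J v ⬝ᵥ ·) e
    simp only [dotProduct_add, dotProduct_smul, hu, hv, huv, hvu, smul_eq_mul, mul_zero, mul_one, add_zero, zero_add,
      dotProduct_zero] at e1 e2
    exact ⟨e2, e1⟩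
  refine Matrix.ext_iff_mulVec.2 fun x => ?_
  obtain ⟨c, hc⟩ := (Submodule.mem_span_range_iff_exists_fun F).1
    (show x ∈ Submodule.span F (Set.range ![u, v]) by
      rw [hli.span_eq_top_of_card_eq_finrank (by rw [Module.finrank_pi, h2, Fintype.card_fin])]; trivial)
  rw [Fin.sum_univ_two] at hc
  simp only [Matrix.cons_val_zero, Matrix.cons_val_one] at hc
  rw [← hc, Matrix.add_mulVec, hJ.rk_mulVec, hJ.rk_mulVec, Matrix.one_mulVec]
  simp only [dotProduct_add, dotProduct_smul, hu, hv, huv, hvu, smul_eq_mul, mul_zero, mul_one, add_zero, zero_add]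

theorem plane_dec (h2 : Fintype.card γ = 2) {u v : γ → F} (hu : ph K J u ⬝ᵥ u = 0) (hv : ph K J v ⬝ᵥ v = 0)
    (huv : ph K J u ⬝ᵥ v = 1) (x : γ → F) : (ph K J v ⬝ᵥ x) • u + (ph K J u ⬝ᵥ x) • v = x := by
  have := congrArg (· *ᵥ x) (hJ.rk_pair h2 hu hv huv)
  simpa only [Matrix.add_mulVec, hJ.rk_mulVec, Matrix.one_mulVec] using this

/-- An orthogonal basis of a space of dimension three. -/
theorem basis_three (h3 : Fintype.card γ = 3) {w z e : γ → F} (hw : ph K J w ⬝ᵥ w = 0) (hz : ph K J z ⬝ᵥ z = 0)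
    (hwz : ph K J w ⬝ᵥ z = 1) (hwe : ph K J w ⬝ᵥ e = 0) (hze : ph K J z ⬝ᵥ e = 0) (hee : ph K J e ⬝ᵥ e ≠ 0)
    (x : γ → F) :
    x = (ph K J z ⬝ᵥ x) • w + (ph K J w ⬝ᵥ x) • z + ((ph K J e ⬝ᵥ x) / (ph K J e ⬝ᵥ e)) • e := by
  have hzw : ph K J z ⬝ᵥ w = 1 := by rw [hJ.swap, hwz, map_one]
  have hli : LinearIndependent F ![w, z, e] := by
    refine Fintype.linearIndependent_iff.2 fun g hg => ?_
    simp only [Fin.sum_univ_three, Matrix.cons_val_zero, Matrix.cons_val_one, Matrix.cons_val] at hg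
    have e1 := congrArg (ph K J w ⬝ᵥ ·) hg
    have e2 := congrArg (ph K J z ⬝ᵥ ·) hg
    have e3 := congrArg (ph K J e ⬝ᵥ ·) hg
    simp only [dotProduct_add, dotProduct_smul, hw, hwz, hwe, hzw, hz, hze, hJ.orth_comm hwe, hJ.orth_comm hze,
      smul_eq_mul, mul_zero, mul_one, add_zero, zero_add, dotProduct_zero] at e1 e2 e3
    intro i
    fin_cases i
    exacts [e2, e1, (mul_eq_zero.1 e3).resolve_right hee]
  obtain ⟨c, hc⟩ := (Submodule.mem_span_range_iff_exists_fun F).1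
    (show x ∈ Submodule.span F (Set.range ![w, z, e]) by
      rw [hli.span_eq_top_of_card_eq_finrank (by rw [Module.finrank_pi, h3, Fintype.card_fin])]; trivial)
  simp only [Fin.sum_univ_three, Matrix.cons_val_zero, Matrix.cons_val_one, Matrix.cons_val] at hc
  rw [← hc]
  simp only [dotProduct_add, dotProduct_smul, hw, hwz, hwe, hzw, hz, hze, hJ.orth_comm hwe, hJ.orth_comm hze,
    smul_eq_mul, mul_zero, mul_one, add_zero, zero_add]
  rw [mul_div_cancel_right₀ _ hee]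

/-- Orthogonal isotropic vectors of a space of dimension three are proportional. -/
theorem iso_orth (h3 : Fintype.card γ = 3) {w y : γ → F} (hw : ph K J w ⬝ᵥ w = 0) (hw0 : w ≠ 0)
    (hy : ph K J y ⬝ᵥ y = 0) (hwy : ph K J w ⬝ᵥ y = 0) : ∃ c : F, y = c • w := by
  obtain ⟨z, hwz, hzw, hz⟩ := hJ.exists_dual hw hw0
  obtain ⟨e, hwe, hze, hee⟩ := hJ.exists_aniso (by omega) hw hz hwz
  refine ⟨ph K J z ⬝ᵥ y, ?_⟩
  have e1 := hJ.basis_three h3 hw hz hwz hwe hze hee y
  rw [hwy, zero_smul, add_zero] at e1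
  have h0 : (ph K J e ⬝ᵥ y) / (ph K J e ⬝ᵥ e) = 0 := by
    rw [e1] at hy
    generalize (ph K J e ⬝ᵥ y) / (ph K J e ⬝ᵥ e) = s at hy
    simp only [ph_add, ph_smul, add_dotProduct, smul_dotProduct, dotProduct_add, dotProduct_smul, smul_eq_mul, hw,
      hwe, hJ.orth_comm hwe, mul_zero, add_zero, zero_add] at hy
    rcases mul_eq_zero.1 hy with h | h
    · exact h
    · rcases mul_eq_zero.1 h with h | h
      · exact K.bar.injective (by rw [h, map_zero])
      · exact absurd h hee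
  rw [h0, zero_smul, add_zero] at e1
  exact e1

end IsHerm

variable {JA : Matrix α α F} {JB : Matrix β β F} {M : Subgroup (GL (α × β) F)}

/-- The stabiliser of `F^α ⊗ w`. -/
def st (w : β → F) : Subgroup (GL (α × β) F) where
  carrier := {g | ∃ A : Matrix α α F, g.1 * kc α w = kc α w * A}
  one_mem' := ⟨1, by rw [Units.val_one, Matrix.one_mul, Matrix.mul_one]⟩
  mul_mem' := by
    rintro a b ⟨A, hA⟩ ⟨B, hB⟩
    exact ⟨A * B, by rw [Units.val_mul, Matrix.mul_assoc, hB, ← Matrix.mul_assoc, hA, Matrix.mul_assoc]⟩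
  inv_mem' := by
    rintro a ⟨A, hA⟩
    have h1 : ∀ n : ℕ, (a ^ n).1 * kc α w = kc α w * A ^ n := fun n => by
      induction n with
      | zero => rw [pow_zero, pow_zero, Units.val_one, Matrix.one_mul, Matrix.mul_one]
      | succ n ih => rw [pow_succ, pow_succ, Units.val_mul, Matrix.mul_assoc, hA, ← Matrix.mul_assoc, ih,
          Matrix.mul_assoc]
    refine ⟨A ^ (orderOf a - 1), ?_⟩
    have e : a⁻¹ = a ^ (orderOf a - 1) := inv_eq_of_mul_eq_one_right (by
      rw [← pow_succ', Nat.sub_add_cancel (orderOf_pos a), pow_orderOf_eq_one])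
    rw [e]
    exact h1 _

theorem mem_st {w : β → F} {g : GL (α × β) F} : g ∈ st w ↔ ∃ A : Matrix α α F, g.1 * kc α w = kc α w * A :=
  Iff.rfl

theorem zm_one (JB : Matrix β β F) (w : β → F) :
    (Zm K JB w (1 : Matrix α α F) : Matrix (α × β) (α × β) F) = (1 : Matrix α α F) ⊗ₖ Rk K JB w w := by
  rw [zm_kron]; rfl

theorem zm_mulVec (JB : Matrix β β F) (w : β → F) (c : F) (a : α → F) (b : β → F) :
    Zm K JB w (c • (1 : Matrix α α F)) *ᵥ ten a b = (c * (ph K JB w ⬝ᵥ b)) • ten a w := by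
  rw [zm_smul, zm_kron, Matrix.smul_mulVec, kron_mulVec_ten, Matrix.one_mulVec, Matrix.vecMulVec_mulVec,
    op_smul_eq_smul, TensorSymp.ten_smul_right, smul_smul]

namespace Hyp

variable (H : Hyp K JA JB M)
include H

/-- A product moves `F^α ⊗ w` to a similar subspace. -/
theorem tens_line {n : GL (α × β) F} (hn : Iso K (JA ⊗ₖ JB) n.1) (hT : Tens n.1) {w : β → F}
    (hw : ph K JB w ⬝ᵥ w = 0) (hw0 : w ≠ 0) :
    ∃ (w' : β → F) (A : Matrix α α F), w' ≠ 0 ∧ ph K JB w' ⬝ᵥ w' = 0 ∧ n.1 * kc α w = kc α w' * A ∧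
      ∀ a : α → F, a ≠ 0 → A *ᵥ a ≠ 0 := by
  obtain ⟨S, T, hST⟩ := hT
  have hinj : ∀ p : α × β → F, n.1 *ᵥ p = 0 → p = 0 := fun p hp => by
    have := congrArg ((n⁻¹).1 *ᵥ ·) hp
    simpa only [Matrix.mulVec_mulVec, n.inv_mul, Matrix.one_mulVec, Matrix.mulVec_zero] using this
  obtain ⟨u, hu0, hu, -⟩ := H.hA.exists_iso_perp (fun i : Fin 0 => i.elim0) (by simpa using H.two_le)
  obtain ⟨v, huv, -, hv⟩ := H.hA.exists_dual hu hu0
  obtain ⟨a₀, ha₀⟩ := H.hA.exists_nonsingular hu hv huv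
  have hTw : T *ᵥ w ≠ 0 := fun e => by
    have ha : a₀ ≠ 0 := fun e0 => by rw [e0, dotProduct_zero] at ha₀; exact zero_ne_one ha₀
    exact ten_ne ha hw0 (hinj _ (by rw [hST, kron_mulVec_ten, e, ten_zero_right]))
  have hS : ∀ a : α → F, a ≠ 0 → S *ᵥ a ≠ 0 := fun a ha e => by
    exact ten_ne ha hw0 (hinj _ (by rw [hST, kron_mulVec_ten, e, ten_zero_left]))
  refine ⟨T *ᵥ w, S, hTw, ?_, by rw [hST, kron_mul_kc], hS⟩
  have hs : Function.Injective S.mulVecLin := LinearMap.ker_eq_bot.1 (LinearMap.ker_eq_bot'.2 fun a ha => by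
    by_contra h0; exact hS a h0 ha)
  obtain ⟨a, ha⟩ := LinearMap.injective_iff_surjective.1 hs a₀
  rw [Matrix.mulVecLin_apply] at ha
  have := H.hAB.dot_image hn (ten a w) (ten a w)
  rw [hST, kron_mulVec_ten, ph_ten_dot, ph_ten_dot, hw, mul_zero, ha, ha₀, one_mul] at this
  exact this

/-- A subgroup of prime power order containing a transvection of the second factor stabilises its subspace. -/
theorem pgroup_stab (hb : Fintype.card β = 3) (ha : Fintype.card α = 2) (hex : q = 2 → 3 ≤ Fintype.card α)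
    (hR : ¬ Root K JA JB M) {p : ℕ} [Fact p.Prime] {P : Subgroup (GL (α × β) F)} (hPM : P ≤ M) (hP : IsPGroup p P)
    {w : β → F} (hw : ph K JB w ⬝ᵥ w = 0) (hw0 : w ≠ 0) {θ : F} (hθ0 : θ ≠ 0) {x : GL (α × β) F}
    (hx : x.1 = 1 + Zm K JB w (θ • (1 : Matrix α α F))) (hxP : x ∈ P) : P ≤ st w := by
  haveI := H.nonempty_left
  have xapp : ∀ y : β → F, x.1 * kc α y = kc α y + (θ * (ph K JB w ⬝ᵥ y)) • kc α w := fun y => by
    rw [hx, Matrix.add_mul, Matrix.one_mul, zm_mul_kc, Matrix.mul_smul, Matrix.mul_one, smul_smul, mul_comm]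
  have hxst : (⟨x, hxP⟩ : P) ∈ (st w).subgroupOf P := by
    refine Subgroup.mem_subgroupOf.2 (mem_st.2 ⟨1, ?_⟩)
    rw [xapp, hw, mul_zero, zero_smul, add_zero, Matrix.mul_one]
  by_contra hle
  have hlt : (st w).subgroupOf P < ⊤ := lt_top_iff_ne_top.2 fun e => hle (Subgroup.subgroupOf_eq_top.1 e)
  haveI := hP.isNilpotent
  obtain ⟨n, hn, hn'⟩ := SetLike.exists_of_lt (Group.normalizerCondition_of_isNilpotent (G := P) _ hlt)
  have hc := (Subgroup.mem_normalizer_iff.1 hn _).1 hxst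
  obtain ⟨B, hB⟩ := mem_st.1 (Subgroup.mem_subgroupOf.1 hc)
  simp only [Subgroup.coe_mul, Subgroup.coe_inv] at hB
  have hnM : n.1 ∈ M := hPM n.2
  have hcM : n.1 * x * n.1⁻¹ ∈ M := M.mul_mem (M.mul_mem hnM (hPM hxP)) (M.inv_mem hnM)
  have hnT : Tens n.1.1 := H.tens_of_conj hex (by omega) hR hnM hw hw0 hθ0 hx
    (H.tens_of_stab (H.small_of_not_root hex hR) hcM hw hw0 hB)
  obtain ⟨y, A, hy0, hy, hA, hAinj⟩ := H.tens_line (H.iso_inv (H.isoM hnM))
    (tens_inv hnT n.1.mul_inv H.nonempty_left H.nonempty_right) hw hw0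
  have hyw : ∃ c : F, y = c • w := by
    by_cases h0 : ph K JB w ⬝ᵥ y = 0
    · exact H.hB.iso_orth hb hw hw0 hy h0
    obtain ⟨a, ha0⟩ : ∃ a : α → F, a ≠ 0 := ⟨fun _ => 1, fun e => one_ne_zero (congrFun e (Classical.arbitrary α))⟩
    have e1 : x.1 * (kc α y * A) = kc α y * (A * B) := by
      rw [← hA, ← Matrix.mul_assoc, ← Matrix.mul_assoc, ← hA, Matrix.mul_assoc _ (kc α w) B, ← hB,
        ← Matrix.mul_assoc, ← Units.val_mul, ← Units.val_mul, mul_assoc, inv_mul_cancel_left]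
    rw [← Matrix.mul_assoc, xapp, Matrix.add_mul, Matrix.smul_mul] at e1
    have e2 := congrArg (· *ᵥ a) e1
    simp only [Matrix.add_mulVec, Matrix.smul_mulVec, ← Matrix.mulVec_mulVec, kc_mulVec] at e2
    rw [← TensorSymp.ten_smul_left] at e2
    have e3 : ten ((θ * (ph K JB w ⬝ᵥ y)) • (A *ᵥ a)) w = ten (A *ᵥ (B *ᵥ a) - A *ᵥ a) y := by
      rw [← eq_sub_iff_add_eq'] at e2
      rw [e2]
      funext ⟨i, l⟩
      simp [ten, sub_mul]
    obtain ⟨r, hr⟩ := eq_of_ten (smul_ne_zero (mul_ne_zero hθ0 h0) (hAinj a ha0)) e3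
    have hr0 : r ≠ 0 := fun e => hw0 (by rw [hr, e, zero_smul])
    exact ⟨r⁻¹, by rw [hr, smul_smul, inv_mul_cancel₀ hr0, one_smul]⟩
  obtain ⟨c, rfl⟩ := hyw
  refine hn' (Subgroup.mem_subgroupOf.2 ?_)
  rw [← inv_mem_iff]
  exact mem_st.2 ⟨c • A, by rw [hA, kc_smul, Matrix.smul_mul, Matrix.mul_smul]⟩

/-- An element of a group of prime power order with a transvection of the second factor is a product. -/
theorem tens_of_pgroup (hb : Fintype.card β = 3) (ha : Fintype.card α = 2) (hex : q = 2 → 3 ≤ Fintype.card α)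
    (hR : ¬ Root K JA JB M) {p : ℕ} [Fact p.Prime] {P : Subgroup (GL (α × β) F)} (hPM : P ≤ M) (hP : IsPGroup p P)
    {w : β → F} (hw : ph K JB w ⬝ᵥ w = 0) (hw0 : w ≠ 0) {θ : F} (hθ0 : θ ≠ 0) {x : GL (α × β) F}
    (hx : x.1 = 1 + Zm K JB w (θ • (1 : Matrix α α F))) (hxP : x ∈ P) {k : GL (α × β) F} (hk : k ∈ P) :
    Tens k.1 := by
  obtain ⟨A, hA⟩ := mem_st.1 (H.pgroup_stab hb ha hex hR hPM hP hw hw0 hθ0 hx hxP hk)
  exact H.tens_of_stab (H.small_of_not_root hex hR) (hPM hk) hw hw0 hA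

/-- An element of `M` commuting with a transvection of the second factor is a product. -/
theorem tens_of_comm (hex : q = 2 → 3 ≤ Fintype.card α) (hR : ¬ Root K JA JB M) {w : β → F}
    (hw : ph K JB w ⬝ᵥ w = 0) (hw0 : w ≠ 0) {z : GL (α × β) F} (hz : z ∈ M)
    (h : z.1 * Zm K JB w (1 : Matrix α α F) = Zm K JB w 1 * z.1) : Tens z.1 := by
  obtain ⟨z₀, wz, -, -⟩ := H.hB.exists_dual hw hw0
  refine H.tens_of_stab (H.small_of_not_root hex hR) hz hw hw0
    (A := kr α (ph K JB w) * (z.1 * kc α z₀)) ?_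
  have e : kc α w = Zm K JB w (1 : Matrix α α F) * kc α z₀ := by
    rw [zm_mul_kc, wz, one_smul, Matrix.mul_one]
  conv_lhs => rw [e, ← Matrix.mul_assoc, h, Matrix.mul_assoc]
  rw [Zm, Matrix.mul_one, Matrix.mul_assoc]

end Hyp

end CfsgLib.Classical.TensorUnitary
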