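import Cfsg.Agent.Lib.Classical.TensorUnitary.SixLine

set_option autoImplicit false
set_option linter.unusedSectionVars false

/-!
Products of a Hermitian plane and a Hermitian space of dimension three in characteristic two: without roots an
element carries a transvection of the second factor to a Kronecker product, by means of the centralisers of the
involutions `(1 + c N) ⊗ (1 + d W)`.
-/

namespace CfsgLib.Classical.TensorUnitary

open Matrix CfsgLib.Classical.TensorMax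
open CfsgLib.Classical.TensorSymp (ten kc_mulVec kron_mulVec_ten)
open CfsgLib.ClassicalAut (Unitary.Conj)
open scoped MatrixGroups Kronecker

variable {F : Type*} [Field F] [Finite F] {q : ℕ} {K : Unitary.Conj F q}
variable {α β : Type} [Fintype α] [DecidableEq α] [Fintype β] [DecidableEq β]
variable {JA : Matrix α α F} {JB : Matrix β β F} {M : Subgroup (GL (α × β) F)}

/-- Two involutions which are not conjugate by their product have a central involution in their group. -/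
theorem exists_central {G : Type*} [Group G] [Finite G] {x k : G} (x2 : x * x = 1) (k2 : k * k = 1)
    (h : ∀ c : G, c * x * c⁻¹ ≠ k) :
    ∃ z ∈ Subgroup.closure ({x, k} : Set G), z * z = 1 ∧ z ≠ 1 ∧ z * x = x * z ∧ z * k = k * z := by
  obtain ⟨p, hp⟩ : ∃ p, p = x * k := ⟨_, rfl⟩
  have hxi : x⁻¹ = x := inv_eq_of_mul_eq_one_right x2
  have hki : k⁻¹ = k := inv_eq_of_mul_eq_one_right k2
  have xh : x * p * x⁻¹ = p⁻¹ := by rw [hp, _root_.mul_inv_rev, hxi, hki, ← mul_assoc x x, x2, one_mul]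
  have kh : k * p * k⁻¹ = p⁻¹ := by rw [hp, _root_.mul_inv_rev, hxi, hki, mul_assoc, mul_assoc, k2, mul_one]
  rcases Nat.even_or_odd (orderOf p) with ⟨l, hl⟩ | ⟨m, hm⟩
  · have hl0 : 0 < orderOf p := orderOf_pos p
    have hzz : p ^ l * p ^ l = 1 := by rw [← pow_add, ← hl, pow_orderOf_eq_one]
    have hzi : (p ^ l)⁻¹ = p ^ l := inv_eq_of_mul_eq_one_right hzz
    refine ⟨p ^ l, pow_mem (hp ▸ mul_mem (Subgroup.subset_closure (Set.mem_insert _ _))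
      (Subgroup.subset_closure (Set.mem_insert_of_mem _ (Set.mem_singleton k)))) _, hzz, fun e => ?_, ?_, ?_⟩
    · have := orderOf_le_of_pow_eq_one (by omega) e
      omega
    · have : x * p ^ l * x⁻¹ = p ^ l := by rw [← conj_pow, xh, inv_pow, hzi]
      rw [mul_inv_eq_iff_eq_mul] at this
      exact this.symm
    · have : k * p ^ l * k⁻¹ = p ^ l := by rw [← conj_pow, kh, inv_pow, hzi]
      rw [mul_inv_eq_iff_eq_mul] at this
      exact this.symm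
  · exfalso
    obtain ⟨c, hc⟩ : ∃ c, c = p ^ (m + 1) := ⟨_, rfl⟩
    have xc : x * c * x⁻¹ = c⁻¹ := by rw [hc, ← conj_pow, xh, inv_pow]
    refine h c⁻¹ ?_
    rw [inv_inv, ← xc, hxi, mul_assoc (x * c), x2, mul_one, mul_assoc, hc, ← pow_add,
      show m + 1 + (m + 1) = orderOf p + 1 by omega, pow_succ, pow_orderOf_eq_one, one_mul, hp, ← mul_assoc,
      x2, one_mul]

namespace Hyp

variable (H : Hyp K JA JB M)
include H

set_option maxHeartbeats 1600000 in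
/-- An element commuting with `(1 + c N) ⊗ (1 + d W)`. -/
theorem tens_of_twist (hb : Fintype.card β = 3) (ha : Fintype.card α = 2) (hex : q = 2 → 3 ≤ Fintype.card α)
    (hR : ¬ Root K JA JB M) (h2 : (2 : F) = 0) (hq : q ≠ 2) {u : α → F} (hu : ph K JA u ⬝ᵥ u = 0) (hu0 : u ≠ 0)
    {w₁ : β → F} (hw₁ : ph K JB w₁ ⬝ᵥ w₁ = 0) (hw₁0 : w₁ ≠ 0) {c d : F} (hc0 : c ≠ 0) (hd0 : d ≠ 0)
    (hc : c + K.bar c = 0) (hd : d + K.bar d = 0) {z : GL (α × β) F}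
    (hz : z.1 = (1 + c • Rk K JA u u) ⊗ₖ (1 + d • Rk K JB w₁ w₁)) {g : GL (α × β) F} (hg : g ∈ M) {w : β → F}
    (hw : ph K JB w ⬝ᵥ w = 0) (hw0 : w ≠ 0) {θ : F} (hθ0 : θ ≠ 0) (hθ : θ + K.bar θ = 0) {x : GL (α × β) F}
    (hx : x ∈ M) (hx' : x.1 = 1 + Zm K JB w (θ • (1 : Matrix α α F)))
    (hzk : z * (g * x * g⁻¹) = g * x * g⁻¹ * z) : Tens (g * x * g⁻¹).1 := by
  classical
  haveI := H.nonempty_left
  haveI := H.nonempty_right
  haveI : Fact (Nat.Prime 2) := ⟨Nat.prime_two⟩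
  haveI : CharP F 2 := (CharP.charP_iff_prime_eq_zero Nat.prime_two).2 (by exact_mod_cast h2)
  have neg2 : ∀ a : F, -a = a := fun a => by linear_combination (-a) * h2
  obtain ⟨v, huv, hvu, hv⟩ := H.hA.exists_dual hu hu0
  obtain ⟨z₀, wz, zw, zz⟩ := H.hB.exists_dual hw₁ hw₁0
  obtain ⟨y₀, wy, zy, yy⟩ := H.hB.exists_aniso (by omega) hw₁ zz wz
  obtain ⟨N, hN⟩ : ∃ N, N = Rk K JA u u := ⟨_, rfl⟩
  obtain ⟨W, hW⟩ : ∃ W, W = Rk K JB w₁ w₁ := ⟨_, rfl⟩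
  rw [← hN, ← hW] at hz
  have Nu : N *ᵥ u = 0 := by rw [hN, H.hA.rk_mulVec, hu, zero_smul]
  have Nv : N *ᵥ v = u := by rw [hN, H.hA.rk_mulVec, huv, one_smul]
  have Wap : ∀ b, W *ᵥ b = (ph K JB w₁ ⬝ᵥ b) • w₁ := fun b => hW ▸ H.hB.rk_mulVec _ _ b
  have hNN : N * N = 0 := hN ▸ H.hA.rk_sq hu
  have hWW : W * W = 0 := hW ▸ H.hB.rk_sq hw₁
  obtain ⟨A₁, hA₁⟩ : ∃ X : Matrix (α × β) (α × β) F, X = N ⊗ₖ (1 : Matrix β β F) := ⟨_, rfl⟩
  obtain ⟨B₁, hB₁⟩ : ∃ X : Matrix (α × β) (α × β) F, X = (1 : Matrix α α F) ⊗ₖ W := ⟨_, rfl⟩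
  obtain ⟨P, hP⟩ : ∃ X : Matrix (α × β) (α × β) F, X = N ⊗ₖ W := ⟨_, rfl⟩
  have hAB : A₁ * B₁ = P := by rw [hA₁, hB₁, hP, ← Matrix.mul_kronecker_mul, Matrix.mul_one, Matrix.one_mul]
  have hBA : B₁ * A₁ = P := by rw [hA₁, hB₁, hP, ← Matrix.mul_kronecker_mul, Matrix.mul_one, Matrix.one_mul]
  have hAA : A₁ * A₁ = 0 := by rw [hA₁, ← Matrix.mul_kronecker_mul, hNN, Matrix.zero_kronecker]
  have hBB : B₁ * B₁ = 0 := by rw [hB₁, ← Matrix.mul_kronecker_mul, hWW, Matrix.kronecker_zero]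
  have hAP : A₁ * P = 0 := by rw [← hAB, ← Matrix.mul_assoc, hAA, Matrix.zero_mul]
  have hPA : P * A₁ = 0 := by rw [← hBA, Matrix.mul_assoc, hAA, Matrix.mul_zero]
  have hBP : B₁ * P = 0 := by rw [← hBA, ← Matrix.mul_assoc, hBB, Matrix.zero_mul]
  have hPB : P * B₁ = 0 := by rw [← hAB, Matrix.mul_assoc, hBB, Matrix.mul_zero]
  have hPP : P * P = 0 := by rw [← hAB, Matrix.mul_assoc, hAB, hBP, Matrix.mul_zero]
  have hexp : ∀ a b : F, (1 + a • N) ⊗ₖ (1 + b • W) = 1 + (a • A₁ + b • B₁ + (a * b) • P) := fun a b => by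
    rw [hA₁, hB₁, hP, Matrix.add_kronecker, Matrix.kronecker_add, Matrix.kronecker_add, Matrix.one_kronecker_one,
      Matrix.smul_kronecker, Matrix.kronecker_smul, Matrix.smul_kronecker, Matrix.kronecker_smul, smul_smul]
    abel
  obtain ⟨Z, hZ⟩ : ∃ Z, Z = c • A₁ + d • B₁ + (c * d) • P := ⟨_, rfl⟩
  have hz' : z.1 = 1 + Z := by rw [hz, hexp, hZ]
  have hZA : Z * A₁ = d • P := by
    simp only [hZ, Matrix.add_mul, Matrix.smul_mul, hAA, hBA, hPA, smul_zero, zero_add, add_zero]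
  have hAZ : A₁ * Z = d • P := by
    simp only [hZ, Matrix.mul_add, Matrix.mul_smul, hAA, hAB, hAP, smul_zero, zero_add, add_zero]
  have hBZ : B₁ * Z = Z * B₁ := by
    simp only [hZ, Matrix.mul_add, Matrix.add_mul, Matrix.mul_smul, Matrix.smul_mul, hBA, hAB, hBB, hBP, hPB]
  have hZZ : Z * Z = 0 := by
    have h1 : Z * Z = (2 * (c * d)) • P := by
      simp only [hZ, Matrix.add_mul, Matrix.mul_add, Matrix.smul_mul, Matrix.mul_smul, hAA, hAB, hBA, hBB, hAP, hPA,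
        hBP, hPB, hPP, smul_zero, add_zero, zero_add, smul_smul]
      module
    rw [h1, h2, zero_mul, zero_smul]
  obtain ⟨θ₁, hθ₁0, hθ₁'⟩ := exists_skew K
  have hθ₁ : θ₁ + K.bar θ₁ = 0 := by rw [hθ₁', add_neg_cancel]
  obtain ⟨x₁, hx₁, hx₁', -⟩ := H.exists_root_elt (α := α) hw₁ hθ₁
  have hx₁e : x₁.1 = 1 + θ₁ • B₁ := by rw [hx₁', zm_smul, zm_one, hB₁, hW]
  obtain ⟨k, hk⟩ : ∃ k, k = g * x * g⁻¹ := ⟨_, rfl⟩
  rw [← hk] at hzk ⊢
  have hkM : k ∈ M := hk ▸ M.mul_mem (M.mul_mem hg hx) (M.inv_mem hg)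
  obtain ⟨G₀, hG₀⟩ : ∃ G₀, G₀ = Subgroup.closure ({x₁, k} : Set (GL (α × β) F)) := ⟨_, rfl⟩
  have hG₀M : G₀ ≤ M := hG₀ ▸ (Subgroup.closure_le _).2 (by rintro y (rfl | rfl); exacts [hx₁, hkM])
  have hGz : ∀ y ∈ G₀, y.1 * Z = Z * y.1 := by
    have hxz : z * x₁ = x₁ * z := Units.ext (by
      simp only [Units.val_mul, hz', hx₁e, Matrix.add_mul, Matrix.mul_add, Matrix.mul_smul, Matrix.smul_mul,
        Matrix.one_mul, Matrix.mul_one, hBZ]
      module)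
    intro y hy
    have hc' : y ∈ Subgroup.centralizer ({z} : Set (GL (α × β) F)) := by
      refine (show G₀ ≤ _ from hG₀ ▸ (Subgroup.closure_le _).2 ?_) hy
      rintro y' (rfl | rfl)
      · exact Subgroup.mem_centralizer_singleton_iff.2 hxz.symm
      · exact Subgroup.mem_centralizer_singleton_iff.2 hzk.symm
    have e := congrArg Units.val (Subgroup.mem_centralizer_singleton_iff.1 hc')
    rw [Units.val_mul, Units.val_mul, hz', Matrix.mul_add, Matrix.add_mul, Matrix.mul_one, Matrix.one_mul,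
      add_right_inj] at e
    exact e
  obtain ⟨r, hrr, hr0, hrr1⟩ := exists_real K hq
  have hskew : ∀ a : F, a + K.bar a = 0 → r * a + K.bar (r * a) = 0 := fun a h => by
    rw [map_mul, hrr]; linear_combination r * h
  obtain ⟨n, hn, hn'⟩ := H.inM_kron (H.hA.iso_tau hu (hskew c hc)) (H.hB.iso_tau hw₁ (hskew d hd))
    (det_tau K hu _) (det_tau K hw₁ _)
  obtain ⟨β', hβ'⟩ : ∃ β', β' = (r * r - r) * (c * d) := ⟨_, rfl⟩
  have hβ0 : β' ≠ 0 := hβ' ▸ mul_ne_zero hrr1 (mul_ne_zero hc0 hd0)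
  obtain ⟨Q, hQ⟩ : ∃ Q, Q = r • (1 : Matrix (α × β) (α × β) F) + ((r * r - r) * c) • A₁ := ⟨_, rfl⟩
  have hn1 : n.1 = 1 + (r • Z + β' • P) := by
    rw [hn', show tau K JA u (r * c) = 1 + (r * c) • N from hN ▸ rfl,
      show tau K JB w₁ (r * d) = 1 + (r * d) • W from hW ▸ rfl, hexp, hZ, hβ']
    module
  have hZQ : Z * Q = r • Z + β' • P := by
    rw [hQ, Matrix.mul_add, Matrix.mul_smul, Matrix.mul_smul, Matrix.mul_one, hZA, smul_smul, hβ']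
    module
  have hQZ : Q * Z = Z * Q := by
    rw [hQ, Matrix.add_mul, Matrix.mul_add, Matrix.smul_mul, Matrix.smul_mul, Matrix.mul_smul, Matrix.mul_smul,
      hAZ, hZA, Matrix.one_mul, Matrix.mul_one]
  obtain ⟨e₀, he₀⟩ : ∃ e₀, e₀ = ten u w₁ := ⟨_, rfl⟩
  have hPap : ∀ p, ∃ s : F, P *ᵥ p = s • e₀ := fun p => ⟨ph K JB w₁ ⬝ᵥ sl (ph K JA u) p, by
    conv_lhs => rw [← H.plane_vec ha hu hv huv p]
    rw [hP, Matrix.mulVec_add, kron_mulVec_ten, kron_mulVec_ten, Nu, Nv, Wap, Wap, ten_zero_left, zero_add,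
      TensorSymp.ten_smul_right, he₀]⟩
  -- the line is stable
  have hline : ∀ y ∈ G₀, ∃ s : F, y.1 *ᵥ e₀ = s • e₀ := by
    intro y hy
    obtain ⟨Q', hQ'⟩ : ∃ Q', Q' = y.1 * Q * (y⁻¹).1 := ⟨_, rfl⟩
    obtain ⟨m, hm⟩ : ∃ m, m = y * n * y⁻¹ := ⟨_, rfl⟩
    have hmM : m ∈ M := hm ▸ M.mul_mem (M.mul_mem (hG₀M hy) hn) (M.inv_mem (hG₀M hy))
    have hmv : m.1 = 1 + Z * Q' := by
      rw [hm, Units.val_mul, Units.val_mul, hn1, ← hZQ, Matrix.mul_add, Matrix.mul_one, Matrix.add_mul, y.mul_inv,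
        hQ', ← Matrix.mul_assoc, hGz y hy, Matrix.mul_assoc Z, Matrix.mul_assoc Z]
    have hZQZ : Z * Q' * Z = 0 := by
      have hyi : (y⁻¹).1 * Z = Z * (y⁻¹).1 := hGz _ (inv_mem hy)
      rw [hQ', Matrix.mul_assoc Z, Matrix.mul_assoc (y.1 * Q), hyi, Matrix.mul_assoc y.1, ← Matrix.mul_assoc Q, hQZ,
        Matrix.mul_assoc Z Q, ← Matrix.mul_assoc y.1, hGz y hy, Matrix.mul_assoc Z, ← Matrix.mul_assoc Z Z, hZZ,
        Matrix.zero_mul]
    have hsq : ∀ A B : Matrix (α × β) (α × β) F, Z * A * Z = 0 → ∀ a b : F,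
        (a • B₁ + Z * A) * (b • B₁ + Z * B) = (0 : F) • B₁ + Z * (a • (B₁ * B) + b • (A * B₁)) := by
      intro A B hA a b
      simp only [Matrix.add_mul, Matrix.mul_add, Matrix.smul_mul, Matrix.mul_smul, hBB, smul_zero, zero_smul,
        zero_add, ← Matrix.mul_assoc, hBZ, hA, Matrix.zero_mul, add_zero]
      abel
    have hP2 := isPGroup_of_nil 2 (S := ({x₁, m} : Set (GL (α × β) F)))
      {X | ∃ (a : F) (A : Matrix (α × β) (α × β) F), X = a • B₁ + Z * A ∧ Z * A * Z = 0}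
      ⟨0, 0, by rw [zero_smul, Matrix.mul_zero, add_zero], by rw [Matrix.mul_zero, Matrix.zero_mul]⟩ (by
        rintro p (rfl | rfl)
        · exact ⟨θ₁, 0, by rw [hx₁e, Matrix.mul_zero, add_zero, add_sub_cancel_left],
            by rw [Matrix.mul_zero, Matrix.zero_mul]⟩
        · exact ⟨0, Q', by rw [hmv, zero_smul, zero_add, add_sub_cancel_left], hZQZ⟩)
      (by
        rintro _ ⟨a, A, rfl, hA⟩ _ ⟨b, B, rfl, hB⟩
        refine ⟨a + b, A + B, by rw [Matrix.mul_add]; module, ?_⟩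
        rw [Matrix.mul_add, Matrix.add_mul, hA, hB, add_zero])
      (by
        rintro _ ⟨a, A, rfl, hA⟩ _ ⟨b, B, rfl, hB⟩
        refine ⟨0, _, hsq A B hA a b, ?_⟩
        rw [Matrix.mul_add, Matrix.add_mul, Matrix.mul_smul, Matrix.mul_smul, Matrix.smul_mul, Matrix.smul_mul,
          show Z * (B₁ * B) * Z = B₁ * (Z * B * Z) by rw [← Matrix.mul_assoc Z, ← hBZ]; simp only [Matrix.mul_assoc],
          show Z * (A * B₁) * Z = Z * A * Z * B₁ by simp only [Matrix.mul_assoc, hBZ],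
          hA, hB, Matrix.mul_zero, Matrix.zero_mul, smul_zero, smul_zero, add_zero])
      (by
        rintro _ ⟨a, A, rfl, hA⟩
        have h1 : Z * (a • (B₁ * A) + a • (A * B₁)) * Z = 0 := by
          rw [Matrix.mul_add, Matrix.add_mul, Matrix.mul_smul, Matrix.mul_smul, Matrix.smul_mul, Matrix.smul_mul,
            show Z * (B₁ * A) * Z = B₁ * (Z * A * Z) by
              rw [← Matrix.mul_assoc Z, ← hBZ]; simp only [Matrix.mul_assoc],
            show Z * (A * B₁) * Z = Z * A * Z * B₁ by simp only [Matrix.mul_assoc, hBZ],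
            hA, Matrix.mul_zero, Matrix.zero_mul, smul_zero, add_zero]
        rw [show (4 : ℕ) = 2 + 2 from rfl, pow_add, pow_two, hsq A A hA a a, zero_smul, zero_add, ← Matrix.mul_assoc,
          h1, Matrix.zero_mul])
    have hmT : Tens m.1 := H.tens_of_pgroup hb ha hex hR (P := Subgroup.closure {x₁, m})
      ((Subgroup.closure_le _).2 (by rintro p (rfl | rfl); exacts [hx₁, hmM])) hP2 hw₁ hw₁0 hθ₁0 hx₁'
      (Subgroup.subset_closure (Set.mem_insert _ _))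
      (Subgroup.subset_closure (Set.mem_insert_of_mem _ (Set.mem_singleton m)))
    obtain ⟨S, T, hST⟩ := hmT
    have hfix : ∀ p, m.1 *ᵥ (Z *ᵥ p) = Z *ᵥ p := fun p => by
      rw [Matrix.mulVec_mulVec, hmv, Matrix.add_mul, Matrix.one_mul, hZQZ, add_zero]
    have Zv : ∀ b, Z *ᵥ ten v b = c • ten u b + (d * (ph K JB w₁ ⬝ᵥ b)) • ten v w₁ +
        (c * d * (ph K JB w₁ ⬝ᵥ b)) • ten u w₁ := fun b => by
      rw [hZ, hA₁, hB₁, hP, Matrix.add_mulVec, Matrix.add_mulVec, Matrix.smul_mulVec, Matrix.smul_mulVec,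
        Matrix.smul_mulVec, kron_mulVec_ten, kron_mulVec_ten, kron_mulVec_ten, Matrix.one_mulVec, Matrix.one_mulVec,
        Nv, Wap, TensorSymp.ten_smul_right, TensorSymp.ten_smul_right, smul_smul, smul_smul]
    have hfu : ∀ b, ph K JB w₁ ⬝ᵥ b = 0 → ten (S *ᵥ u) (T *ᵥ b) = ten u b := fun b hb' => by
      have e := hfix (ten v b)
      rw [Zv, hb', mul_zero, mul_zero, zero_smul, zero_smul, add_zero, add_zero, Matrix.mulVec_smul, hST,
        kron_mulVec_ten] at e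
      exact smul_right_injective _ hc0 e
    have e1 := congrArg (sl (ph K JA v)) (hfu w₁ hw₁)
    rw [sl_ten, sl_ten, hvu, one_smul] at e1
    obtain ⟨a, ha'⟩ : ∃ a, a = ph K JA v ⬝ᵥ (S *ᵥ u) := ⟨_, rfl⟩
    rw [← ha'] at e1
    have ha0 : a ≠ 0 := fun e => hw₁0 (by rw [← e1, e, zero_smul])
    obtain ⟨S', hS'⟩ : ∃ S', S' = a⁻¹ • S := ⟨_, rfl⟩
    obtain ⟨T', hT'⟩ : ∃ T', T' = a • T := ⟨_, rfl⟩
    have hm' : m.1 = S' ⊗ₖ T' := by
      rw [hST, hS', hT', Matrix.smul_kronecker, Matrix.kronecker_smul, smul_smul, inv_mul_cancel₀ ha0, one_smul]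
    have Tw : T' *ᵥ w₁ = w₁ := by rw [hT', Matrix.smul_mulVec, e1]
    have hfu' : ∀ b, ph K JB w₁ ⬝ᵥ b = 0 → ten (S' *ᵥ u) (T' *ᵥ b) = ten u b := fun b hb' => by
      rw [hS', hT', Matrix.smul_mulVec, Matrix.smul_mulVec, TensorSymp.ten_smul_left, TensorSymp.ten_smul_right,
        smul_smul, inv_mul_cancel₀ ha0, one_smul, hfu b hb']
    have Su : S' *ᵥ u = u := by
      have e := congrArg (kr α (ph K JB z₀) *ᵥ ·) (hfu' w₁ hw₁)
      simp only [Tw, kr_mulVec_ten, zw, one_smul] at e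
      exact e
    have Ty : T' *ᵥ y₀ = y₀ := by
      have e := congrArg (sl (ph K JA v)) (hfu' y₀ wy)
      rwa [Su, sl_ten, sl_ten, hvu, one_smul, one_smul] at e
    have e2 := hfix (ten v z₀)
    rw [Zv, wz, mul_one, mul_one, Matrix.mulVec_add, Matrix.mulVec_add, Matrix.mulVec_smul, Matrix.mulVec_smul,
      Matrix.mulVec_smul, hm', kron_mulVec_ten, kron_mulVec_ten, kron_mulVec_ten, Su, Tw, add_left_inj] at e2
    obtain ⟨s, hs⟩ : ∃ s, s = ph K JA v ⬝ᵥ (S' *ᵥ v) := ⟨_, rfl⟩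
    have e3 := congrArg (sl (ph K JA v)) e2
    have e4 := congrArg (sl (ph K JA u)) e2
    simp only [map_add, map_smul, sl_ten, hvu, hv, hu, huv, ← hs, zero_smul, smul_zero, one_smul, add_zero,
      zero_add] at e3 e4
    have Tz : T' *ᵥ z₀ = z₀ + (-(d * s) / c) • w₁ := by
      refine smul_right_injective _ hc0 ?_
      show c • (T' *ᵥ z₀) = c • (z₀ + (-(d * s) / c) • w₁)
      rw [smul_add, smul_smul, mul_div_cancel₀ _ hc0, neg_smul, ← sub_eq_add_neg, eq_sub_iff_add_eq]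
      rw [smul_smul] at e3
      exact e3
    have hus : ph K JA u ⬝ᵥ (S' *ᵥ v) = 1 := by
      refine smul_left_injective F hw₁0 ?_
      refine smul_right_injective _ hd0 ?_
      show d • _ = d • ((1 : F) • w₁)
      rw [one_smul]; exact e4
    have Sv : S' *ᵥ v = v + s • u := by
      rw [← H.hA.plane_dec ha hu hv huv (S' *ᵥ v), ← hs, hus, one_smul, add_comm]
    obtain ⟨t, ht⟩ : ∃ t, t = -(d * s) / c := ⟨_, rfl⟩
    rw [← ht] at Tz
    have hT'' : T' = 1 + t • W := Matrix.ext_iff_mulVec.2 fun b => by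
      rw [Matrix.add_mulVec, Matrix.one_mulVec, Matrix.smul_mulVec, Wap, smul_smul]
      conv_lhs => rw [H.hB.basis_three hb hw₁ zz wz wy zy yy b]
      simp only [Matrix.mulVec_add, Matrix.mulVec_smul, Tw, Ty, Tz, smul_add, smul_smul]
      conv_rhs => lhs; rw [H.hB.basis_three hb hw₁ zz wz wy zy yy b]
      module
    have hS'' : S' = 1 + s • N := Matrix.ext_iff_mulVec.2 fun b => by
      rw [← H.hA.plane_dec ha hu hv huv b]
      simp only [Matrix.mulVec_add, Matrix.mulVec_smul, Su, Sv, Matrix.add_mulVec, Matrix.one_mulVec,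
        Matrix.smul_mulVec, Nu, Nv, smul_zero, add_zero]
    have hm1 : Z * Q' = (s / c) • Z + (s * t - s * d) • P := by
      have e : m.1 = 1 + (s • A₁ + t • B₁ + (s * t) • P) := by rw [hm', hS'', hT'', hexp]
      rw [hmv, add_right_inj] at e
      rw [e, hZ, ht, neg2]
      have e1 : s / c * c = s := div_mul_cancel₀ _ hc0
      linear_combination (norm := module) -(e1 • A₁) - (e1 * d) • P
    obtain ⟨C, hC⟩ : ∃ C, C = y.1 * P * (y⁻¹).1 := ⟨_, rfl⟩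
    have hC1 : β' • C = (s / c - r) • Z + (s * t - s * d) • P := by
      have h0 : Z * Q' = r • Z + β' • C := by
        rw [hQ', hC, ← Matrix.mul_assoc, ← Matrix.mul_assoc, ← hGz y hy, Matrix.mul_assoc y.1, hZQ, Matrix.mul_add,
          Matrix.mul_smul, Matrix.mul_smul, Matrix.add_mul, Matrix.smul_mul, Matrix.smul_mul, hGz y hy,
          Matrix.mul_assoc Z, y.mul_inv, Matrix.mul_one]
      rw [hm1] at h0
      linear_combination (norm := module) -h0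
    have hCap : ∀ p, ∃ s' : F, C *ᵥ p = s' • (y.1 *ᵥ e₀) := fun p => by
      obtain ⟨s', hs'⟩ := hPap ((y⁻¹).1 *ᵥ p)
      exact ⟨s', by rw [hC, ← Matrix.mulVec_mulVec, ← Matrix.mulVec_mulVec, hs', Matrix.mulVec_smul]⟩
    have hα : s / c - r = 0 := by
      by_contra hα
      have hev : ∀ b, ph K JB w₁ ⬝ᵥ b = 0 → ∃ s' : F, ten u b = s' • (y.1 *ᵥ e₀) := fun b hb' => by
        obtain ⟨s', hs'⟩ := hCap (ten v b)
        have e := congrArg (· *ᵥ ten v b) hC1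
        simp only [Matrix.add_mulVec, Matrix.smul_mulVec, hs', Zv, hb', mul_zero, zero_smul, add_zero, hP,
          kron_mulVec_ten, Wap, ten_zero_right, smul_zero, smul_smul] at e
        refine ⟨((s / c - r) * c)⁻¹ * (β' * s'), ?_⟩
        rw [mul_smul _ (β' * s'), e, smul_smul, inv_mul_cancel₀ (mul_ne_zero hα hc0), one_smul]
      obtain ⟨s₁, hs₁⟩ := hev w₁ hw₁
      obtain ⟨s₂, hs₂⟩ := hev y₀ wy
      have hs₁0 : s₁ ≠ 0 := fun e => ten_ne hu0 hw₁0 (by rw [hs₁, e, zero_smul])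
      have e5 : ten u y₀ = ten u ((s₂ / s₁) • w₁) := by
        rw [TensorSymp.ten_smul_right, hs₁, smul_smul, div_mul_cancel₀ _ hs₁0, ← hs₂]
      have e6 := congrArg (sl (ph K JA v)) e5
      rw [sl_ten, sl_ten, hvu, one_smul, one_smul] at e6
      exact yy (by rw [e6, ph_smul, smul_dotProduct, dotProduct_smul, hw₁, smul_zero, smul_zero])
    rw [hα, zero_smul, zero_add] at hC1
    have hPz : P *ᵥ ten v z₀ = e₀ := by
      rw [hP, kron_mulVec_ten, Nv, Wap, wz, one_smul, he₀]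
    obtain ⟨s', hs'⟩ := hPap (y.1 *ᵥ ten v z₀)
    have e7 := congrArg (· *ᵥ (y.1 *ᵥ ten v z₀)) hC1
    simp only [Matrix.smul_mulVec, hs', smul_smul] at e7
    rw [hC, Matrix.mulVec_mulVec, Matrix.mul_assoc _ (y⁻¹).1, y.inv_mul, Matrix.mul_one, ← Matrix.mulVec_mulVec,
      hPz] at e7
    exact ⟨β'⁻¹ * ((s * t - s * d) * s'), by rw [mul_smul, ← e7, smul_smul, inv_mul_cancel₀ hβ0, one_smul]⟩
  -- a conjugate of `k` near `x₁`
  obtain ⟨X, hX⟩ : ∃ X, X = Zm K JB w (θ • (1 : Matrix α α F)) := ⟨_, rfl⟩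
  have hkv : k.1 = 1 + g.1 * X * (g⁻¹).1 := by
    rw [hk, Units.val_mul, Units.val_mul, hx', ← hX, Matrix.mul_add, Matrix.mul_one, Matrix.add_mul, g.mul_inv]
  have hsingle : ∀ {p : GL (α × β) F} {B : Matrix (α × β) (α × β) F}, p.1 = 1 + B → B * B = 0 →
      IsPGroup 2 (Subgroup.closure ({p} : Set (GL (α × β) F))) := fun {p B} hp hB =>
    isPGroup_of_nil 2 {Y | ∃ a : F, Y = a • B} ⟨0, by rw [zero_smul]⟩
      (by rintro y rfl; exact ⟨1, by rw [hp, add_sub_cancel_left, one_smul]⟩)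
      (by rintro _ ⟨a, rfl⟩ _ ⟨b, rfl⟩; exact ⟨a + b, by rw [add_smul]⟩)
      (by rintro _ ⟨a, rfl⟩ _ ⟨b, rfl⟩; exact ⟨0, by rw [Matrix.smul_mul, Matrix.mul_smul, hB, smul_zero, smul_zero,
        zero_smul]⟩)
      (by
        rintro _ ⟨a, rfl⟩
        rw [show (4 : ℕ) = 2 + 2 from rfl, pow_add, pow_two,
          show a • B * (a • B) = 0 by rw [Matrix.smul_mul, Matrix.mul_smul, hB, smul_zero, smul_zero], zero_mul])
  have hXX : g.1 * X * (g⁻¹).1 * (g.1 * X * (g⁻¹).1) = 0 := by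
    rw [Matrix.mul_assoc, Matrix.mul_assoc, ← Matrix.mul_assoc (g⁻¹).1, ← Matrix.mul_assoc (g⁻¹).1, g.inv_mul,
      Matrix.one_mul, ← Matrix.mul_assoc X, hX, zm_mul K JB hw, Matrix.zero_mul, Matrix.mul_zero]
  have hx₁G : x₁ ∈ G₀ := hG₀ ▸ Subgroup.subset_closure (Set.mem_insert _ _)
  have hkG : k ∈ G₀ := hG₀ ▸ Subgroup.subset_closure (Set.mem_insert_of_mem _ (Set.mem_singleton k))
  obtain ⟨P₁, hP₁⟩ := IsPGroup.exists_le_sylow
    ((hsingle hx₁e (by rw [Matrix.smul_mul, Matrix.mul_smul, hBB, smul_zero, smul_zero])).comap_of_injective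
      G₀.subtype Subtype.coe_injective)
  obtain ⟨P₂, hP₂⟩ := IsPGroup.exists_le_sylow
    ((hsingle hkv hXX).comap_of_injective G₀.subtype Subtype.coe_injective)
  obtain ⟨cc, hcc⟩ := MulAction.exists_smul_eq G₀ P₁ P₂
  have hk₂ : (⟨k, hkG⟩ : G₀) ∈ (P₂ : Subgroup G₀) := hP₂ (Subgroup.subset_closure rfl)
  rw [← hcc, Sylow.coe_subgroup_smul, Subgroup.mem_pointwise_smul_iff_inv_smul_mem] at hk₂
  obtain ⟨H₁, hH₁⟩ : ∃ H₁, H₁ = (P₁ : Subgroup G₀).map G₀.subtype := ⟨_, rfl⟩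
  have hH₁p : IsPGroup 2 H₁ := hH₁ ▸ P₁.isPGroup'.map _
  have hH₁M : H₁ ≤ M := hH₁ ▸ (Subgroup.map_subtype_le _).trans hG₀M
  have hx₁H : x₁ ∈ H₁ := hH₁ ▸ ⟨⟨x₁, hx₁G⟩, hP₁ (Subgroup.subset_closure rfl), rfl⟩
  obtain ⟨c₁, hc₁⟩ : ∃ c₁, c₁ = (cc : GL (α × β) F) := ⟨_, rfl⟩
  have hk'H : c₁⁻¹ * k * c₁ ∈ H₁ := by
    rw [hH₁]
    refine ⟨_, hk₂, ?_⟩
    rw [hc₁]
    simp [MulAut.conj_apply, MulAut.smul_def, mul_assoc]
  have hc₁G : c₁ ∈ G₀ := hc₁ ▸ cc.2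
  obtain ⟨g', hg'⟩ : ∃ g', g' = c₁⁻¹ * g := ⟨_, rfl⟩
  have hg'M : g' ∈ M := hg' ▸ M.mul_mem (M.inv_mem (hG₀M hc₁G)) hg
  have hk' : c₁⁻¹ * k * c₁ = g' * x * g'⁻¹ := by rw [hg', hk]; group
  rw [hk'] at hk'H
  have hg'T := H.tens_of_conj hex (by omega) hR hg'M hw hw0 hθ0 hx'
    (H.tens_of_pgroup hb ha hex hR hH₁M hH₁p hw₁ hw₁0 hθ₁0 hx₁' hx₁H hk'H)
  obtain ⟨w', A, hw'0, hw', hA, hAinj⟩ := H.tens_line (H.isoM hg'M) hg'T hw hw0
  obtain ⟨C, hC⟩ : ∃ C, C = θ • (A * adj K JA A) := ⟨_, rfl⟩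
  have hk'v : (g' * x * g'⁻¹).1 = 1 + Zm K JB w' C := by
    rw [Units.val_mul, Units.val_mul, hx', Matrix.mul_add, Matrix.mul_one, Matrix.add_mul, g'.mul_inv]
    congr 1
    rw [hC, zm_smul, zm_smul, Matrix.mul_smul, Matrix.smul_mul, Zm, Zm, Matrix.mul_one, ← Matrix.mul_assoc g'.1, hA,
      Matrix.mul_assoc _ (kr α (ph K JB w)), H.adjoint_line (H.isoM hg'M) hA]
    simp only [Matrix.mul_assoc]
  obtain ⟨ρ, hρ⟩ := H.small_of_not_root hex hR w' hw' hw'0 C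
    ⟨_, M.mul_mem (M.mul_mem hg'M hx) (M.inv_mem hg'M), hk'v⟩
  rw [hρ] at hk'v
  obtain ⟨B, hB⟩ := mem_st.1 (H.pgroup_stab hb ha hex hR hH₁M hH₁p hw₁ hw₁0 hθ₁0 hx₁' hx₁H hk'H)
  have hw'w : ρ = 0 ∨ ∃ s : F, w' = s • w₁ := by
    by_cases hρ0 : ρ = 0
    · exact Or.inl hρ0
    refine Or.inr ?_
    by_cases h0 : ph K JB w' ⬝ᵥ w₁ = 0
    · exact H.hB.iso_orth hb hw₁ hw₁0 hw' (H.hB.orth_comm h0)
    obtain ⟨a, ha0⟩ : ∃ a : α → F, a ≠ 0 := ⟨fun _ => 1, fun e => one_ne_zero (congrFun e (Classical.arbitrary α))⟩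
    have e := congrArg (· *ᵥ a) hB
    simp only [← Matrix.mulVec_mulVec, kc_mulVec, hk'v, Matrix.add_mulVec, Matrix.one_mulVec, zm_mulVec] at e
    rw [← TensorSymp.ten_smul_left, ← eq_sub_iff_add_eq'] at e
    have e' : ten ((ρ * (ph K JB w' ⬝ᵥ w₁)) • a) w' = ten (B *ᵥ a - a) w₁ := by
      rw [e]; funext ⟨i, l⟩; simp [ten, sub_mul]
    exact eq_of_ten (smul_ne_zero (mul_ne_zero hρ0 h0) ha0) e'
  obtain ⟨σ, hσ⟩ : ∃ σ : F, (g' * x * g'⁻¹).1 = 1 + σ • B₁ := by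
    rcases hw'w with h0 | ⟨s, hs⟩
    · exact ⟨0, by rw [hk'v, h0, zero_smul, zero_smul, Zm, Matrix.mul_zero, Matrix.zero_mul]⟩
    · exact ⟨s * K.bar s * ρ, by rw [hk'v, hs, zm_smul_vec, smul_smul, zm_smul, zm_one, hB₁, hW]⟩
  -- both generators preserve a flag
  obtain ⟨hc₁i, hc₁l⟩ : (∃ s : F, (c₁⁻¹).1 *ᵥ e₀ = s • e₀) ∧ ∃ s : F, c₁.1 *ᵥ e₀ = s • e₀ :=
    ⟨hline _ (inv_mem hc₁G), hline _ hc₁G⟩
  have hdec : ∀ p, ph K (JA ⊗ₖ JB) e₀ ⬝ᵥ p = ph K JB w₁ ⬝ᵥ sl (ph K JA u) p := fun p => by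
    conv_lhs => rw [← H.plane_vec ha hu hv huv p]
    rw [he₀, dotProduct_add, ph_ten_dot, ph_ten_dot, hu, huv, zero_mul, one_mul, zero_add]
  have hBap : ∀ p, B₁ *ᵥ p = (ph K JB w₁ ⬝ᵥ sl (ph K JA v) p) • e₀ + (ph K (JA ⊗ₖ JB) e₀ ⬝ᵥ p) • ten v w₁ := by
    intro p
    rw [hdec]
    conv_lhs => rw [← H.plane_vec ha hu hv huv p]
    rw [hB₁, Matrix.mulVec_add, kron_mulVec_ten, kron_mulVec_ten, Matrix.one_mulVec, Matrix.one_mulVec, Wap, Wap,
      TensorSymp.ten_smul_right, TensorSymp.ten_smul_right, he₀]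
  have hev : ph K (JA ⊗ₖ JB) e₀ ⬝ᵥ e₀ = 0 := by rw [he₀, ph_ten_dot, hu, zero_mul]
  have hB₁F : (∀ p, ph K (JA ⊗ₖ JB) e₀ ⬝ᵥ (B₁ *ᵥ p) = 0) ∧
      (∀ p, ph K (JA ⊗ₖ JB) e₀ ⬝ᵥ p = 0 → ∃ s : F, B₁ *ᵥ p = s • e₀) ∧ B₁ *ᵥ e₀ = 0 := by
    refine ⟨fun p => ?_, fun p hp => ⟨_, by rw [hBap, hp, zero_smul, add_zero]⟩, ?_⟩
    · rw [hBap, dotProduct_add, dotProduct_smul, dotProduct_smul, hev, he₀, ph_ten_dot (K := K) JA JB u v w₁ w₁, hw₁, mul_zero,
        smul_zero, smul_zero, add_zero]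
    · rw [he₀, hB₁, kron_mulVec_ten, Wap, hw₁, zero_smul, ten_zero_right]
  obtain ⟨Fl, hFl⟩ : ∃ Fl : Set (Matrix (α × β) (α × β) F), Fl = {Y | (∀ p, ph K (JA ⊗ₖ JB) e₀ ⬝ᵥ (Y *ᵥ p) = 0) ∧
      (∀ p, ph K (JA ⊗ₖ JB) e₀ ⬝ᵥ p = 0 → ∃ s : F, Y *ᵥ p = s • e₀) ∧ Y *ᵥ e₀ = 0} := ⟨_, rfl⟩
  have hsmul : ∀ (a : F) Y, Y ∈ Fl → a • Y ∈ Fl := by
    rw [hFl]
    rintro a Y ⟨h1, h2', h3⟩
    refine ⟨fun p => by rw [Matrix.smul_mulVec, dotProduct_smul, h1, smul_zero], fun p hp => ?_,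
      by rw [Matrix.smul_mulVec, h3, smul_zero]⟩
    obtain ⟨s, hs⟩ := h2' p hp
    exact ⟨a * s, by rw [Matrix.smul_mulVec, hs, smul_smul]⟩
  have hconj : g.1 * X * (g⁻¹).1 = c₁.1 * (σ • B₁) * (c₁⁻¹).1 := by
    have e : k = c₁ * (g' * x * g'⁻¹) * c₁⁻¹ := by rw [← hk']; group
    have e1 := congrArg Units.val e
    rw [hkv, Units.val_mul, Units.val_mul, hσ, Matrix.mul_add, Matrix.mul_one, Matrix.add_mul, c₁.mul_inv,
      add_right_inj] at e1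
    exact e1
  have hflag := isPGroup_of_nil 2 (S := ({x₁, k} : Set (GL (α × β) F))) Fl
    (by
      rw [hFl]
      exact ⟨fun p => by rw [Matrix.zero_mulVec, dotProduct_zero], fun p _ => ⟨0, by rw [Matrix.zero_mulVec, zero_smul]⟩,
        Matrix.zero_mulVec _⟩)
    (by
      rintro p (rfl | rfl)
      · rw [hx₁e, add_sub_cancel_left]
        exact hsmul _ _ (hFl ▸ hB₁F)
      · rw [hkv, add_sub_cancel_left, hconj, Matrix.mul_smul, Matrix.smul_mul]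
        refine hsmul _ _ ?_
        rw [hFl]
        obtain ⟨h1, h2', h3⟩ := hB₁F
        obtain ⟨s₁, hs₁⟩ := hc₁i
        obtain ⟨s₂, hs₂⟩ := hc₁l
        have hci := H.isoM (M.inv_mem (hG₀M hc₁G))
        refine ⟨fun p => ?_, fun p hp => ?_, ?_⟩
        · rw [← H.hAB.dot_image hci, Matrix.mulVec_mulVec _ (c₁⁻¹).1, ← Matrix.mul_assoc, ← Matrix.mul_assoc,
            c₁.inv_mul, Matrix.one_mul, hs₁, ph_smul, smul_dotProduct, ← Matrix.mulVec_mulVec, h1, smul_zero]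
        · obtain ⟨s, hs⟩ := h2' ((c₁⁻¹).1 *ᵥ p) (by
            rw [← H.hAB.dot_image (H.isoM (hG₀M hc₁G)), Matrix.mulVec_mulVec, c₁.mul_inv, Matrix.one_mulVec, hs₂,
              ph_smul, smul_dotProduct, hp, smul_zero])
          exact ⟨s * s₂, by rw [← Matrix.mulVec_mulVec, ← Matrix.mulVec_mulVec, hs, Matrix.mulVec_smul, hs₂,
            smul_smul]⟩
        · rw [← Matrix.mulVec_mulVec, ← Matrix.mulVec_mulVec, hs₁, Matrix.mulVec_smul, h3, smul_zero,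
            Matrix.mulVec_zero])
    (by
      rw [hFl]
      rintro Y ⟨a1, a2, a3⟩ Y' ⟨b1, b2, b3⟩
      refine ⟨fun p => by rw [Matrix.add_mulVec, dotProduct_add, a1, b1, add_zero], fun p hp => ?_,
        by rw [Matrix.add_mulVec, a3, b3, add_zero]⟩
      obtain ⟨s, hs⟩ := a2 p hp
      obtain ⟨s', hs'⟩ := b2 p hp
      exact ⟨s + s', by rw [Matrix.add_mulVec, hs, hs', add_smul]⟩)
    (by
      rw [hFl]
      rintro Y ⟨a1, a2, a3⟩ Y' ⟨b1, b2, b3⟩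
      refine ⟨fun p => by rw [← Matrix.mulVec_mulVec, a1], fun p hp => ?_,
        by rw [← Matrix.mulVec_mulVec, b3, Matrix.mulVec_zero]⟩
      obtain ⟨s, hs⟩ := b2 p hp
      exact ⟨0, by rw [← Matrix.mulVec_mulVec, hs, Matrix.mulVec_smul, a3, smul_zero, zero_smul]⟩)
    (by
      rw [hFl]
      rintro Y ⟨a1, a2, a3⟩
      refine Matrix.ext_iff_mulVec.2 fun p => ?_
      obtain ⟨s, hs⟩ := a2 _ (a1 p)
      rw [pow_succ, pow_succ, pow_succ, pow_one, ← Matrix.mulVec_mulVec, ← Matrix.mulVec_mulVec,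
        ← Matrix.mulVec_mulVec, hs, Matrix.mulVec_smul, Matrix.mulVec_smul, a3, Matrix.mulVec_zero, smul_zero,
        Matrix.zero_mulVec])
  exact H.tens_of_pgroup hb ha hex hR (hG₀ ▸ hG₀M) hflag hw₁ hw₁0 hθ₁0 hx₁'
    (Subgroup.subset_closure (Set.mem_insert _ _))
    (Subgroup.subset_closure (Set.mem_insert_of_mem _ (Set.mem_singleton k)))

end Hyp

end CfsgLib.Classical.TensorUnitary
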