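import Cfsg.Agent.Lib.Classical.TensorUnitary.SixBasic

set_option autoImplicit false
set_option linter.unusedSectionVars false

/-!
Products of a Hermitian plane and a Hermitian space of dimension three: an element stabilising `u ⊗ F^β`
for an isotropic vector `u` of the plane is a Kronecker product.
-/

namespace CfsgLib.Classical.TensorUnitary

open Matrix CfsgLib.Classical.TensorMax
open CfsgLib.Classical.TensorSymp (ten kc_mulVec kron_mulVec_ten)
open CfsgLib.ClassicalAut (Unitary.Conj)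
open scoped MatrixGroups Kronecker

variable {F : Type*} [Field F] [Finite F] {q : ℕ} {K : Unitary.Conj F q}
variable {α β : Type} [Fintype α] [DecidableEq α] [Fintype β] [DecidableEq β]
variable {JA : Matrix α α F} {JB : Matrix β β F} {M : Subgroup (GL (α × β) F)}

/-- The map `b ↦ a ⊗ b`. -/
def tenL (a : α → F) : (β → F) →ₗ[F] (α × β → F) where
  toFun b := ten a b
  map_add' _ _ := TensorSymp.ten_add_right _ _ _
  map_smul' _ _ := TensorSymp.ten_smul_right _ _ _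

theorem tenL_apply (a : α → F) (b : β → F) : tenL a b = ten a b := rfl

namespace Hyp

variable (H : Hyp K JA JB M)
include H

/-- A vector in the coordinates of a hyperbolic pair. -/
theorem plane_vec (ha : Fintype.card α = 2) {u v : α → F} (hu : ph K JA u ⬝ᵥ u = 0) (hv : ph K JA v ⬝ᵥ v = 0)
    (huv : ph K JA u ⬝ᵥ v = 1) (p : α × β → F) :
    ten u (sl (ph K JA v) p) + ten v (sl (ph K JA u) p) = p := by
  funext ⟨i, l⟩
  have := congrFun (H.hA.plane_dec ha hu hv huv (fun j => p (j, l))) i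
  simp only [Pi.add_apply, Pi.smul_apply, smul_eq_mul] at this
  simp only [Pi.add_apply, ten, sl_apply]
  linear_combination this

theorem ext_pair (ha : Fintype.card α = 2) {u v : α → F} (hu : ph K JA u ⬝ᵥ u = 0) (hv : ph K JA v ⬝ᵥ v = 0)
    (huv : ph K JA u ⬝ᵥ v = 1) {X Y : Matrix (α × β) (α × β) F} (h1 : ∀ b, X *ᵥ ten u b = Y *ᵥ ten u b)
    (h2 : ∀ b, X *ᵥ ten v b = Y *ᵥ ten v b) : X = Y :=
  Matrix.ext_iff_mulVec.2 fun p => by
    rw [← H.plane_vec ha hu hv huv p, Matrix.mulVec_add, Matrix.mulVec_add, h1, h2]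

/-- A self-adjoint matrix giving an element trivial on `u ⊗ F^β` and modulo it is a scalar. -/
theorem radical_scalar (hb : Fintype.card β = 3) (ha : Fintype.card α = 2) (hex : q = 2 → 3 ≤ Fintype.card α)
    (hR : ¬ Root K JA JB M) {u : α → F} (hu : ph K JA u ⬝ᵥ u = 0) (hu0 : u ≠ 0) {θ : F} (hθ0 : θ ≠ 0)
    (hθ : θ + K.bar θ = 0) {B : Matrix β β F} (hB : adj K JB B = B) (h : InM M (1 + (θ • Rk K JA u u) ⊗ₖ B)) :
    ∃ c : F, B = c • 1 := by
  obtain ⟨v, huv, -, -⟩ := H.hA.exists_dual hu hu0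
  refine H.hB.scalar_of_iso (by omega) hB fun w hw => ?_
  by_cases hw0 : w = 0
  · rw [hw0, ph_zero, zero_dotProduct]
  obtain ⟨x, hx, hx', -⟩ := H.exists_root_elt (α := α) hw hθ
  obtain ⟨m, hm, hm'⟩ := h
  obtain ⟨p, hp⟩ := CharP.exists F
  haveI : Fact p.Prime := ⟨(CharP.char_is_prime_or_zero F p).resolve_right (CharP.char_ne_zero_of_finite F p)⟩
  obtain ⟨N, hN⟩ : ∃ N, N = Rk K JA u u := ⟨_, rfl⟩
  obtain ⟨W, hW⟩ : ∃ W, W = Rk K JB w w := ⟨_, rfl⟩
  have hNN : N * N = 0 := hN ▸ H.hA.rk_sq hu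
  have hWW : W * W = 0 := hW ▸ H.hB.rk_sq hw
  have hmul : ∀ (a a' : F) (C C' : Matrix β β F),
      (a • ((1 : Matrix α α F) ⊗ₖ W) + N ⊗ₖ C) * (a' • ((1 : Matrix α α F) ⊗ₖ W) + N ⊗ₖ C') =
        (0 : F) • ((1 : Matrix α α F) ⊗ₖ W) + N ⊗ₖ (a • (W * C') + a' • (C * W)) := by
    intro a a' C C'
    simp only [Matrix.add_mul, Matrix.mul_add, Matrix.smul_mul, Matrix.mul_smul, ← Matrix.mul_kronecker_mul,
      Matrix.one_mul, Matrix.mul_one, hNN, hWW, Matrix.kronecker_zero, Matrix.zero_kronecker, smul_zero, zero_add,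
      add_zero, Matrix.kronecker_add, Matrix.kronecker_smul, zero_smul, smul_add]
    module
  have hP := isPGroup_of_nil p (S := ({x, m} : Set (GL (α × β) F)))
    {X | ∃ (a : F) (C : Matrix β β F), X = a • ((1 : Matrix α α F) ⊗ₖ W) + N ⊗ₖ C}
    ⟨0, 0, by rw [zero_smul, Matrix.kronecker_zero, add_zero]⟩ (by
      rintro y (rfl | rfl)
      · refine ⟨θ, 0, ?_⟩
        rw [hx', add_sub_cancel_left, zm_smul, zm_one, ← hW, Matrix.kronecker_zero, add_zero]
      · refine ⟨0, θ • B, ?_⟩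
        rw [hm', add_sub_cancel_left, ← hN, zero_smul, zero_add, Matrix.smul_kronecker, Matrix.kronecker_smul])
    (by
      rintro _ ⟨a, C, rfl⟩ _ ⟨a', C', rfl⟩
      refine ⟨a + a', C + C', ?_⟩
      rw [Matrix.kronecker_add]
      module)
    (by rintro _ ⟨a, C, rfl⟩ _ ⟨a', C', rfl⟩; exact ⟨_, _, hmul a a' C C'⟩)
    (by
      rintro _ ⟨a, C, rfl⟩
      rw [show (4 : ℕ) = 2 + 2 from rfl, pow_add, pow_two, hmul, zero_smul, zero_add, ← Matrix.mul_kronecker_mul, hNN,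
        Matrix.zero_kronecker])
  obtain ⟨A, hA⟩ := mem_st.1 (H.pgroup_stab hb ha hex hR (P := Subgroup.closure {x, m})
    ((Subgroup.closure_le _).2 (by rintro y (rfl | rfl); exacts [hx, hm])) hP hw hw0 hθ0 hx'
    (Subgroup.subset_closure (Set.mem_insert _ _))
    (Subgroup.subset_closure (Set.mem_insert_of_mem _ (Set.mem_singleton m))))
  have e := congrArg (· *ᵥ v) hA
  simp only [← Matrix.mulVec_mulVec, kc_mulVec] at e
  rw [hm', Matrix.add_mulVec, Matrix.one_mulVec, kron_mulVec_ten, Matrix.smul_mulVec, H.hA.rk_mulVec, huv,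
    one_smul] at e
  have e1 := congrArg (sl (ph K JA v)) e
  have hvu : ph K JA v ⬝ᵥ u = 1 := by rw [H.hA.swap, huv, map_one]
  simp only [map_add, sl_ten, dotProduct_smul, hvu, smul_eq_mul, mul_one] at e1
  rw [← eq_sub_iff_add_eq', ← sub_smul] at e1
  have e2 := congrArg (ph K JB w ⬝ᵥ ·) e1
  simp only [dotProduct_smul, hw, smul_eq_mul, mul_zero] at e2
  exact (mul_eq_zero.1 e2).resolve_left hθ0

set_option maxHeartbeats 800000 in
/-- An element stabilising `u ⊗ F^β` for an isotropic vector `u` of the plane. -/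
theorem tens_of_line_two (hb : Fintype.card β = 3) (ha : Fintype.card α = 2) (hex : q = 2 → 3 ≤ Fintype.card α)
    (hR : ¬ Root K JA JB M) {g : GL (α × β) F} (hg : g ∈ M) {u : α → F} (hu : ph K JA u ⬝ᵥ u = 0) (hu0 : u ≠ 0)
    (h : ∀ b : β → F, ∃ b', g.1 *ᵥ ten u b = ten u b') : Tens g.1 := by
  classical
  haveI := H.nonempty_left
  haveI := H.nonempty_right
  obtain ⟨v, huv, hvu, hv⟩ := H.hA.exists_dual hu hu0
  obtain ⟨A, hAdef⟩ : ∃ A : Matrix β β F,
      A = LinearMap.toMatrix' ((sl (ph K JA v)).comp (g.1.mulVecLin.comp (tenL u))) := ⟨_, rfl⟩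
  obtain ⟨D, hDdef⟩ : ∃ D : Matrix β β F,
      D = LinearMap.toMatrix' ((sl (ph K JA u)).comp (g.1.mulVecLin.comp (tenL v))) := ⟨_, rfl⟩
  obtain ⟨E, hEdef⟩ : ∃ E : Matrix β β F,
      E = LinearMap.toMatrix' ((sl (ph K JA v)).comp (g.1.mulVecLin.comp (tenL v))) := ⟨_, rfl⟩
  have Dap : ∀ b, D *ᵥ b = sl (ph K JA u) (g.1 *ᵥ ten v b) := fun b => by
    rw [hDdef, LinearMap.toMatrix'_mulVec]; rfl
  have Eap : ∀ b, E *ᵥ b = sl (ph K JA v) (g.1 *ᵥ ten v b) := fun b => by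
    rw [hEdef, LinearMap.toMatrix'_mulVec]; rfl
  have Aap : ∀ b, A *ᵥ b = sl (ph K JA v) (g.1 *ᵥ ten u b) := fun b => by
    rw [hAdef, LinearMap.toMatrix'_mulVec]; rfl
  have gu : ∀ b, g.1 *ᵥ ten u b = ten u (A *ᵥ b) := fun b => by
    obtain ⟨b', hb'⟩ := h b
    rw [Aap, hb', sl_ten, hvu, one_smul]
  have gv : ∀ b, g.1 *ᵥ ten v b = ten u (E *ᵥ b) + ten v (D *ᵥ b) := fun b => by
    rw [Dap, Eap, H.plane_vec ha hu hv huv]
  have hgI := H.isoM hg
  -- the two diagonal blocks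
  have hAD : adj K JB A * D = 1 := Matrix.ext_iff_mulVec.2 fun b' => by
    refine sub_eq_zero.1 (H.hB.eq_zero_of_orth fun b => ?_)
    refine H.hB.orth_comm ?_
    rw [dotProduct_sub, ← Matrix.mulVec_mulVec, H.hB.dot_adj, H.hB.adj_adj, Matrix.one_mulVec, sub_eq_zero]
    have := H.hAB.dot_image hgI (ten u b) (ten v b')
    rw [gu, gv, dotProduct_add, ph_ten_dot, ph_ten_dot, ph_ten_dot, hu, huv, zero_mul, one_mul, one_mul,
      zero_add] at this
    exact this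
  obtain ⟨θ, hθ0, hθ'⟩ := exists_skew K
  have hθ : θ + K.bar θ = 0 := by rw [hθ', add_neg_cancel]
  obtain ⟨i, hi, hi'⟩ := H.inM_left (H.hA.iso_tau hu hθ) (det_tau K hu θ)
  obtain ⟨N, hN⟩ : ∃ N, N = Rk K JA u u := ⟨_, rfl⟩
  have Nu : N *ᵥ u = 0 := by rw [hN, H.hA.rk_mulVec, hu, zero_smul]
  have Nv : N *ᵥ v = u := by rw [hN, H.hA.rk_mulVec, huv, one_smul]
  have iu : ∀ b, i.1 *ᵥ ten u b = ten u b := fun b => by
    rw [hi', tau, kron_mulVec_ten, Matrix.add_mulVec, Matrix.one_mulVec, Matrix.smul_mulVec, ← Rk, ← hN, Nu,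
      smul_zero, add_zero, Matrix.one_mulVec]
  have iv : ∀ b, i.1 *ᵥ ten v b = ten v b + θ • ten u b := fun b => by
    rw [hi', tau, kron_mulVec_ten, Matrix.add_mulVec, Matrix.one_mulVec, Matrix.smul_mulVec, ← Rk, ← hN, Nv,
      Matrix.one_mulVec, TensorSymp.ten_add_left, TensorSymp.ten_smul_left]
  obtain ⟨B, hBdef⟩ : ∃ B, B = A * adj K JB A := ⟨_, rfl⟩
  have hconj : (g * i * g⁻¹).1 = 1 + (θ • Rk K JA u u) ⊗ₖ B := by
    have e : g.1 * i.1 = (1 + (θ • N) ⊗ₖ B) * g.1 := by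
      refine H.ext_pair ha hu hv huv (fun b => ?_) fun b => ?_
      · rw [← Matrix.mulVec_mulVec, ← Matrix.mulVec_mulVec, iu, gu, Matrix.add_mulVec, Matrix.one_mulVec,
          kron_mulVec_ten, Matrix.smul_mulVec, Nu, smul_zero, ten_zero_left, add_zero]
      · have e1 : B *ᵥ (D *ᵥ b) = A *ᵥ b := by
          rw [Matrix.mulVec_mulVec, hBdef, Matrix.mul_assoc, hAD, Matrix.mul_one]
        rw [← Matrix.mulVec_mulVec, ← Matrix.mulVec_mulVec, iv, Matrix.mulVec_add, Matrix.mulVec_smul, gu, gv,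
          Matrix.add_mulVec, Matrix.one_mulVec, Matrix.mulVec_add, kron_mulVec_ten, kron_mulVec_ten,
          Matrix.smul_mulVec, Matrix.smul_mulVec, Nu, Nv, smul_zero, ten_zero_left, zero_add, e1,
          TensorSymp.ten_smul_left]
    rw [Units.val_mul, Units.val_mul, e, Matrix.mul_assoc, g.mul_inv, Matrix.mul_one, hN]
  have hBs : adj K JB B = B := by rw [hBdef, H.hB.adj_mul, H.hB.adj_adj]
  obtain ⟨μ, hμ⟩ := H.radical_scalar hb ha hex hR hu hu0 hθ0 hθ hBs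
    ⟨_, M.mul_mem (M.mul_mem hg hi) (M.inv_mem hg), hconj⟩
  have hA' : A = μ • D := by
    have := congrArg (A * ·) hAD
    simp only [← Matrix.mul_assoc, Matrix.mul_one, ← hBdef, hμ, Matrix.smul_mul, Matrix.one_mul] at this
    exact this.symm
  have hμ0 : μ ≠ 0 := fun e => by
    rw [e, zero_smul] at hA'
    rw [hA', adj, cj_zero, Matrix.mul_zero, Matrix.zero_mul, Matrix.zero_mul] at hAD
    exact zero_ne_one hAD
  have hμr : K.bar μ = μ := by
    have e := hBs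
    rw [hμ, H.hB.adj_smul, H.hB.adj_one] at e
    obtain ⟨l⟩ := H.nonempty_right
    have := congrFun₂ e l l
    simpa using this
  obtain ⟨r, hr⟩ : ∃ r, r = μ⁻¹ := ⟨_, rfl⟩
  have hDA : D = r • A := by rw [hA', hr, smul_smul, inv_mul_cancel₀ hμ0, one_smul]
  have hrr : K.bar r = r := by rw [hr, map_inv₀, hμr]
  have hAA : adj K JB A * A = μ • 1 := by
    have e := hAD
    rw [hDA, Matrix.mul_smul, hr] at e
    rw [← e, smul_smul, mul_inv_cancel₀ hμ0, one_smul]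
  have hAA' : A * adj K JB A = μ • 1 := by rw [← hBdef, hμ]
  -- the factor
  obtain ⟨S, hS⟩ : ∃ S, S = Rk K JA u v + r • Rk K JA v u := ⟨_, rfl⟩
  have Su : S *ᵥ u = u := by
    rw [hS, Matrix.add_mulVec, Matrix.smul_mulVec, H.hA.rk_mulVec, H.hA.rk_mulVec, hvu, hu, one_smul, zero_smul,
      smul_zero, add_zero]
  have Sv : S *ᵥ v = r • v := by
    rw [hS, Matrix.add_mulVec, Matrix.smul_mulVec, H.hA.rk_mulVec, H.hA.rk_mulVec, hv, huv, one_smul, zero_smul,
      zero_add]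
  obtain ⟨C, hC⟩ : ∃ C, C = r • (adj K JB A * E) := ⟨_, rfl⟩
  obtain ⟨X, hX⟩ : ∃ X, X = (1 : Matrix (α × β) (α × β) F) + N ⊗ₖ C := ⟨_, rfl⟩
  obtain ⟨Y, hY⟩ : ∃ Y, Y = S ⊗ₖ A := ⟨_, rfl⟩
  have hgYX : g.1 = Y * X := by
    refine H.ext_pair ha hu hv huv (fun b => ?_) fun b => ?_
    · rw [gu, ← Matrix.mulVec_mulVec, hX, Matrix.add_mulVec, Matrix.one_mulVec, kron_mulVec_ten, Nu, ten_zero_left,
        add_zero, hY, kron_mulVec_ten, Su]
    · rw [gv, ← Matrix.mulVec_mulVec, hX, Matrix.add_mulVec, Matrix.one_mulVec, kron_mulVec_ten, Nv,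
        Matrix.mulVec_add, hY, kron_mulVec_ten, kron_mulVec_ten, Su, Sv, hDA, Matrix.smul_mulVec,
        TensorSymp.ten_smul_left, TensorSymp.ten_smul_right, add_comm]
      congr 2
      rw [hC, Matrix.mulVec_mulVec, Matrix.mul_smul, ← Matrix.mul_assoc, hAA', Matrix.smul_mul, Matrix.one_mul, hr,
        smul_smul, inv_mul_cancel₀ hμ0, one_smul]
  have hNN : N * N = 0 := hN ▸ H.hA.rk_sq hu
  have hXn : (N ⊗ₖ C) * (N ⊗ₖ C) = 0 := by rw [← Matrix.mul_kronecker_mul, hNN, Matrix.zero_kronecker]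
  have hXd : X.det = 1 := by
    rw [hX]; exact det_one_add_of_cube (by rw [hXn, Matrix.zero_mul])
  have hYd : Y.det = 1 := by
    have := congrArg Matrix.det hgYX
    rwa [(H.le g hg).2, Matrix.det_mul, hXd, mul_one, eq_comm] at this
  have hYI : Iso K (JA ⊗ₖ JB) Y := by
    have hSS : adj K JA S * S = r • 1 := by
      refine Matrix.ext_iff_mulVec.2 fun x => sub_eq_zero.1 (H.hA.eq_zero_of_orth fun y => H.hA.orth_comm ?_)
      rw [dotProduct_sub, ← Matrix.mulVec_mulVec, H.hA.dot_adj, H.hA.adj_adj, Matrix.smul_mulVec, Matrix.one_mulVec,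
        sub_eq_zero, dotProduct_smul, smul_eq_mul]
      conv_lhs => rw [← H.hA.plane_dec ha hu hv huv x, ← H.hA.plane_dec ha hu hv huv y]
      conv_rhs => rw [← H.hA.plane_dec ha hu hv huv x, ← H.hA.plane_dec ha hu hv huv y]
      simp only [Matrix.mulVec_add, Matrix.mulVec_smul, Su, Sv, ph_add, ph_smul, add_dotProduct, smul_dotProduct,
        dotProduct_add, dotProduct_smul, smul_eq_mul, hu, hv, huv, hvu, hrr]
      ring
    show cj K Y * (JA ⊗ₖ JB) * Y = _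
    rw [hY, cj_kron, ← Matrix.mul_kronecker_mul, ← Matrix.mul_kronecker_mul, ← H.hA.mul_adj, ← H.hB.mul_adj,
      Matrix.mul_assoc JA, hSS, Matrix.mul_assoc JB, hAA, Matrix.mul_smul, Matrix.mul_smul, Matrix.mul_one,
      Matrix.mul_one, Matrix.smul_kronecker, Matrix.kronecker_smul, smul_smul, hr, inv_mul_cancel₀ hμ0, one_smul]
  obtain ⟨y, hy, hy'⟩ := H.inM_iso hYI hYd ⟨S, A, hY⟩
  have hxX : (y⁻¹ * g).1 = X := by rw [Units.val_mul, hgYX, ← hy', ← Matrix.mul_assoc, y.inv_mul, Matrix.one_mul]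
  have hxM : y⁻¹ * g ∈ M := M.mul_mem (M.inv_mem hy) hg
  have hCs : adj K JB C = -C := Matrix.ext_iff_mulVec.2 fun b' => by
    refine sub_eq_zero.1 (H.hB.eq_zero_of_orth fun b => H.hB.orth_comm ?_)
    rw [Matrix.neg_mulVec, sub_neg_eq_add, dotProduct_add, H.hB.dot_adj, H.hB.adj_adj]
    have := H.hAB.dot_image (H.isoM hxM) (ten v b) (ten v b')
    simp only [hxX, hX, Matrix.add_mulVec, Matrix.one_mulVec, kron_mulVec_ten, Nv, ph_add, add_dotProduct,
      dotProduct_add, ph_ten_dot, hu, hv, huv, hvu, zero_mul, one_mul, zero_add, add_zero] at this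
    exact this
  have hθbar : K.bar θ⁻¹ = -θ⁻¹ := by rw [map_inv₀, hθ', inv_neg]
  obtain ⟨s, hs⟩ := H.radical_scalar hb ha hex hR hu hu0 hθ0 hθ (B := θ⁻¹ • C)
    (by rw [H.hB.adj_smul, hCs, hθbar, smul_neg, neg_smul, neg_neg])
    ⟨_, hxM, by rw [hxX, hX, hN, Matrix.smul_kronecker, Matrix.kronecker_smul, smul_smul, mul_inv_cancel₀ hθ0,
      one_smul]⟩
  refine ⟨S * (1 + (θ * s) • N), A, ?_⟩
  have hCeq : C = (θ * s) • 1 := by
    rw [mul_smul, ← hs, smul_smul, mul_inv_cancel₀ hθ0, one_smul]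
  rw [hgYX, hY, hX, hCeq, Matrix.kronecker_smul, ← Matrix.smul_kronecker, ← Matrix.one_kronecker_one,
    ← Matrix.add_kronecker, ← Matrix.mul_kronecker_mul, Matrix.mul_one]

end Hyp

end CfsgLib.Classical.TensorUnitary
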