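import Cfsg.Agent.Lib.Classical.TensorUnitary.SixBasic

set_option autoImplicit false
set_option linter.unusedSectionVars false

/-!
Products of a Hermitian plane and a Hermitian space of dimension three in odd characteristic: without roots an
element carries a transvection of the second factor to a Kronecker product, by means of the involutions in the
groups generated by two conjugate transvections.
-/

namespace CfsgLib.Classical.TensorUnitary

open Matrix CfsgLib.Classical.TensorMax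
open CfsgLib.Classical.TensorSymp (ten kc_mulVec kron_mulVec_ten)
open CfsgLib.ClassicalAut (Unitary.Conj)
open scoped MatrixGroups Kronecker

variable {F : Type*} [Field F]

section core

variable {ι : Type} [Fintype ι] [DecidableEq ι] {X Y Q Q' : Matrix ι ι F}

theorem rank_le_of_split (h2 : (2 : F) ≠ 0) (hQQ : Q + Q' = (2 : F) • 1) (hQ : Q' * Q = 0) (cX : X * Q = Q * X)
    (cY : Y * Q = Q * Y) (hle : LinearMap.range Q.mulVecLin ≤ LinearMap.range X.mulVecLin ⊔ LinearMap.range Y.mulVecLin) :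
    LinearMap.range Q.mulVecLin ≤ LinearMap.range (X * Q).mulVecLin ⊔ LinearMap.range (Y * Q).mulVecLin := by
  rintro _ ⟨a, rfl⟩
  obtain ⟨_, ⟨a₁, rfl⟩, _, ⟨a₂, rfl⟩, e⟩ := Submodule.mem_sup.1 (hle ⟨a, rfl⟩)
  simp only [Matrix.mulVecLin_apply] at e
  have e1 : (2 : F) • (Q *ᵥ a) = (X * Q) *ᵥ a₁ + (Y * Q) *ᵥ a₂ := by
    have h0 : Q' *ᵥ (Q *ᵥ a) = 0 := by rw [Matrix.mulVec_mulVec, hQ, Matrix.zero_mulVec]
    have h1 := congrArg (· *ᵥ (Q *ᵥ a)) hQQ
    simp only [Matrix.add_mulVec, h0, add_zero, Matrix.smul_mulVec, Matrix.one_mulVec] at h1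
    rw [← h1, ← e, Matrix.mulVec_add, Matrix.mulVec_mulVec, Matrix.mulVec_mulVec, cX, cY]
  refine Submodule.mem_sup.2 ⟨_, ⟨(2 : F)⁻¹ • a₁, rfl⟩, _, ⟨(2 : F)⁻¹ • a₂, rfl⟩, ?_⟩
  simp only [Matrix.mulVecLin_apply, Matrix.mulVec_smul]
  rw [← smul_add, ← e1, smul_smul, inv_mul_cancel₀ h2, one_smul]

theorem rank_le_add (h2 : (2 : F) ≠ 0) (hQQ : Q + Q' = (2 : F) • 1) (hQ : Q' * Q = 0) (cX : X * Q = Q * X)
    (cY : Y * Q = Q * Y) (hle : LinearMap.range Q.mulVecLin ≤ LinearMap.range X.mulVecLin ⊔ LinearMap.range Y.mulVecLin) :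
    Q.rank ≤ (X * Q).rank + (Y * Q).rank :=
  (Submodule.finrank_mono (rank_le_of_split h2 hQQ hQ cX cY hle)).trans
    (Submodule.finrank_add_le_finrank_add_finrank _ _)

theorem card_le_rank_add (h2 : (2 : F) ≠ 0) (hQQ : Q + Q' = (2 : F) • 1) :
    Fintype.card ι ≤ Q.rank + Q'.rank := by
  have : (⊤ : Submodule F (ι → F)) ≤ LinearMap.range Q.mulVecLin ⊔ LinearMap.range Q'.mulVecLin := fun v _ => by
    refine Submodule.mem_sup.2 ⟨_, ⟨(2 : F)⁻¹ • v, rfl⟩, _, ⟨(2 : F)⁻¹ • v, rfl⟩, ?_⟩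
    rw [Matrix.mulVecLin_apply, Matrix.mulVecLin_apply, ← Matrix.add_mulVec, hQQ, Matrix.smul_mulVec,
      Matrix.one_mulVec, smul_smul, mul_inv_cancel₀ h2, one_smul]
  have h := (Submodule.finrank_mono this).trans (Submodule.finrank_add_le_finrank_add_finrank _ _)
  rwa [finrank_top, Module.finrank_pi] at h

/-- When `Y` lives on the image of `Q` it vanishes on the other eigenspace. -/
theorem kills_of_rank (hQQ : Q + Q' = (2 : F) • 1) (hQ : Q' * Q = 0) (cY : Y * Q = Q * Y)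
    (hr : Y.rank ≤ (Y * Q).rank) : Y * Q' = 0 ∧ LinearMap.range Y.mulVecLin ≤ LinearMap.range Q.mulVecLin := by
  have hsub : LinearMap.range (Y * Q).mulVecLin ≤ LinearMap.range Y.mulVecLin := by
    rintro _ ⟨a, rfl⟩
    exact ⟨Q *ᵥ a, by rw [Matrix.mulVecLin_apply, Matrix.mulVecLin_apply, Matrix.mulVec_mulVec]⟩
  have heq := Submodule.eq_of_le_of_finrank_le hsub hr
  have hYQ : LinearMap.range Y.mulVecLin ≤ LinearMap.range Q.mulVecLin := by
    intro p hp
    rw [← heq] at hp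
    obtain ⟨a, rfl⟩ := hp
    exact ⟨Y *ᵥ a, by rw [Matrix.mulVecLin_apply, Matrix.mulVecLin_apply, Matrix.mulVec_mulVec, cY]⟩
  refine ⟨?_, hYQ⟩
  have h0 : Q' * Y = 0 := Matrix.ext_iff_mulVec.2 fun a => by
    obtain ⟨b, hb⟩ := hYQ ⟨a, rfl⟩
    rw [Matrix.mulVecLin_apply, Matrix.mulVecLin_apply] at hb
    rw [← Matrix.mulVec_mulVec, ← hb, Matrix.mulVec_mulVec, hQ, Matrix.zero_mulVec, Matrix.zero_mulVec]
  rw [show Q' = (2 : F) • 1 - Q from eq_sub_of_add_eq' hQQ] at h0 ⊢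
  rw [Matrix.mul_sub, cY, Matrix.mul_smul, Matrix.mul_one]
  rwa [Matrix.sub_mul, Matrix.smul_mul, Matrix.one_mul] at h0

theorem rank_bound (h2 : (2 : F) ≠ 0) (hY : Y * Y = 0) (hQQ : Q + Q' = (2 : F) • 1) (hQ : Q' * Q = 0)
    (hQ2 : Q * Q' = 0) (cY : Y * Q = Q * Y) (hr : Y.rank ≤ (Y * Q).rank) :
    Q'.rank + 2 * Y.rank ≤ Fintype.card ι := by
  obtain ⟨h0, hYQ⟩ := kills_of_rank hQQ hQ cY hr
  have hle : LinearMap.range Q'.mulVecLin ⊔ LinearMap.range Y.mulVecLin ≤ LinearMap.ker Y.mulVecLin := by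
    refine sup_le ?_ ?_
    all_goals rintro _ ⟨a, rfl⟩
    · rw [LinearMap.mem_ker, Matrix.mulVecLin_apply, Matrix.mulVecLin_apply, Matrix.mulVec_mulVec, h0,
        Matrix.zero_mulVec]
    · rw [LinearMap.mem_ker, Matrix.mulVecLin_apply, Matrix.mulVecLin_apply, Matrix.mulVec_mulVec, hY,
        Matrix.zero_mulVec]
  have hdis : LinearMap.range Q'.mulVecLin ⊓ LinearMap.range Y.mulVecLin = ⊥ := by
    refine eq_bot_iff.2 fun p hp => ?_
    obtain ⟨⟨a, ha⟩, hp'⟩ := hp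
    obtain ⟨b, hb⟩ := hYQ hp'
    simp only [Matrix.mulVecLin_apply] at ha hb
    have h1 := congrArg (· *ᵥ p) hQQ
    simp only [Matrix.add_mulVec, Matrix.smul_mulVec, Matrix.one_mulVec] at h1
    rw [show Q *ᵥ p = 0 by rw [← ha, Matrix.mulVec_mulVec, hQ2, Matrix.zero_mulVec],
      show Q' *ᵥ p = 0 by rw [← hb, Matrix.mulVec_mulVec, hQ, Matrix.zero_mulVec], add_zero, eq_comm] at h1
    exact (smul_eq_zero.1 h1).resolve_left h2
  have e1 := Submodule.finrank_sup_add_finrank_inf_eq (LinearMap.range Q'.mulVecLin) (LinearMap.range Y.mulVecLin)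
  rw [hdis, finrank_bot, add_zero] at e1
  have e2 := LinearMap.finrank_range_add_finrank_ker Y.mulVecLin
  rw [Module.finrank_pi] at e2
  have e3 := Submodule.finrank_mono hle
  simp only [Matrix.rank] at *
  omega

end core

variable [Finite F] {q : ℕ} {K : Unitary.Conj F q}
variable {α β : Type} [Fintype α] [DecidableEq α] [Fintype β] [DecidableEq β]
variable {JA : Matrix α α F} {JB : Matrix β β F} {M : Subgroup (GL (α × β) F)}

namespace Hyp

variable (H : Hyp K JA JB M)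
include H

set_option maxHeartbeats 1600000 in
/-- An anisotropic vector orthogonal to `w₁` whose subspace is fixed. -/
theorem exists_fix (hb : Fintype.card β = 3) (ha : Fintype.card α = 2) (hex : q = 2 → 3 ≤ Fintype.card α)
    (hR : ¬ Root K JA JB M) (h2 : (2 : F) ≠ 0) {k : GL (α × β) F} (hkM : k ∈ M) {Y : Matrix (α × β) (α × β) F}
    (hk : k.1 = 1 + Y) (hY : Y * Y = 0) (hrk : Y.rank = 2) (hknt : ¬ Tens k.1) {w₁ : β → F}
    (hw : ph K JB w₁ ⬝ᵥ w₁ = 0) (hw0 : w₁ ≠ 0) :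
    ∃ e : β → F, ph K JB w₁ ⬝ᵥ e = 0 ∧ ph K JB e ⬝ᵥ e ≠ 0 ∧ ∀ a : α → F, Y *ᵥ ten a e = 0 := by
  classical
  haveI := H.nonempty_left
  haveI := H.nonempty_right
  obtain ⟨p, hp⟩ := CharP.exists F
  haveI : Fact p.Prime := ⟨(CharP.char_is_prime_or_zero F p).resolve_right (CharP.char_ne_zero_of_finite F p)⟩
  have hp2 : p ≠ 2 := fun e => by subst e; exact h2 (CharP.cast_eq_zero F 2)
  obtain ⟨θ, hθ0, hθ'⟩ := exists_skew K
  have hθ : θ + K.bar θ = 0 := by rw [hθ', add_neg_cancel]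
  obtain ⟨x, hx, hx', -⟩ := H.exists_root_elt (α := α) hw hθ
  obtain ⟨X, hX⟩ : ∃ X, X = Zm K JB w₁ (θ • (1 : Matrix α α F)) := ⟨_, rfl⟩
  rw [← hX] at hx'
  have hXX : X * X = 0 := by rw [hX, zm_mul K JB hw]
  have hPM : Subgroup.closure ({x, k} : Set (GL (α × β) F)) ≤ M :=
    (Subgroup.closure_le _).2 (by rintro y (rfl | rfl); exacts [hx, hkM])
  obtain ⟨z, hz, hz2, hz1⟩ := QuadPairInvol.exists_invol hp2 hXX hY hx' hk fun hP =>
    hknt (H.tens_of_pgroup hb ha hex hR hPM hP hw hw0 hθ0 (hX ▸ hx') (Subgroup.subset_closure (Set.mem_insert _ _))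
      (Subgroup.subset_closure (Set.mem_insert_of_mem _ (Set.mem_singleton k))))
  obtain ⟨cX, cY⟩ := QuadPairInvol.invol_comm h2 hXX hY hx' hk hz hz2
  have hzsq : z.1 * z.1 = 1 := by rw [← Units.val_mul, hz2, Units.val_one]
  obtain ⟨Q, hQd⟩ : ∃ Q, Q = 1 - z.1 := ⟨_, rfl⟩
  obtain ⟨Q', hQ'd⟩ : ∃ Q', Q' = 1 + z.1 := ⟨_, rfl⟩
  have hQQ : Q + Q' = (2 : F) • 1 := by rw [hQd, hQ'd, two_smul]; abel
  have hQ : Q' * Q = 0 := by
    rw [hQd, hQ'd, Matrix.mul_sub, Matrix.mul_one, Matrix.add_mul, Matrix.one_mul, hzsq]; abel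
  have hQ2 : Q * Q' = 0 := by
    rw [hQd, hQ'd, Matrix.mul_add, Matrix.mul_one, Matrix.sub_mul, Matrix.one_mul, hzsq]; abel
  have cXQ : X * Q = Q * X := by rw [hQd, Matrix.mul_sub, Matrix.sub_mul, cX, Matrix.mul_one, Matrix.one_mul]
  have cYQ : Y * Q = Q * Y := by rw [hQd, Matrix.mul_sub, Matrix.sub_mul, cY, Matrix.mul_one, Matrix.one_mul]
  have hrange : LinearMap.range Q.mulVecLin ≤
      LinearMap.range X.mulVecLin ⊔ LinearMap.range Y.mulVecLin := by
    rintro _ ⟨a, rfl⟩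
    have := QuadPairInvol.sub_one_mem_range hXX hY hx' hk hz ⟨-a, rfl⟩
    rwa [Matrix.mulVecLin_apply, Matrix.mulVec_neg, ← Matrix.neg_mulVec, neg_sub, ← hQd] at this
  have hsum := rank_le_add h2 hQQ hQ cXQ cYQ hrange
  have hcard : Fintype.card (α × β) = 6 := by rw [Fintype.card_prod, ha, hb]
  have hQn : Q.rank + Q'.rank ≥ 6 := hcard ▸ card_le_rank_add h2 hQQ
  have cW : z.1 * Zm K JB w₁ (1 : Matrix α α F) = Zm K JB w₁ 1 * z.1 := by
    rw [hX, zm_smul, Matrix.mul_smul, Matrix.smul_mul] at cX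
    exact smul_right_injective _ hθ0 cX
  obtain ⟨z₀, wz, zw, zz⟩ := H.hB.exists_dual hw hw0
  obtain ⟨S, T, hST⟩ := H.tens_of_comm hex hR hw hw0 (hPM hz) cW
  obtain ⟨μ, hμ0, hSS, hTT⟩ := kron_eq_one (S := S * S) (T := T * T) (by
    rw [Matrix.mul_kronecker_mul, ← hST, hzsq])
  have hT0 : T ≠ 0 := fun e => by
    rw [e, Matrix.mul_zero] at hTT
    exact inv_ne_zero hμ0 ((smul_eq_zero.1 hTT.symm).resolve_right one_ne_zero)
  obtain ⟨W, hW⟩ : ∃ W, W = Rk K JB w₁ w₁ := ⟨_, rfl⟩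
  have hX1 : X = θ • ((1 : Matrix α α F) ⊗ₖ W) := by rw [hX, zm_smul, zm_one, hW]
  have hS0 : ∃ a : α → F, S *ᵥ a ≠ 0 := by
    by_contra hc
    push Not at hc
    have : S = 0 := Matrix.ext_iff_mulVec.2 fun a => by rw [hc, Matrix.zero_mulVec]
    rw [this, Matrix.mul_zero] at hSS
    exact hμ0 ((smul_eq_zero.1 hSS.symm).resolve_right one_ne_zero)
  have hTW : T * W = W * T := by
    obtain ⟨a, ha'⟩ := hS0
    refine Matrix.ext_iff_mulVec.2 fun b => ?_
    have e := congrArg (· *ᵥ ten a b) cW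
    simp only [zm_one, ← hW, hST, ← Matrix.mulVec_mulVec, kron_mulVec_ten, Matrix.one_mulVec] at e
    obtain ⟨ψ, hψ⟩ := exists_dual_one ha'
    have e1 := congrArg (sl ψ) e
    rw [sl_ten, sl_ten, hψ, one_smul, one_smul] at e1
    rw [← Matrix.mulVec_mulVec, ← Matrix.mulVec_mulVec, e1]
  have hWw : ∀ b, W *ᵥ b = (ph K JB w₁ ⬝ᵥ b) • w₁ := fun b => hW ▸ H.hB.rk_mulVec _ _ b
  obtain ⟨t, ht⟩ : ∃ t, T *ᵥ w₁ = t • w₁ := ⟨ph K JB w₁ ⬝ᵥ (T *ᵥ z₀), by
    rw [← hWw, Matrix.mulVec_mulVec, ← hTW, ← Matrix.mulVec_mulVec, hWw, wz, one_smul]⟩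
  have htt : t * t = μ⁻¹ := by
    have e := congrArg (· *ᵥ w₁) hTT
    simp only [← Matrix.mulVec_mulVec, ht, Matrix.mulVec_smul, smul_smul, Matrix.smul_mulVec, Matrix.one_mulVec] at e
    exact smul_left_injective F hw0 e
  -- the first factor is a scalar
  by_cases hSc : ∀ c : F, S ≠ c • 1
  · exfalso
    obtain ⟨v, hv0, hv⟩ := TensorMax.exists_moved hSc
    obtain ⟨ψ, hψ1, hψ2⟩ := exists_dual_pair hv0 hv 1 0
    have hQr : 3 ≤ Q.rank := hb ▸ card_le_rank_of_sl ψ Q fun b => ⟨ten v b, by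
      rw [hQd, Matrix.sub_mulVec, Matrix.one_mulVec, hST, kron_mulVec_ten, map_sub, sl_ten, sl_ten, hψ1, hψ2,
        zero_smul, sub_zero, one_smul]⟩
    have hQ'r : 3 ≤ Q'.rank := hb ▸ card_le_rank_of_sl ψ Q' fun b => ⟨ten v b, by
      rw [hQ'd, Matrix.add_mulVec, Matrix.one_mulVec, hST, kron_mulVec_ten, map_add, sl_ten, sl_ten, hψ1, hψ2,
        zero_smul, add_zero, one_smul]⟩
    have hS1 : ((1 : Matrix α α F) - t • S).rank ≤ 1 := by
      by_contra hlt
      have hu : IsUnit ((1 : Matrix α α F) - t • S).det := by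
        rw [← Matrix.isUnit_iff_isUnit_det, ← Matrix.mulVec_surjective_iff_isUnit]
        have : LinearMap.range ((1 : Matrix α α F) - t • S).mulVecLin = ⊤ := by
          refine Submodule.eq_top_of_finrank_eq (le_antisymm (Submodule.finrank_le _) ?_)
          rw [Module.finrank_pi, ha]
          exact Nat.lt_of_not_le hlt
        exact LinearMap.range_eq_top.1 this
      have h0 : ((1 : Matrix α α F) - t • S) * (1 + t • S) = 0 := by
        rw [Matrix.sub_mul, Matrix.one_mul, Matrix.mul_add, Matrix.mul_one, Matrix.smul_mul, Matrix.mul_smul,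
          smul_smul, hSS, smul_smul, htt, inv_mul_cancel₀ hμ0, one_smul]
        abel
      have h1 := congrArg (((1 : Matrix α α F) - t • S)⁻¹ * ·) h0
      simp only [← Matrix.mul_assoc, Matrix.nonsing_inv_mul _ hu, Matrix.one_mul, Matrix.mul_zero] at h1
      have ht0 : t ≠ 0 := fun e => by rw [e, mul_zero, eq_comm] at htt; exact inv_ne_zero hμ0 htt
      refine hSc (-t⁻¹) ?_
      rw [← inv_smul_smul₀ ht0 S, eq_neg_of_add_eq_zero_right h1, smul_neg, neg_smul]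
    have hXQ : (X * Q).rank ≤ 1 := by
      have e : X * Q = θ • (kc α w₁ * ((1 : Matrix α α F) - t • S) * kr α (ph K JB w₁)) := by
        have e1 : Q * kc α w₁ = kc α w₁ * ((1 : Matrix α α F) - t • S) := by
          rw [hQd, Matrix.sub_mul, Matrix.one_mul, hST, kron_mul_kc, ht, kc_smul, Matrix.mul_sub, Matrix.mul_one,
            Matrix.smul_mul, Matrix.mul_smul]
        rw [cXQ, hX, Zm, ← e1]
        simp only [Matrix.mul_smul, Matrix.smul_mul, Matrix.mul_one, Matrix.mul_assoc]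
      rw [e, ← Matrix.smul_mul]
      refine (Matrix.rank_mul_le_left _ _).trans ?_
      rw [← Matrix.smul_mul]
      exact (Matrix.rank_mul_le_right _ _).trans hS1
    have := rank_bound h2 hY hQQ hQ hQ2 cYQ (by omega)
    omega
  push Not at hSc
  obtain ⟨s, hs⟩ := hSc
  obtain ⟨T', hT'⟩ : ∃ T', T' = s • T := ⟨_, rfl⟩
  have hzT : z.1 = (1 : Matrix α α F) ⊗ₖ T' := by
    rw [hST, hs, hT', Matrix.smul_kronecker, Matrix.kronecker_smul]
  obtain ⟨u, hu0, hu, -⟩ := H.hA.exists_iso_perp (fun i : Fin 0 => i.elim0) (by simpa using H.two_le)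
  obtain ⟨v, huv, -, hv⟩ := H.hA.exists_dual hu hu0
  obtain ⟨a₀, ha₀⟩ := H.hA.exists_nonsingular hu hv huv
  have hTiso : ∀ b b', ph K JB (T' *ᵥ b) ⬝ᵥ (T' *ᵥ b') = ph K JB b ⬝ᵥ b' := fun b b' => by
    have := H.hAB.dot_image (H.isoM (hPM hz)) (ten a₀ b) (ten a₀ b')
    rwa [hzT, kron_mulVec_ten, kron_mulVec_ten, Matrix.one_mulVec, ph_ten_dot, ph_ten_dot, ha₀, one_mul,
      one_mul] at this
  have hT2 : ∀ b, T' *ᵥ (T' *ᵥ b) = b := fun b => by
    have hs2 : s * s = μ := by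
      rw [hs, Matrix.smul_mul, Matrix.mul_smul, Matrix.one_mul, smul_smul] at hSS
      obtain ⟨l⟩ := H.nonempty_left
      simpa using congrFun₂ hSS l l
    rw [Matrix.mulVec_mulVec, hT', Matrix.smul_mul, Matrix.mul_smul, smul_smul, hTT, smul_smul, hs2,
      mul_inv_cancel₀ hμ0, one_smul, Matrix.one_mulVec]
  obtain ⟨lam, hlamd⟩ : ∃ lam, lam = s * t := ⟨_, rfl⟩
  have hTw : T' *ᵥ w₁ = lam • w₁ := by rw [hT', Matrix.smul_mulVec, ht, smul_smul, hlamd]
  have hll : lam * lam = 1 := by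
    have := hT2 w₁
    rw [hTw, Matrix.mulVec_smul, hTw, smul_smul] at this
    exact smul_left_injective F hw0 (show (lam * lam) • w₁ = (1 : F) • w₁ by rw [this, one_smul])
  have hlam : lam = 1 ∨ lam = -1 := mul_self_eq_one_iff.1 hll
  have hlbar : K.bar lam = lam := by rcases hlam with h | h <;> simp [h]
  have hlam0 : lam ≠ 0 := left_ne_zero_of_mul_eq_one hll
  have heig : ∀ d, T' *ᵥ d = -lam • d → ph K JB w₁ ⬝ᵥ d = 0 := fun d hd => by
    have := hTiso w₁ d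
    rw [hTw, hd, ph_smul, smul_dotProduct, dotProduct_smul, smul_eq_mul, smul_eq_mul, hlbar, ← mul_assoc, mul_neg,
      hll, neg_mul, one_mul, neg_eq_iff_add_eq_zero, ← two_mul] at this
    exact (mul_eq_zero.1 this).resolve_left h2
  have hdiff : ∀ b, T' *ᵥ (T' *ᵥ b - lam • b) = -lam • (T' *ᵥ b - lam • b) := fun b => by
    rw [Matrix.mulVec_sub, hT2, Matrix.mulVec_smul, smul_sub, smul_smul, neg_mul, hll, neg_one_smul, neg_smul,
      sub_neg_eq_add, neg_add_eq_sub]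
  by_cases hsc : ∀ b, T' *ᵥ b = lam • b
  · exfalso
    have hT1 : T' = lam • 1 := Matrix.ext_iff_mulVec.2 fun b => by
      rw [hsc, Matrix.smul_mulVec, Matrix.one_mulVec]
    rw [hT1, Matrix.kronecker_smul, Matrix.one_kronecker_one] at hzT
    rcases hlam with h | h
    · exact hz1 (Units.ext (by rw [hzT, h, one_smul, Units.val_one]))
    · have hQ'0 : Q' = 0 := by rw [hQ'd, hzT, h, neg_one_smul, add_neg_cancel]
      rw [hQ'0, Matrix.rank_zero] at hQn
      have h1 := (Matrix.rank_mul_le_left X Q).trans (show X.rank ≤ 2 by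
        rw [hX, Zm, Matrix.mul_assoc]; exact ha ▸ (Matrix.rank_mul_le_left _ _).trans (Matrix.rank_le_card_width _))
      have h3 := Matrix.rank_mul_le_left Y Q
      omega
  push Not at hsc
  obtain ⟨b₀, hb₀⟩ := hsc
  obtain ⟨e, he⟩ : ∃ e, e = T' *ᵥ b₀ - lam • b₀ := ⟨_, rfl⟩
  have he0 : e ≠ 0 := he ▸ sub_ne_zero.2 hb₀
  have hTe : T' *ᵥ e = -lam • e := he ▸ hdiff b₀
  have hwe : ph K JB w₁ ⬝ᵥ e = 0 := heig e hTe
  have hfix : ∀ c : F, T' *ᵥ (c • w₁) = -lam • (c • w₁) → c = 0 := fun c h => by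
    rw [Matrix.mulVec_smul, hTw, smul_smul, smul_smul] at h
    have h' : c * lam = -lam * c := smul_left_injective F hw0 h
    exact (mul_eq_zero.1 (show (2 * lam) * c = 0 by linear_combination h')).resolve_left (mul_ne_zero h2 hlam0)
  have hee : ph K JB e ⬝ᵥ e ≠ 0 := fun h0 => by
    obtain ⟨c, hc⟩ := H.hB.iso_orth hb hw hw0 h0 hwe
    rw [hc] at hTe
    exact he0 (by rw [hc, hfix c hTe, zero_smul])
  have hline : ∀ b, ∃ r : F, T' *ᵥ b - lam • b = r • e := by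
    intro b
    obtain ⟨d, hd⟩ : ∃ d, d = T' *ᵥ b - lam • b := ⟨_, rfl⟩
    have hTd : T' *ᵥ d = -lam • d := hd ▸ hdiff b
    obtain ⟨y, wy, zy, yy⟩ := H.hB.exists_aniso (by omega) hw zz wz
    have ee := H.hB.basis_three hb hw zz wz wy zy yy e
    have ed := H.hB.basis_three hb hw zz wz wy zy yy d
    rw [hwe, zero_smul, add_zero] at ee
    rw [heig d hTd, zero_smul, add_zero] at ed
    obtain ⟨c₁, hc₁⟩ : ∃ c, c = (ph K JB y ⬝ᵥ e) / (ph K JB y ⬝ᵥ y) := ⟨_, rfl⟩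
    obtain ⟨c₂, hc₂⟩ : ∃ c, c = (ph K JB y ⬝ᵥ d) / (ph K JB y ⬝ᵥ y) := ⟨_, rfl⟩
    rw [← hc₁] at ee
    rw [← hc₂] at ed
    have hc0 : c₁ ≠ 0 := fun h0 => by
      rw [h0, zero_smul, add_zero] at ee
      rw [ee, ph_smul, smul_dotProduct, dotProduct_smul, hw, smul_zero, smul_zero] at hee
      exact hee rfl
    refine ⟨c₂ / c₁, ?_⟩
    rw [← hd]
    have e3 : d - (c₂ / c₁) • e = ((ph K JB z₀ ⬝ᵥ d) - c₂ / c₁ * (ph K JB z₀ ⬝ᵥ e)) • w₁ := by
      conv_lhs => rw [ed, ee, smul_add, smul_smul, smul_smul, div_mul_cancel₀ _ hc0]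
      module
    have h0 := hfix _ (by
      rw [← e3, Matrix.mulVec_sub, Matrix.mulVec_smul, hTd, hTe, smul_sub, smul_comm])
    rw [h0, zero_smul, sub_eq_zero] at e3
    exact e3
  rcases hlam with hl | hl
  · exfalso
    have hWe : W *ᵥ e = 0 := by rw [hWw, hwe, zero_smul]
    have hXQ0 : X * Q = 0 := by
      rw [hX1, hQd, hzT, ← Matrix.one_kronecker_one (α := F) (m := α) (n := β), ← TensorOrth.kron_sub,
        Matrix.smul_mul, ← Matrix.mul_kronecker_mul, Matrix.one_mul,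
        show W * (1 - T') = 0 from Matrix.ext_iff_mulVec.2 fun b => by
          obtain ⟨r, hr⟩ := hline b
          rw [hl, one_smul] at hr
          rw [← Matrix.mulVec_mulVec, Matrix.sub_mulVec, Matrix.one_mulVec, ← neg_sub, hr, Matrix.mulVec_neg,
            Matrix.mulVec_smul, hWe, smul_zero, neg_zero, Matrix.zero_mulVec],
        Matrix.kronecker_zero, smul_zero]
    have hle := rank_le_of_split h2 hQQ hQ cXQ cYQ hrange
    rw [hXQ0, Matrix.mulVecLin_zero, LinearMap.range_zero, bot_sup_eq] at hle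
    have hYQ : Y * Q = 0 := Matrix.ext_iff_mulVec.2 fun a => by
      obtain ⟨c, hc⟩ := hle ⟨a, rfl⟩
      rw [Matrix.mulVecLin_apply, Matrix.mulVecLin_apply] at hc
      rw [← Matrix.mulVec_mulVec, ← hc, Matrix.mulVec_mulVec, ← Matrix.mul_assoc, hY, Matrix.zero_mul,
        Matrix.zero_mulVec, Matrix.zero_mulVec]
    rw [hYQ, Matrix.mulVecLin_zero, LinearMap.range_zero, le_bot_iff, LinearMap.range_eq_bot] at hle
    refine hz1 (Units.ext ?_)
    have hQ0 : Q = 0 := Matrix.ext_iff_mulVec.2 fun a => by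
      rw [← Matrix.mulVecLin_apply, hle, LinearMap.zero_apply, Matrix.zero_mulVec]
    rw [hQd, sub_eq_zero] at hQ0
    rw [Units.val_one, hQ0]
  have hQ'r : Q'.rank ≤ 2 := by
    obtain ⟨τ, hτ⟩ := exists_dual_one he0
    have e1 : (1 : Matrix β β F) + T' = Matrix.vecMulVec e (τ ᵥ* ((1 : Matrix β β F) + T')) :=
      Matrix.ext_iff_mulVec.2 fun b => by
        obtain ⟨r, hr⟩ := hline b
        rw [hl, neg_one_smul, sub_neg_eq_add] at hr
        rw [Matrix.vecMulVec_mulVec, op_smul_eq_smul, ← Matrix.dotProduct_mulVec, Matrix.add_mulVec,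
          Matrix.one_mulVec, add_comm b, hr, dotProduct_smul, hτ, smul_eq_mul, mul_one]
    rw [hQ'd, hzT, ← Matrix.one_kronecker_one (α := F) (m := α) (n := β), ← Matrix.kronecker_add, e1, ← kc_mul_kr]
    exact ha ▸ (Matrix.rank_mul_le_left _ _).trans (Matrix.rank_le_card_width _)
  have hXr : (X * Q).rank ≤ 2 := (Matrix.rank_mul_le_left _ _).trans (by
    rw [hX, Zm, Matrix.mul_assoc]; exact ha ▸ (Matrix.rank_mul_le_left _ _).trans (Matrix.rank_le_card_width _))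
  obtain ⟨hk0, -⟩ := kills_of_rank hQQ hQ cYQ (by omega)
  refine ⟨e, hwe, hee, fun a => ?_⟩
  have e1 := congrArg (· *ᵥ ten a e) hk0
  simp only [← Matrix.mulVec_mulVec, hQ'd, Matrix.add_mulVec, Matrix.one_mulVec, hzT, kron_mulVec_ten, hTe, hl,
    neg_neg, one_smul, Matrix.mulVec_add, Matrix.zero_mulVec] at e1
  rw [← two_smul F] at e1
  exact (smul_eq_zero.1 e1).resolve_left h2

end Hyp

end CfsgLib.Classical.TensorUnitary

namespace CfsgLib.Classical.TensorUnitary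

open Matrix CfsgLib.Classical.TensorMax
open CfsgLib.Classical.TensorSymp (ten kc_mulVec kron_mulVec_ten)
open CfsgLib.ClassicalAut (Unitary.Conj)
open scoped MatrixGroups Kronecker

variable {F : Type*} [Field F] [Finite F] {q : ℕ} {K : Unitary.Conj F q}
variable {α β : Type} [Fintype α] [DecidableEq α] [Fintype β] [DecidableEq β]
variable {JA : Matrix α α F} {JB : Matrix β β F} {M : Subgroup (GL (α × β) F)}

namespace Hyp

variable (H : Hyp K JA JB M)
include H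

/-- In odd characteristic a conjugate transvection of the second factor is a product. -/
theorem tens_conj_odd (hb : Fintype.card β = 3) (ha : Fintype.card α = 2) (hex : q = 2 → 3 ≤ Fintype.card α)
    (hR : ¬ Root K JA JB M) (h2 : (2 : F) ≠ 0) {k : GL (α × β) F} (hkM : k ∈ M) {Y : Matrix (α × β) (α × β) F}
    (hk : k.1 = 1 + Y) (hY : Y * Y = 0) (hrk : Y.rank = 2) : Tens k.1 := by
  classical
  haveI := H.nonempty_left
  haveI := H.nonempty_right
  by_contra hknt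
  obtain ⟨w, hw0, hw, -⟩ := H.hB.exists_iso_perp (fun i : Fin 0 => i.elim0) (by simp; omega)
  obtain ⟨e, hwe, hee, hYe⟩ := H.exists_fix hb ha hex hR h2 hkM hk hY hrk hknt hw hw0
  obtain ⟨z, wz, zw, zz⟩ := H.hB.exists_dual hw hw0
  obtain ⟨w', hw', hew'⟩ : ∃ w', ph K JB w' ⬝ᵥ w' = 0 ∧ ph K JB e ⬝ᵥ w' ≠ 0 := by
    by_cases hze : ph K JB e ⬝ᵥ z = 0
    · obtain ⟨m, hm⟩ := H.hB.exists_k e
      refine ⟨z + e + m • w, ?_, ?_⟩
      · simp only [ph_add, ph_smul, add_dotProduct, smul_dotProduct, dotProduct_add, dotProduct_smul, smul_eq_mul, hw,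
          zz, wz, zw, hwe, hze, H.hB.orth_comm hwe, H.hB.orth_comm hze]
        linear_combination hm
      · simp only [dotProduct_add, dotProduct_smul, hze, H.hB.orth_comm hwe, smul_zero, zero_add, add_zero]
        exact hee
    · exact ⟨z, zz, hze⟩
  have hw'0 : w' ≠ 0 := fun h => hew' (by rw [h, dotProduct_zero])
  obtain ⟨f, hwf, hff, hYf⟩ := H.exists_fix hb ha hex hR h2 hkM hk hY hrk hknt hw' hw'0
  obtain ⟨t₁, p1, p2⟩ := exists_dual_pair (fun h => hee (by rw [h, zero_dotProduct]) : ph K JB e ≠ 0)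
    (v := ph K JB f) (fun c h => by
      have hf : f = K.bar c • e := sub_eq_zero.1 (H.hB.ph_eq_zero (by
        rw [ph_sub, ph_smul, K.bar_bar, h, sub_self]))
      rw [hf, dotProduct_smul, smul_eq_mul] at hwf
      refine hff ?_
      rw [hf, (mul_eq_zero.1 hwf).resolve_right (fun h0 => hew' (H.hB.orth_comm h0)), zero_smul, ph_zero,
        zero_dotProduct]) 1 0
  obtain ⟨t₂, p3, p4⟩ := exists_dual_pair (fun h => hee (by rw [h, zero_dotProduct]) : ph K JB e ≠ 0)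
    (v := ph K JB f) (fun c h => by
      have hf : f = K.bar c • e := sub_eq_zero.1 (H.hB.ph_eq_zero (by
        rw [ph_sub, ph_smul, K.bar_bar, h, sub_self]))
      rw [hf, dotProduct_smul, smul_eq_mul] at hwf
      refine hff ?_
      rw [hf, (mul_eq_zero.1 hwf).resolve_right (fun h0 => hew' (H.hB.orth_comm h0)), zero_smul, ph_zero,
        zero_dotProduct]) 0 1
  rw [dotProduct_comm] at p1 p2 p3 p4
  obtain ⟨L, hL⟩ : ∃ L : (β → F) →ₗ[F] (Fin 2 → F), L = (Matrix.of ![ph K JB e, ph K JB f]).mulVecLin := ⟨_, rfl⟩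
  have Lap : ∀ b, L b = ![ph K JB e ⬝ᵥ b, ph K JB f ⬝ᵥ b] := fun b => by
    rw [hL, Matrix.mulVecLin_apply]; funext i; fin_cases i <;> rfl
  have hLs : Function.Surjective L := fun c => ⟨c 0 • t₁ + c 1 • t₂, by
    rw [Lap]
    funext i
    fin_cases i <;> simp [dotProduct_add, dotProduct_smul, p1, p2, p3, p4]⟩
  have hker : Module.finrank F (LinearMap.ker L) = 1 := by
    have h1 := LinearMap.finrank_range_add_finrank_ker L
    rw [LinearMap.range_eq_top.2 hLs, finrank_top, Module.finrank_pi, Module.finrank_pi, hb, Fintype.card_fin] at h1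
    omega
  obtain ⟨⟨w₀, hw₀k⟩, hw₀0, hspan⟩ := finrank_eq_one_iff'.1 hker
  have hw₀0' : w₀ ≠ 0 := fun h => hw₀0 (Subtype.ext h)
  have hker' : ∀ b, ph K JB e ⬝ᵥ b = 0 → ph K JB f ⬝ᵥ b = 0 → ∃ c : F, b = c • w₀ := fun b h1 h2 => by
    obtain ⟨c, hc⟩ := hspan ⟨b, by rw [LinearMap.mem_ker, Lap, h1, h2]; funext i; fin_cases i <;> rfl⟩
    exact ⟨c, (congrArg Subtype.val hc).symm⟩
  have hsl : ∀ a b (p : α × β → F), Y *ᵥ ten a b = 0 → ph K (JA ⊗ₖ JB) (ten a b) ⬝ᵥ (Y *ᵥ p) = 0 := fun a b p h => by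
    have h1 := H.hAB.dot_image (H.isoM hkM) (ten a b) p
    rw [hk, Matrix.add_mulVec, Matrix.one_mulVec, h, add_zero, Matrix.add_mulVec, Matrix.one_mulVec, dotProduct_add,
      add_eq_left] at h1
    exact h1
  have hsub : LinearMap.range Y.mulVecLin ≤ LinearMap.range (kc α w₀ : Matrix (α × β) α F).mulVecLin := by
    rintro _ ⟨p, rfl⟩
    rw [Matrix.mulVecLin_apply]
    obtain ⟨θ₀, hθ₀⟩ := exists_dual_one hw₀0'
    refine ⟨kr α θ₀ *ᵥ (Y *ᵥ p), ?_⟩
    rw [Matrix.mulVecLin_apply, kc_mulVec]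
    funext ⟨i, l⟩
    obtain ⟨r, hr⟩ : ∃ r, r = Y *ᵥ p := ⟨_, rfl⟩
    rw [← hr]
    have hzero : ∀ b, (∀ a, Y *ᵥ ten a b = 0) → kr α (ph K JB b) *ᵥ r = 0 := fun b h => by
      refine H.hA.eq_zero_of_orth fun a => H.hA.orth_comm ?_
      have := hsl a b p (h a)
      rw [← hr, sum_ten r, dotProduct_sum] at this
      rw [sum_ten r, Matrix.mulVec_sum, dotProduct_sum]
      refine Eq.trans (Finset.sum_congr rfl fun i _ => ?_) this
      rw [kr_mulVec_ten, dotProduct_smul, ph_ten_dot, smul_eq_mul, mul_comm]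
    obtain ⟨c, hc⟩ := hker' (fun l => r (i, l)) (by rw [← kr_mulVec]; exact congrFun (hzero e hYe) i)
      (by rw [← kr_mulVec]; exact congrFun (hzero f hYf) i)
    simp only [ten, kr_mulVec, hc, dotProduct_smul, hθ₀, smul_eq_mul, mul_one]
    exact (congrFun hc l).symm
  have hkc2 : (kc α w₀ : Matrix (α × β) α F).rank ≤ 2 := ha ▸ Matrix.rank_le_card_width _
  have heq := Submodule.eq_of_le_of_finrank_le hsub (by
    show (kc α w₀ : Matrix (α × β) α F).rank ≤ Y.rank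
    omega)
  have hmem : ∀ a, ∃ p, Y *ᵥ p = ten a w₀ := fun a => by
    have : ten a w₀ ∈ LinearMap.range Y.mulVecLin := by
      rw [heq]; exact ⟨a, by rw [Matrix.mulVecLin_apply, kc_mulVec]⟩
    exact this
  obtain ⟨u, hu0, hu, -⟩ := H.hA.exists_iso_perp (fun i : Fin 0 => i.elim0) (by simpa using H.two_le)
  obtain ⟨v, huv, -, hv⟩ := H.hA.exists_dual hu hu0
  obtain ⟨a₀, ha₀⟩ := H.hA.exists_nonsingular hu hv huv
  obtain ⟨p, hp⟩ := hmem a₀
  have hiso : ph K JB w₀ ⬝ᵥ w₀ = 0 := by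
    have h1 := hsl a₀ w₀ p (by rw [← hp, Matrix.mulVec_mulVec, hY, Matrix.zero_mulVec])
    rwa [hp, ph_ten_dot, ha₀, one_mul] at h1
  obtain ⟨θ₀, hθ₀⟩ := exists_dual_one hw₀0'
  refine hknt (H.tens_of_stab (H.small_of_not_root hex hR) hkM hiso hw₀0'
    (A := kr α θ₀ * (k.1 * kc α w₀)) (Matrix.ext_iff_mulVec.2 fun a => ?_))
  obtain ⟨p, hp⟩ := hmem a
  have hYa : Y *ᵥ ten a w₀ = 0 := by rw [← hp, Matrix.mulVec_mulVec, hY, Matrix.zero_mulVec]
  simp only [← Matrix.mulVec_mulVec, kc_mulVec, hk, Matrix.add_mulVec, Matrix.one_mulVec, hYa, add_zero,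
    kr_mulVec_ten, hθ₀, one_smul]

end Hyp

end CfsgLib.Classical.TensorUnitary
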