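import Cfsg.Agent.Lib.Classical.TensorUnitary.SixOdd
import Cfsg.Agent.Lib.Classical.TensorUnitary.SixEven

set_option autoImplicit false
set_option linter.unusedSectionVars false

/-!
Products of a Hermitian plane and a Hermitian space of dimension three: without roots every element is a
Kronecker product.
-/

namespace CfsgLib.Classical.TensorUnitary

open Matrix CfsgLib.Classical.TensorMax
open CfsgLib.Classical.TensorSymp (ten kc_mulVec kron_mulVec_ten)
open CfsgLib.ClassicalAut (Unitary.Conj)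
open scoped MatrixGroups Kronecker

variable {F : Type*} [Field F] [Finite F] {q : ℕ} {K : Unitary.Conj F q}
variable {α β : Type} [Fintype α] [DecidableEq α] [Fintype β] [DecidableEq β]
variable {JA : Matrix α α F} {JB : Matrix β β F} {M : Subgroup (GL (α × β) F)}

namespace Hyp

variable (H : Hyp K JA JB M)
include H

set_option maxHeartbeats 1600000 in
/-- In characteristic two a conjugate transvection of the second factor is a product. -/
theorem tens_conj_even (hb : Fintype.card β = 3) (ha : Fintype.card α = 2) (hex : q = 2 → 3 ≤ Fintype.card α)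
    (hR : ¬ Root K JA JB M) (h2 : (2 : F) = 0) (hq : q ≠ 2) {g : GL (α × β) F} (hg : g ∈ M) {w : β → F}
    (hw : ph K JB w ⬝ᵥ w = 0) (hw0 : w ≠ 0) {θ : F} (hθ0 : θ ≠ 0) (hθ : θ + K.bar θ = 0) {x : GL (α × β) F}
    (hx : x ∈ M) (hx' : x.1 = 1 + Zm K JB w (θ • (1 : Matrix α α F))) : Tens (g * x * g⁻¹).1 := by
  classical
  haveI := H.nonempty_left
  haveI := H.nonempty_right
  have dbl : ∀ {m : Type} (B : Matrix m m F), B + B = 0 := fun B => by rw [← two_smul F, h2, zero_smul]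
  obtain ⟨u, hu0, hu, -⟩ := H.hA.exists_iso_perp (fun i : Fin 0 => i.elim0) (by simpa using H.two_le)
  obtain ⟨v, huv, hvu, hv⟩ := H.hA.exists_dual hu hu0
  obtain ⟨i, hi, hi'⟩ := H.inM_left (H.hA.iso_tau hu hθ) (det_tau K hu θ)
  obtain ⟨N, hN⟩ : ∃ N, N = Rk K JA u u := ⟨_, rfl⟩
  have Nu : N *ᵥ u = 0 := by rw [hN, H.hA.rk_mulVec, hu, zero_smul]
  have Nv : N *ᵥ v = u := by rw [hN, H.hA.rk_mulVec, huv, one_smul]
  have hNN : N * N = 0 := hN ▸ H.hA.rk_sq hu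
  obtain ⟨X, hX⟩ : ∃ X, X = (θ • N) ⊗ₖ (1 : Matrix β β F) := ⟨_, rfl⟩
  have hiv : i.1 = 1 + X := by
    rw [hi', tau, Matrix.add_kronecker, Matrix.one_kronecker_one, hX, hN]; rfl
  have hXX : X * X = 0 := by
    rw [hX, ← Matrix.mul_kronecker_mul, Matrix.smul_mul, Matrix.mul_smul, hNN, smul_zero, smul_zero,
      Matrix.zero_kronecker]
  have hXu : ∀ b, X *ᵥ ten v (θ⁻¹ • b) = ten u b := fun b => by
    rw [hX, kron_mulVec_ten, Matrix.smul_mulVec, Nv, Matrix.one_mulVec, TensorSymp.ten_smul_left,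
      TensorSymp.ten_smul_right, smul_smul, mul_inv_cancel₀ hθ0, one_smul]
  have hXr : 3 ≤ X.rank := hb ▸ card_le_rank_of_sl (ph K JA v) X fun b => ⟨ten v (θ⁻¹ • b), by
    rw [hXu, sl_ten, hvu, one_smul]⟩
  obtain ⟨k, hk⟩ : ∃ k, k = g * x * g⁻¹ := ⟨_, rfl⟩
  obtain ⟨Y, hY⟩ : ∃ Y, Y = g.1 * Zm K JB w (θ • (1 : Matrix α α F)) * (g⁻¹).1 := ⟨_, rfl⟩
  have hkv : k.1 = 1 + Y := by
    rw [hk, Units.val_mul, Units.val_mul, hx', Matrix.mul_add, Matrix.mul_one, Matrix.add_mul, g.mul_inv, hY]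
  have hYY : Y * Y = 0 := by
    rw [hY, Matrix.mul_assoc, Matrix.mul_assoc, ← Matrix.mul_assoc (g⁻¹).1, ← Matrix.mul_assoc (g⁻¹).1, g.inv_mul,
      Matrix.one_mul, ← Matrix.mul_assoc (Zm K JB w _), zm_mul K JB hw, Matrix.zero_mul, Matrix.mul_zero]
  have hYr : Y.rank ≤ 2 := hY ▸ ha ▸ H.rank_conj_zm g w _
  have hkM : k ∈ M := hk ▸ M.mul_mem (M.mul_mem hg hx) (M.inv_mem hg)
  have sq : ∀ {y : GL (α × β) F} {B : Matrix (α × β) (α × β) F}, B * B = 0 → y.1 = 1 + B → y * y = 1 :=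
    fun {y B} hB hy => Units.ext (by
      rw [Units.val_mul, hy, Units.val_one, Matrix.add_mul, Matrix.one_mul, Matrix.mul_add, Matrix.mul_one, hB,
        add_zero, add_assoc, dbl, add_zero])
  obtain ⟨z, hz, hz2, hz1, hzi, hzk⟩ := exists_central (sq hXX hiv) (sq hYY hkv) fun c e => by
    have e1 := congrArg Units.val e
    rw [Units.val_mul, Units.val_mul, hiv, hkv, Matrix.mul_add, Matrix.mul_one, Matrix.add_mul, c.mul_inv,
      add_right_inj] at e1
    rw [← e1, rank_conj] at hYr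
    omega
  have hzM : z ∈ M := (Subgroup.closure_le _).2 (by rintro y (rfl | rfl); exacts [hi, hkM]) hz
  have hzX : z.1 * X = X * z.1 := by
    have := congrArg Units.val hzi
    rwa [Units.val_mul, Units.val_mul, hiv, Matrix.mul_add, Matrix.add_mul, Matrix.mul_one, Matrix.one_mul,
      add_right_inj] at this
  have line : ∀ {y : GL (α × β) F}, y.1 * X = X * y.1 → ∀ b, ∃ b', y.1 *ᵥ ten u b = ten u b' := fun {y} hy b => by
    refine ⟨θ • sl (ph K JA u) (y.1 *ᵥ ten v (θ⁻¹ • b)), ?_⟩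
    rw [← hXu b, Matrix.mulVec_mulVec, hy, ← Matrix.mulVec_mulVec]
    conv_lhs => rw [← H.plane_vec ha hu hv huv (y.1 *ᵥ ten v (θ⁻¹ • b))]
    rw [hX, Matrix.mulVec_add, kron_mulVec_ten, kron_mulVec_ten, Matrix.smul_mulVec, Matrix.smul_mulVec, Nu, Nv,
      Matrix.one_mulVec, Matrix.one_mulVec, smul_zero, ten_zero_left, zero_add, TensorSymp.ten_smul_left]
    simp only [TensorSymp.ten_smul_right]
  obtain ⟨S, T, hST⟩ := H.tens_of_line_two hb ha hex hR hzM hu hu0 (line hzX)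
  obtain ⟨μ, hμ0, hSS, hTT⟩ := kron_eq_one (S := S * S) (T := T * T) (by
    rw [Matrix.mul_kronecker_mul, ← hST, ← Units.val_mul, hz2, Units.val_one])
  obtain ⟨b₁, hb₁⟩ : ∃ b, T *ᵥ b ≠ 0 := by
    by_contra hc
    push Not at hc
    have : T = 0 := Matrix.ext_iff_mulVec.2 fun b => by rw [hc, Matrix.zero_mulVec]
    rw [this, Matrix.mul_zero] at hTT
    exact inv_ne_zero hμ0 ((smul_eq_zero.1 hTT.symm).resolve_right one_ne_zero)
  -- the shape of the first factor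
  have hSN : ∀ a, S *ᵥ (N *ᵥ a) = N *ᵥ (S *ᵥ a) := fun a => by
    obtain ⟨φ, hφ⟩ := exists_dual_one hb₁
    have e := congrArg (fun M' => kr α φ *ᵥ (M' *ᵥ ten a b₁)) hzX
    simp only [hX, ← Matrix.mulVec_mulVec, hST, kron_mulVec_ten, Matrix.smul_mulVec, Matrix.mulVec_smul,
      Matrix.one_mulVec, kr_mulVec_ten, hφ, one_smul] at e
    exact smul_right_injective _ hθ0 e
  obtain ⟨a, haS⟩ : ∃ a, a = ph K JA u ⬝ᵥ (S *ᵥ v) := ⟨_, rfl⟩
  have Su : S *ᵥ u = a • u := by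
    rw [← Nv, hSN, hN, H.hA.rk_mulVec, H.hA.rk_mulVec, huv, one_smul, ← haS]
  obtain ⟨b, hbS⟩ : ∃ b, b = ph K JA v ⬝ᵥ (S *ᵥ v) := ⟨_, rfl⟩
  have Sv : S *ᵥ v = b • u + a • v := by rw [haS, hbS, H.hA.plane_dec ha hu hv huv]
  have hS : S = a • 1 + b • N := Matrix.ext_iff_mulVec.2 fun p => by
    rw [← H.hA.plane_dec ha hu hv huv p]
    simp only [Matrix.mulVec_add, Matrix.mulVec_smul, Su, Sv, Matrix.add_mulVec, Matrix.smul_mulVec,
      Matrix.one_mulVec, Nu, Nv, smul_zero, add_zero]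
    module
  have haμ : a * a = μ := by
    have e := congrArg (· *ᵥ u) hSS
    simp only [← Matrix.mulVec_mulVec, Su, Matrix.mulVec_smul, smul_smul, Matrix.smul_mulVec,
      Matrix.one_mulVec] at e
    exact smul_left_injective F hu0 e
  have ha0 : a ≠ 0 := fun e => hμ0 (by rw [← haμ, e, mul_zero])
  obtain ⟨c, hc⟩ : ∃ c, c = b / a := ⟨_, rfl⟩
  obtain ⟨T', hT'⟩ : ∃ T', T' = a • T := ⟨_, rfl⟩
  have hzT : z.1 = (1 + c • N) ⊗ₖ T' := by
    rw [hST, hS, hT', Matrix.kronecker_smul, ← Matrix.smul_kronecker, smul_add, smul_smul, hc,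
      mul_div_cancel₀ _ ha0]
  have hT2 : T' * T' = 1 := by
    rw [hT', Matrix.smul_mul, Matrix.mul_smul, smul_smul, hTT, smul_smul, haμ, mul_inv_cancel₀ hμ0, one_smul]
  have hTiso : ∀ p p', ph K JB (T' *ᵥ p) ⬝ᵥ (T' *ᵥ p') = ph K JB p ⬝ᵥ p' := fun p p' => by
    have := H.hAB.dot_image (H.isoM hzM) (ten u p) (ten v p')
    rwa [hzT, kron_mulVec_ten, kron_mulVec_ten, Matrix.add_mulVec, Matrix.one_mulVec, Matrix.smul_mulVec, Nu,
      Matrix.add_mulVec, Matrix.one_mulVec, Matrix.smul_mulVec, Nv, smul_zero, add_zero, ph_ten_dot, ph_ten_dot,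
      dotProduct_add, dotProduct_smul, hu, smul_zero, add_zero, huv, one_mul, one_mul] at this
  have neg2 : ∀ r : F, -r = r := fun r => by linear_combination (-r) * h2
  have hcsk : c + K.bar c = 0 := by
    obtain ⟨z₁, wz₁⟩ := H.hB.exists_one hw0
    have := H.hAB.dot_image (H.isoM hzM) (ten v w) (ten v z₁)
    rw [hzT, kron_mulVec_ten, kron_mulVec_ten, Matrix.add_mulVec, Matrix.one_mulVec, Matrix.smul_mulVec, Nv,
      ph_ten_dot, ph_ten_dot, hTiso, wz₁, mul_one, mul_one, ph_add, ph_smul, add_dotProduct, smul_dotProduct,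
      dotProduct_add, dotProduct_smul, dotProduct_add, dotProduct_smul, hu, hv, huv, hvu] at this
    simp only [smul_eq_mul, mul_zero, mul_one, zero_add, add_zero] at this
    linear_combination this
  have hkX : z.1 * Y = Y * z.1 := by
    have := congrArg Units.val hzk
    rwa [Units.val_mul, Units.val_mul, hkv, Matrix.mul_add, Matrix.add_mul, Matrix.mul_one, Matrix.one_mul,
      add_right_inj] at this
  rw [← hk]
  obtain ⟨D, hD⟩ : ∃ D, D = T' - 1 := ⟨_, rfl⟩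
  have hTD : T' = 1 + D := by rw [hD]; abel
  by_cases hD0 : D = 0
  · rw [hTD, hD0, add_zero, Matrix.add_kronecker, Matrix.one_kronecker_one] at hzT
    have hc0 : c ≠ 0 := fun e => hz1 (Units.ext (by
      rw [hzT, e, zero_smul, Matrix.zero_kronecker, add_zero, Units.val_one]))
    refine H.tens_of_line_two hb ha hex hR hkM hu hu0 (line ?_)
    rw [hzT, Matrix.mul_add, Matrix.add_mul, Matrix.mul_one, Matrix.one_mul, add_right_inj,
      Matrix.smul_kronecker, Matrix.mul_smul, Matrix.smul_mul] at hkX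
    have e := smul_right_injective _ hc0 hkX
    rw [hkv, hX, Matrix.smul_kronecker, Matrix.mul_smul, Matrix.smul_mul, Matrix.mul_add, Matrix.add_mul, ← e,
      Matrix.mul_one, Matrix.one_mul]
  -- the second factor is a transvection
  have hDD : D * D = 0 := by
    rw [hD, Matrix.sub_mul, Matrix.mul_sub, Matrix.mul_sub, hT2, Matrix.mul_one, Matrix.one_mul, Matrix.mul_one]
    linear_combination (norm := module) dbl (1 : Matrix β β F) - dbl T'
  have hDsym : ∀ p p', ph K JB (D *ᵥ p) ⬝ᵥ p' = ph K JB p ⬝ᵥ (D *ᵥ p') := fun p p' => by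
    have h1 := hTiso p (T' *ᵥ p')
    rw [Matrix.mulVec_mulVec p' T', hT2, Matrix.one_mulVec] at h1
    rw [hD, Matrix.sub_mulVec, Matrix.sub_mulVec, Matrix.one_mulVec, Matrix.one_mulVec, ph_sub, sub_dotProduct,
      dotProduct_sub, h1]
  obtain ⟨b₀, hb₀⟩ : ∃ b, D *ᵥ b ≠ 0 := by
    by_contra hcon
    push Not at hcon
    exact hD0 (Matrix.ext_iff_mulVec.2 fun p => by rw [hcon, Matrix.zero_mulVec])
  obtain ⟨w₁, hw₁d⟩ : ∃ w₁, w₁ = D *ᵥ b₀ := ⟨_, rfl⟩
  rw [← hw₁d] at hb₀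
  have horth : ∀ p p', ph K JB (D *ᵥ p) ⬝ᵥ (D *ᵥ p') = 0 := fun p p' => by
    rw [hDsym, Matrix.mulVec_mulVec, hDD, Matrix.zero_mulVec, dotProduct_zero]
  have hw₁ : ph K JB w₁ ⬝ᵥ w₁ = 0 := hw₁d ▸ horth _ _
  obtain ⟨z₀, wz, zw, -⟩ := H.hB.exists_dual hw₁ hb₀
  obtain ⟨d, hd⟩ : ∃ d, d = ph K JB z₀ ⬝ᵥ (D *ᵥ z₀) := ⟨_, rfl⟩
  have hDW : D = d • Rk K JB w₁ w₁ := Matrix.ext_iff_mulVec.2 fun p => by
    obtain ⟨s, hs⟩ := H.hB.iso_orth hb hw₁ hb₀ (horth p p) (hw₁d ▸ horth b₀ p)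
    obtain ⟨t, ht⟩ := H.hB.iso_orth hb hw₁ hb₀ (horth z₀ z₀) (hw₁d ▸ horth b₀ z₀)
    have h1 := hDsym z₀ p
    rw [hs, ht, ph_smul, smul_dotProduct, dotProduct_smul, zw, smul_eq_mul, smul_eq_mul, mul_one] at h1
    have hdt : d = t := by rw [hd, ht, dotProduct_smul, zw, smul_eq_mul, mul_one]
    have htr : K.bar t = t := by
      have h2' := hDsym z₀ z₀
      rw [ht, ph_smul, smul_dotProduct, dotProduct_smul, zw, wz, smul_eq_mul, smul_eq_mul, mul_one, mul_one] at h2'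
      exact h2'
    rw [hs, ← h1, htr, Matrix.smul_mulVec, H.hB.rk_mulVec, smul_smul, hdt]
  have hd0 : d ≠ 0 := fun e => hD0 (by rw [hDW, e, zero_smul])
  have hdsk : d + K.bar d = 0 := by
    have h1 := hDsym z₀ z₀
    rw [H.hB.swap, ← hd] at h1
    linear_combination h1 + d * h2
  rw [hTD, hDW, hN] at hzT
  by_cases hc0 : c = 0
  · rw [hc0, zero_smul, add_zero, Matrix.kronecker_add, Matrix.one_kronecker_one, Matrix.kronecker_smul,
      ← zm_one (K := K) JB w₁] at hzT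
    refine H.tens_of_comm hex hR hw₁ hb₀ hkM ?_
    rw [hzT, Matrix.mul_add, Matrix.add_mul, Matrix.mul_one, Matrix.one_mul, add_right_inj, Matrix.mul_smul,
      Matrix.smul_mul] at hkX
    have e := smul_right_injective _ hd0 hkX
    rw [hkv, Matrix.mul_add, Matrix.add_mul, Matrix.mul_one, Matrix.one_mul, ← e]
  rw [hk] at hzk ⊢
  exact H.tens_of_twist hb ha hex hR h2 hq hu hu0 hw₁ hb₀ hc0 hd0 hcsk hdsk hzT hg hw hw0 hθ0 hθ hx hx' hzk

/-- Without roots everything is a Kronecker product. -/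
theorem tens_all_six (hb : Fintype.card β = 3) (ha : Fintype.card α = 2) (hq : q ≠ 2) (hR : ¬ Root K JA JB M)
    {g : GL (α × β) F} (hg : g ∈ M) : Tens g.1 := by
  haveI := H.nonempty_left
  haveI := H.nonempty_right
  have hex : q = 2 → 3 ≤ Fintype.card α := fun e => absurd e hq
  obtain ⟨θ, hθ0, hθ'⟩ := exists_skew K
  have hθ : θ + K.bar θ = 0 := by rw [hθ', add_neg_cancel]
  obtain ⟨w, hw0, hw, -⟩ := H.hB.exists_iso_perp (fun i : Fin 0 => i.elim0) (by simp; omega)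
  obtain ⟨x, hx, hx', -⟩ := H.exists_root_elt hw hθ
  refine H.tens_of_conj hex (by omega) hR hg hw hw0 hθ0 hx' ?_
  by_cases h2 : (2 : F) = 0
  · exact H.tens_conj_even hb ha hex hR h2 hq hg hw hw0 hθ0 hθ hx hx'
  obtain ⟨Y, hY⟩ : ∃ Y, Y = g.1 * Zm K JB w (θ • (1 : Matrix α α F)) * (g⁻¹).1 := ⟨_, rfl⟩
  refine H.tens_conj_odd hb ha hex hR h2 (M.mul_mem (M.mul_mem hg hx) (M.inv_mem hg)) (Y := Y) ?_ ?_ ?_
  · rw [Units.val_mul, Units.val_mul, hx', Matrix.mul_add, Matrix.mul_one, Matrix.add_mul, g.mul_inv, hY]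
  · rw [hY, Matrix.mul_assoc, Matrix.mul_assoc, ← Matrix.mul_assoc (g⁻¹).1, ← Matrix.mul_assoc (g⁻¹).1, g.inv_mul,
      Matrix.one_mul, ← Matrix.mul_assoc (Zm K JB w _), zm_mul K JB hw, Matrix.zero_mul, Matrix.mul_zero]
  · rw [hY, rank_conj]
    refine le_antisymm ?_ ?_
    · rw [Zm, Matrix.mul_assoc]
      exact ha ▸ (Matrix.rank_mul_le_left _ _).trans (Matrix.rank_le_card_width _)
    obtain ⟨z, wz, -, -⟩ := H.hB.exists_dual hw hw0
    obtain ⟨φ, hφ⟩ := exists_dual_one hw0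
    have e : kr α φ * (Zm K JB w (θ • (1 : Matrix α α F)) * kc α z) = θ • 1 := by
      rw [zm_mul_kc, wz, one_smul, kr_kc_mul, hφ, one_smul]
    have h1 := (Matrix.rank_mul_le_right (kr α φ) (Zm K JB w (θ • (1 : Matrix α α F)) * kc α z)).trans
      (Matrix.rank_mul_le_left _ _)
    rw [e, Matrix.rank_of_isUnit _ ((Matrix.isUnit_iff_isUnit_det _).2 (by
      rw [Matrix.det_smul, Matrix.det_one, mul_one]; exact (pow_ne_zero _ hθ0).isUnit)), ha] at h1
    exact h1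

end Hyp

end CfsgLib.Classical.TensorUnitary
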