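import Cfsg.Agent.Lib.Classical.TensorUnitary.Main
import Cfsg.Agent.Lib.Classical.TensorUnitary.SixTens

set_option autoImplicit false
set_option linter.unusedSectionVars false

/-!
The stabiliser in `SU_6(q)` of the product of a Hermitian plane and a Hermitian space of dimension three is
maximal for `q ≥ 3`.
-/

namespace CfsgLib.Classical.TensorUnitary

open Matrix CfsgLib.Classical.TensorMax CfsgLib.Classical.Herm CfsgLib.Classical.Elation Cfsg
open CfsgLib.Classical.TensorSymp (ten kron_mulVec_ten)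
open CfsgLib.ClassicalAut (Unitary.Conj Unitary.herm_apply)
open scoped MatrixGroups Kronecker

variable {F : Type*} [Field F] [Finite F] {q : ℕ} {K : Unitary.Conj F q}
variable {α β : Type} [Fintype α] [DecidableEq α] [Fintype β] [DecidableEq β]
variable {n : ℕ} {M : Subgroup (SU n F q)}
variable {JA : Matrix α α F} {JB : Matrix β β F}

/-- The difference between a parameter and its image under a transvection in `M`. -/
theorem step_skew {e x g : Fin n → F} (he : hermForm n F q e e = 0) (hx : x ∈ pars K M he) (hg : g ∈ centres K M)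
    (heg : hermForm n F q e g = 0) {c : F} (hc : c + K.bar c = 0) : (c * hermForm n F q x g) • g ∈ pars K M he := by
  obtain ⟨s, hs⟩ := exists_T K hg.1 hc
  have hse : app s e = e := by rw [hs.2.2, heg, mul_zero, zero_smul, add_zero]
  have h1 := (pars K M he).sub_mem (pars_stab K he (hg.2 _ _ hs) hse hx) hx
  rwa [hs.2.2, add_sub_cancel_left] at h1

/-- Two centres with every combination on a skew line give a real line of parameters. -/
theorem real_line {e f : Fin n → F} (he : hermForm n F q e e = 0) (hec : e ∈ centres K M)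
    (hfe : hermForm n F q f e = 0) (hf : f ∈ centres K M)
    (hsum : ∀ c : F, c + K.bar c = 0 → e + c • f ∈ centres K M) {r : F} (hr : K.bar r = r) :
    r • f ∈ pars K M he := by
  obtain ⟨θ, hθ0, hθ⟩ := TensorUnitary.exists_skew K
  obtain ⟨g, hg⟩ : ∃ g, g = (r / θ) • f := ⟨_, rfl⟩
  have hgc : g ∈ centres K M := hg ▸ smul_mem_centres K _ hf
  have hsk : r / θ + K.bar (r / θ) = 0 := by
    rw [map_div₀, hr, hθ, div_neg, add_neg_cancel]
  have hsc : e + g ∈ centres K M := hg ▸ hsum _ hsk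
  have hge : hermForm n F q g e = 0 := by rw [hg, h_smul_left K, hfe, mul_zero]
  have heg := h_eq_zero_symm K hge
  have hθs : θ + K.bar θ = 0 := by rw [hθ, add_neg_cancel]
  have hθn : -θ + K.bar (-θ) = 0 := by rw [map_neg, hθ]; ring
  obtain ⟨t₁, h₁⟩ := exists_T K hsc.1 hθs
  obtain ⟨t₂, h₂⟩ := exists_T K hec.1 hθn
  obtain ⟨t₃, h₃⟩ := exists_T K hgc.1 hθn
  refine ⟨t₁ * t₂ * t₃, mul_mem (mul_mem (hsc.2 _ _ h₁) (hec.2 _ _ h₂)) (hgc.2 _ _ h₃), 0, he, ?_, ?_, fun x => ?_⟩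
  · rw [h_smul_left K, hfe, mul_zero]
  · rw [h_smul_left K, h_smul_right K, hf.1]
    simp
  · rw [app_mul, app_mul, h₃.2.2, h₂.2.2, h₁.2.2]
    have e1 : r • f = θ • g := by rw [hg, smul_smul, mul_div_cancel₀ _ hθ0]
    rw [e1]
    simp only [h_add_left K, h_add_right K, h_smul_left K, h_smul_right K, he, hge, heg, hgc.1, hθ]
    module

variable (Φ : (α × β → F) →ₗ[F] (Fin n → F))
  (hΦ : ∀ X Y, hermForm n F q (Φ X) (Φ Y) = ph K (JA ⊗ₖ JB) Y ⬝ᵥ X)
  (hc : ∀ u w, ph K JA u ⬝ᵥ u = 0 → ph K JB w ⬝ᵥ w = 0 → Φ (ten u w) ∈ centres K M)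

include hΦ hc

/-- The first parameters at a pure tensor. -/
theorem pars_first (hA : IsHerm K JA) (hB : IsHerm K JB)
    {u v : α → F} {w z y : β → F} (hu : ph K JA u ⬝ᵥ u = 0) (hv : ph K JA v ⬝ᵥ v = 0) (huv : ph K JA u ⬝ᵥ v = 1)
    (hw : ph K JB w ⬝ᵥ w = 0) (hz : ph K JB z ⬝ᵥ z = 0) (hwz : ph K JB w ⬝ᵥ z = 1)
    (hwy : ph K JB w ⬝ᵥ y = 0) (hzy : ph K JB z ⬝ᵥ y = 0)
    (he : hermForm n F q (Φ (ten u w)) (Φ (ten u w)) = 0) :
    (∀ δ : F, δ • Φ (ten u y) ∈ pars K M he) ∧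
      ∀ c : F, c + K.bar c = 0 → c • Φ (ten u z) ∈ pars K M he := by
  have hval : ∀ a a' b b', hermForm n F q (Φ (ten a b)) (Φ (ten a' b')) =
      (ph K JA a' ⬝ᵥ a) * (ph K JB b' ⬝ᵥ b) := fun a a' b b' => by rw [hΦ, ph_ten_dot]
  have hzw : ph K JB z ⬝ᵥ w = 1 := by rw [hB.swap, hwz, map_one]
  have hvu : ph K JA v ⬝ᵥ u = 1 := by rw [hA.swap, huv, map_one]
  have hf : Φ (ten v w) ∈ pars K M he := by
    have h1 := real_line he (hc u w hu hw) (by rw [hval, hw, mul_zero]) (hc v w hv hw) (fun c hc' => by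
      rw [← map_smul, ← TensorSymp.ten_smul_left, ← map_add, ← TensorSymp.ten_add_left]
      refine hc _ _ ?_ hw
      simp only [ph_add, ph_smul, add_dotProduct, smul_dotProduct, dotProduct_add, dotProduct_smul, smul_eq_mul, hu,
        hv, huv, hvu, mul_zero, mul_one, add_zero, zero_add]
      linear_combination hc') (r := 1) (map_one _)
    rwa [one_smul] at h1
  have key : ∀ b, ph K JB b ⬝ᵥ b = 0 → ph K JB b ⬝ᵥ w = 1 → ∀ c : F, c + K.bar c = 0 →
      c • Φ (ten u b) ∈ pars K M he := fun b hb hbw c hc' => by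
    have := step_skew he hf (hc u b hu hb) (by rw [hval, hu, zero_mul]) hc'
    rwa [hval, huv, hbw, one_mul, mul_one] at this
  refine ⟨fun δ => ?_, fun c hc' => key z hz hzw c hc'⟩
  obtain ⟨θ, hθ0, hθ⟩ := TensorUnitary.exists_skew K
  have hθs : θ + K.bar θ = 0 := by rw [hθ, add_neg_cancel]
  obtain ⟨t, ht⟩ : ∃ t, t = δ / θ := ⟨_, rfl⟩
  obtain ⟨k, hk⟩ := hB.exists_k (t • y)
  have i1 : ph K JB (z + t • y + k • w) ⬝ᵥ (z + t • y + k • w) = 0 := by
    simp only [ph_smul, smul_dotProduct, dotProduct_smul, smul_eq_mul] at hk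
    simp only [ph_add, ph_smul, add_dotProduct, smul_dotProduct, dotProduct_add, dotProduct_smul, smul_eq_mul, hw, hz,
      hwz, hzw, hwy, hzy, hB.orth_comm hwy, hB.orth_comm hzy]
    linear_combination hk
  have i2 : ph K JB (z + t • y + k • w) ⬝ᵥ w = 1 := by
    simp only [ph_add, ph_smul, add_dotProduct, smul_dotProduct, smul_eq_mul, hzw, hB.orth_comm hwy, hw, mul_zero,
      add_zero]
  have m := (pars K M he).sub_mem ((pars K M he).sub_mem (key _ i1 i2 θ hθs) (key z hz hzw θ hθs))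
    (smul_self_mem_pars K he (θ * k))
  have e1 : θ * t = δ := by rw [ht, mul_div_cancel₀ _ hθ0]
  convert m using 1
  rw [TensorSymp.ten_add_right, TensorSymp.ten_add_right, TensorSymp.ten_smul_right, TensorSymp.ten_smul_right,
    map_add, map_add, map_smul, map_smul, ← e1]
  module

/-- The parameters at a pure tensor. -/
theorem pars_seed_small (hA : IsHerm K JA) (hB : IsHerm K JB) (h2 : Fintype.card α = 2)
    (h3 : Fintype.card β = 3) (hn : 3 ≤ n) {u v : α → F} {w z : β → F} (hu : ph K JA u ⬝ᵥ u = 0)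
    (hv : ph K JA v ⬝ᵥ v = 0) (huv : ph K JA u ⬝ᵥ v = 1) (hw : ph K JB w ⬝ᵥ w = 0) (hz : ph K JB z ⬝ᵥ z = 0)
    (hwz : ph K JB w ⬝ᵥ z = 1) (he : hermForm n F q (Φ (ten u w)) (Φ (ten u w)) = 0) :
    ∀ a b, ph K JB w ⬝ᵥ b = 0 → Φ (ten a b) ∈ pars K M he := by
  have hval : ∀ a a' b b', hermForm n F q (Φ (ten a b)) (Φ (ten a' b')) =
      (ph K JA a' ⬝ᵥ a) * (ph K JB b' ⬝ᵥ b) := fun a a' b b' => by rw [hΦ, ph_ten_dot]
  have hvu : ph K JA v ⬝ᵥ u = 1 := by rw [hA.swap, huv, map_one]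
  have hzw : ph K JB z ⬝ᵥ w = 1 := by rw [hB.swap, hwz, map_one]
  obtain ⟨y, wy, zy, yy⟩ := hB.exists_aniso (by omega) hw hz hwz
  have hf : hermForm n F q (Φ (ten v w)) (Φ (ten v w)) = 0 := by rw [hval, hv, zero_mul]
  obtain ⟨luy, luz⟩ := pars_first Φ hΦ hc hA hB hu hv huv hw hz hwz wy zy he
  obtain ⟨lvy', -⟩ := pars_first Φ hΦ hc hA hB hv hu hvu hw hz hwz wy zy hf
  obtain ⟨s, hs, t, hsg⟩ := lvy' 1
  rw [one_smul] at hsg
  have hse : app s (Φ (ten u w)) = Φ (ten u w) := by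
    rw [Elation.app_eq K hsg, hval, hval, hw, hB.orth_comm wy]
    simp
  have lvw : ∀ δ : F, δ • Φ (ten v w) ∈ pars K M he := fun δ => by
    obtain ⟨m, hm⟩ : ∃ m, m = -(δ / (ph K JB y ⬝ᵥ y)) := ⟨_, rfl⟩
    have h1 := (pars K M he).sub_mem (pars_stab K he hs hse (luy m)) (luy m)
    rw [Elation.app_eq K hsg, h_smul_left K, h_smul_left K, hval, hval, wy, hvu] at h1
    convert h1 using 1
    have hm' : m * (ph K JB y ⬝ᵥ y) = -δ := by rw [hm, neg_mul, div_mul_cancel₀ _ yy]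
    linear_combination (norm := module) hm' • Φ (ten v w)
  obtain ⟨θ, hθ0, hθ⟩ := TensorUnitary.exists_skew K
  have hθs : θ + K.bar θ = 0 := by rw [hθ, add_neg_cancel]
  have lvy : ∀ δ : F, δ • Φ (ten v y) ∈ pars K M he := fun δ => by
    obtain ⟨s', hs', t', hsg'⟩ := lvy' (δ / θ)
    have hse' : app s' (Φ (ten u w)) = Φ (ten u w) := by
      rw [Elation.app_eq K hsg', h_smul_right K, hval, hval, hw, hB.orth_comm wy]
      simp
    have h1 := (pars K M he).sub_mem (pars_stab K he hs' hse' (luz θ hθs)) (luz θ hθs)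
    rw [Elation.app_eq K hsg', h_smul_left K, h_smul_right K, h_smul_left K, hval, hval, hB.orth_comm zy, hvu,
      hwz] at h1
    have h2' := (pars K M he).sub_mem h1 (lvw (t' * θ))
    convert h2' using 1
    have e1 : θ * (δ / θ) = δ := mul_div_cancel₀ _ hθ0
    linear_combination (norm := module) (-e1) • Φ (ten v y)
  intro a b hb
  have eb := hB.basis_three h3 hw hz hwz wy zy yy b
  rw [hb, zero_smul, add_zero] at eb
  rw [← hA.plane_dec h2 hu hv huv a, eb]
  simp only [TensorSymp.ten_add_left, TensorSymp.ten_add_right, TensorSymp.ten_smul_left, TensorSymp.ten_smul_right,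
    map_add, map_smul, smul_add, smul_smul]
  exact add_mem (add_mem (smul_self_mem_pars K he _) (lvw _)) (add_mem (luy _) (lvy _))

end CfsgLib.Classical.TensorUnitary

namespace CfsgLib.Classical.TensorUnitary

open Matrix CfsgLib.Classical.TensorMax CfsgLib.Classical.Herm CfsgLib.Classical.Elation Cfsg
open CfsgLib.Classical.TensorSymp (ten)
open CfsgLib.ClassicalAut (Unitary.Conj)
open scoped MatrixGroups Kronecker

variable {F : Type*} [Field F] [Finite F] {q : ℕ} (K : Unitary.Conj F q)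

include K in
/-- The stabiliser of `F² ⊗ F³` is maximal for `q ≥ 3`. -/
theorem isMaximalIn_two_three [Fintype F] (hq : 3 ≤ q) (e : Fin 6 ≃ Fin 2 × Fin 3) (P : GL (Fin 6) F)
    {f₁ : (Fin 2 → F) → (Fin 2 → F) → F} {f₂ : (Fin 3 → F) → (Fin 3 → F) → F}
    (hf₁ : Cfsg.Geo.IsUnitaryFormPow q f₁) (hf₂ : Cfsg.Geo.IsUnitaryFormPow q f₂)
    (hT : Cfsg.Geo.IsTensorFormStructure (fun x : F => x ^ q) (Cfsg.hermForm 6 F q) f₁ f₂ e P) :
    Cfsg.Geo.IsMaximalIn (Cfsg.GU 6 F q ⊓ Cfsg.Geo.specialLinear (Fin 6) F)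
      (Cfsg.Geo.tensorProductSubgroup 2 3 e P ⊓ (Cfsg.GU 6 F q ⊓ Cfsg.Geo.specialLinear (Fin 6) F)) :=
  isMaximalIn_of K (by norm_num) le_rfl le_rfl
    (fun _ _ _ H hR _ hg => H.tens_all_six (Fintype.card_fin 3) (Fintype.card_fin 2) (by omega) hR hg)
    (fun _ _ _ Φ hA hB hs hΦ hc => eq_top_of_seed hA hB (by simp) (by simp) (by norm_num) Φ hs hΦ hc
      fun _ _ _ _ hu hv huv hw hz hwz he => pars_seed_small Φ hΦ hc hA hB (Fintype.card_fin 2) (Fintype.card_fin 3)
        (by norm_num) hu hv huv hw hz hwz he)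
    e P hf₁ hf₂ hT

end CfsgLib.Classical.TensorUnitary
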