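import Cfsg.Agent.Lib.Classical.TensorUnitary.Root
import Cfsg.Agent.Lib.Classical.TensorUnitary.Pairs
import Cfsg.Agent.Lib.Classical.TensorOrth.Main

set_option autoImplicit false
set_option linter.unusedSectionVars false

/-!
Without a transvection with pure centre every element is a Kronecker product: an element commuting with a
transvection of the first factor and with a conjugate of one of the second factor shows that some transvection
of the second factor and this conjugate generate a group of class two.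
-/

namespace CfsgLib.Classical.TensorUnitary

open Matrix CfsgLib.Classical.TensorMax
open CfsgLib.Classical.TensorSymp (ten kc_mulVec kron_mulVec_ten)
open CfsgLib.ClassicalAut (Unitary.Conj)
open scoped MatrixGroups Kronecker

variable {F : Type*} [Field F] [Finite F] {q : ℕ} {K : Unitary.Conj F q}
variable {α β : Type} [Fintype α] [DecidableEq α] [Fintype β] [DecidableEq β]
variable {JA : Matrix α α F} {JB : Matrix β β F} {M : Subgroup (GL (α × β) F)}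

/-- The group with the two factors exchanged. -/
def swapM (M : Subgroup (GL (α × β) F)) : Subgroup (GL (β × α) F) :=
  M.comap (Cfsg.Geo.glReindex (F := F) (Equiv.prodComm β α)).toMonoidHom

theorem swap_val (g : GL (β × α) F) : (Cfsg.Geo.glReindex (F := F) (Equiv.prodComm β α) g).1 =
    g.1.submatrix (Equiv.prodComm α β) (Equiv.prodComm α β) := rfl

theorem kron_submatrix (A : Matrix α α F) (B : Matrix β β F) :
    A ⊗ₖ B = (B ⊗ₖ A).submatrix (Equiv.prodComm α β) (Equiv.prodComm α β) := by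
  ext ⟨i, j⟩ ⟨k, l⟩
  simp [Matrix.kronecker_apply, mul_comm]

namespace Hyp

variable (H : Hyp K JA JB M)
include H

theorem swap (h3 : 3 ≤ Fintype.card α) : Hyp K JB JA (swapM M) := by
  have hiso : ∀ g : GL (β × α) F, Iso K (JA ⊗ₖ JB) (Cfsg.Geo.glReindex (F := F) (Equiv.prodComm β α) g).1 ↔
      Iso K (JB ⊗ₖ JA) g.1 := by
    intro g
    have e : cj K (Cfsg.Geo.glReindex (F := F) (Equiv.prodComm β α) g).1 * (JA ⊗ₖ JB) *
        (Cfsg.Geo.glReindex (F := F) (Equiv.prodComm β α) g).1 =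
        (cj K g.1 * (JB ⊗ₖ JA) * g.1).submatrix (Equiv.prodComm α β) (Equiv.prodComm α β) := by
      rw [swap_val, kron_submatrix JA JB, show cj K (g.1.submatrix (Equiv.prodComm α β) (Equiv.prodComm α β)) =
        (cj K g.1).submatrix (Equiv.prodComm α β) (Equiv.prodComm α β) from rfl, Matrix.submatrix_mul_equiv,
        Matrix.submatrix_mul_equiv]
    unfold Iso
    rw [e, kron_submatrix JA JB]
    constructor
    · intro h
      have := congrArg (fun X => X.submatrix (Equiv.prodComm α β).symm (Equiv.prodComm α β).symm) h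
      simpa [Matrix.submatrix_submatrix] using this
    · exact fun h => by rw [h]
  have hdet : ∀ g : GL (β × α) F, (Cfsg.Geo.glReindex (F := F) (Equiv.prodComm β α) g).1.det = g.1.det := fun g => by
    rw [swap_val, Matrix.det_submatrix_equiv_self]
  exact
    { hA := H.hB
      hB := H.hA
      two_le := le_trans (by norm_num) H.three
      three := h3
      le := fun g hg => ⟨(hiso g).1 (H.le _ hg).1, (hdet g).symm.trans (H.le _ hg).2⟩
      tens := fun g h1 h2 h3 => H.tens _ ((hiso g).2 h1) ((hdet g).trans h2) (TensorOrth.tens_swap.2 h3) }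

theorem root_swap (hR : Root K JB JA (swapM M)) : Root K JA JB M := by
  obtain ⟨w, u, c, hw0, hw, hu0, hu, hc0, hc, g, hg, hg'⟩ := hR
  refine ⟨u, w, c, hu0, hu, hw0, hw, hc0, hc, _, hg, ?_⟩
  show (Cfsg.Geo.glReindex (F := F) (Equiv.prodComm β α) g).1 = _
  rw [swap_val, hg', zm_smul, zm_smul, zm_kron, zm_kron]
  ext ⟨i, j⟩ ⟨k, l⟩
  simp [Matrix.kronecker_apply, Matrix.one_apply, Rk, and_comm, mul_comm, mul_left_comm]

theorem small_of_not_root (hex : q = 2 → 3 ≤ Fintype.card α) (hR : ¬ Root K JA JB M) : Small K JB M := by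
  by_contra h
  exact hR (H.root_of_not_small hex h)

/-- An element stabilising `u ⊗ F^β` for an isotropic vector `u`. -/
theorem tens_of_line (h3 : 3 ≤ Fintype.card α) (hR : ¬ Root K JA JB M) {g : GL (α × β) F} (hg : g ∈ M)
    {u : α → F} (hu : ph K JA u ⬝ᵥ u = 0) (hu0 : u ≠ 0)
    (h : ∀ b : β → F, ∃ b', g.1 *ᵥ ten u b = ten u b') : Tens g.1 := by
  have H' := H.swap h3
  obtain ⟨g', hg'⟩ : ∃ g', Cfsg.Geo.glReindex (F := F) (Equiv.prodComm β α) g' = g :=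
    ⟨_, (Cfsg.Geo.glReindex (F := F) (Equiv.prodComm β α)).apply_symm_apply g⟩
  have hgM : g' ∈ swapM M := by
    show Cfsg.Geo.glReindex (F := F) (Equiv.prodComm β α) g' ∈ M
    rwa [hg']
  have hS : Small K JA (swapM M) := H'.small_of_not_root
    (fun _ => H.three) (fun hr => hR (H.root_swap hr))
  choose A hA using fun k => h (Pi.single k 1)
  have := H'.tens_of_stab hS hgM hu hu0 (A := Matrix.of fun l k => A k l) (by
    ext ⟨l, i⟩ k
    have e := congrFun (hA k) (i, l)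
    rw [← hg', swap_val] at e
    rw [TensorSymp.kc_mul_apply]
    simp only [Matrix.mulVec, dotProduct, ten, Matrix.mul_apply, Fintype.sum_prod_type, kc_apply,
      Matrix.submatrix_apply, Equiv.prodComm_apply, Prod.swap_prod_mk, Pi.single_apply, mul_ite, mul_one, mul_zero,
      Finset.sum_ite_eq', Finset.mem_univ, if_true, Matrix.of_apply] at e ⊢
    rw [Finset.sum_comm]
    simp only [Finset.sum_ite_eq', Finset.mem_univ, if_true]
    exact e)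
  rw [← hg']
  exact TensorOrth.tens_swap.2 this

/-- A Kronecker product differing from the identity by little is trivial on the first factor. -/
theorem tens_small {X : Matrix (α × β) (α × β) F} (hT : Tens (1 + X)) (hr : X.rank < Fintype.card β) :
    ∃ N : Matrix β β F, X = (1 : Matrix α α F) ⊗ₖ N := by
  haveI := H.nonempty_left
  obtain ⟨S, T, hST⟩ := hT
  by_cases hc : ∃ c : F, S = c • 1
  · obtain ⟨c, rfl⟩ := hc
    refine ⟨c • T - 1, ?_⟩
    rw [TensorOrth.kron_sub, Matrix.one_kronecker_one, Matrix.kronecker_smul, ← Matrix.smul_kronecker, ← hST,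
      add_sub_cancel_left]
  exfalso
  push Not at hc
  obtain ⟨v, hv0, hv⟩ := TensorMax.exists_moved hc
  obtain ⟨ψ, hψ1, hψ2⟩ := exists_dual_pair hv0 hv 1 0
  refine absurd (card_le_rank_of_sl ψ X fun b => ⟨ten v (-b), ?_⟩) (not_le.2 hr)
  rw [show X = S ⊗ₖ T - 1 by rw [← hST, add_sub_cancel_left], Matrix.sub_mulVec, Matrix.one_mulVec,
    kron_mulVec_ten, map_sub, sl_ten, sl_ten, hψ1, hψ2, zero_smul, zero_sub, one_smul, neg_neg]

/-- The transvections of the second factor. -/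
theorem exists_root_elt {w : β → F} (hw : ph K JB w ⬝ᵥ w = 0) {θ : F} (hθ : θ + K.bar θ = 0) :
    ∃ x ∈ M, x.1 = 1 + Zm K JB w (θ • (1 : Matrix α α F)) ∧ Tens x.1 := by
  obtain ⟨x, hx, hx'⟩ := H.inM_right (H.hB.iso_tau hw hθ) (det_tau K hw θ)
  refine ⟨x, hx, ?_, ⟨_, _, hx'⟩⟩
  rw [hx', tau, zm_smul, zm_kron, Matrix.kronecker_add, Matrix.one_kronecker_one, Matrix.kronecker_smul]

theorem rank_conj_zm (g : GL (α × β) F) (w : β → F) (C : Matrix α α F) :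
    (g.1 * Zm K JB w C * (g⁻¹).1).rank ≤ Fintype.card α := by
  rw [Zm, ← Matrix.mul_assoc g.1, ← Matrix.mul_assoc g.1, Matrix.mul_assoc (g.1 * kc α w), Matrix.mul_assoc (g.1 * kc α w)]
  exact (Matrix.rank_mul_le_left _ _).trans ((Matrix.rank_mul_le_right _ _).trans
    (Matrix.rank_le_card_width _))

/-- An element carrying a transvection of the second factor to a Kronecker product is one. -/
theorem tens_of_conj (hex : q = 2 → 3 ≤ Fintype.card α) (hlt : Fintype.card α < Fintype.card β)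
    (hR : ¬ Root K JA JB M) {g : GL (α × β) F} (hg : g ∈ M) {w : β → F} (hw : ph K JB w ⬝ᵥ w = 0) (hw0 : w ≠ 0)
    {θ : F} (hθ0 : θ ≠ 0) {x : GL (α × β) F} (hx : x.1 = 1 + Zm K JB w (θ • (1 : Matrix α α F)))
    (h : Tens (g * x * g⁻¹).1) : Tens g.1 := by
  haveI := H.nonempty_left
  obtain ⟨X, hXdef⟩ : ∃ X, X = g.1 * Zm K JB w (θ • (1 : Matrix α α F)) * (g⁻¹).1 := ⟨_, rfl⟩
  have hkv : (g * x * g⁻¹).1 = 1 + X := by
    rw [Units.val_mul, Units.val_mul, hx, Matrix.mul_add, Matrix.mul_one, Matrix.add_mul, g.mul_inv, hXdef]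
  have hr : X.rank ≤ Fintype.card α := hXdef ▸ H.rank_conj_zm g w _
  obtain ⟨N, hN⟩ := H.tens_small (hkv ▸ h) (lt_of_le_of_lt hr hlt)
  obtain ⟨z, wz, -, -⟩ := H.hB.exists_dual hw hw0
  have hgw : g.1 * kc α w = θ⁻¹ • (X * (g.1 * kc α z)) := by
    rw [hXdef, Matrix.mul_assoc (g.1 * _), ← Matrix.mul_assoc (g⁻¹).1, g.inv_mul, Matrix.one_mul, Matrix.mul_assoc,
      zm_mul_kc, wz, one_smul, Matrix.mul_smul (kc α w), Matrix.mul_one, Matrix.mul_smul, smul_smul,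
      inv_mul_cancel₀ hθ0, one_smul]
  obtain ⟨θ₁, hθ₁⟩ := exists_dual_one hw0
  have hli : (kr α θ₁ * (g⁻¹).1) * (g.1 * kc α w) = (1 : Matrix α α F) := by
    rw [Matrix.mul_assoc, ← Matrix.mul_assoc (g⁻¹).1, g.inv_mul, Matrix.one_mul, kr_mul_kc, hθ₁, one_smul]
  obtain ⟨s, hs⟩ : ∃ s, N *ᵥ s ≠ 0 := by
    by_contra hall
    push Not at hall
    have : N = 0 := Matrix.ext_of_mulVec_single fun j => by rw [hall, Matrix.zero_mulVec]
    rw [hgw, hN, this, Matrix.kronecker_zero, Matrix.zero_mul, smul_zero, Matrix.mul_zero] at hli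
    exact zero_ne_one hli
  obtain ⟨w', hw'def⟩ : ∃ w', w' = N *ᵥ s := ⟨_, rfl⟩
  rw [← hw'def] at hs
  obtain ⟨θ₂, hθ₂⟩ := exists_dual_one hs
  have hsub : LinearMap.range (kc α w' : Matrix (α × β) α F).mulVecLin ≤ LinearMap.range X.mulVecLin := by
    rintro _ ⟨a, rfl⟩
    refine ⟨ten a s, ?_⟩
    rw [Matrix.mulVecLin_apply, Matrix.mulVecLin_apply, hN, kron_mulVec_ten, Matrix.one_mulVec, kc_mulVec, hw'def]
  have hinj : LinearMap.ker (kc α w' : Matrix (α × β) α F).mulVecLin = ⊥ := by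
    refine LinearMap.ker_eq_bot'.2 fun a ha => ?_
    have := congrArg (kr α θ₂ *ᵥ ·) ha
    rwa [Matrix.mulVecLin_apply, Matrix.mulVec_mulVec, kr_mul_kc, hθ₂, one_smul, Matrix.one_mulVec,
      Matrix.mulVec_zero] at this
  have heq := Submodule.eq_of_le_of_finrank_le hsub (by
    rw [LinearMap.finrank_range_of_inj (LinearMap.ker_eq_bot.1 hinj), Module.finrank_pi]
    exact hr)
  obtain ⟨E, hE⟩ : ∃ E, E = kr α θ₂ * (g.1 * kc α w) := ⟨_, rfl⟩
  have hgE : g.1 * kc α w = kc α w' * E := by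
    refine Matrix.ext_iff_mulVec.2 fun a => ?_
    have hm : (g.1 * kc α w) *ᵥ a ∈ LinearMap.range X.mulVecLin :=
      ⟨θ⁻¹ • ((g.1 * kc α z) *ᵥ a), by
        rw [Matrix.mulVecLin_apply, Matrix.mulVec_smul, hgw, Matrix.smul_mulVec, Matrix.mulVec_mulVec]⟩
    rw [← heq] at hm
    obtain ⟨e, he⟩ := hm
    rw [Matrix.mulVecLin_apply] at he
    rw [hE, ← Matrix.mulVec_mulVec a (kc α w'), ← Matrix.mulVec_mulVec a (kr α θ₂), ← he,
      Matrix.mulVec_mulVec e (kr α θ₂), kr_mul_kc, hθ₂, one_smul, Matrix.one_mulVec]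
  obtain ⟨E', hE'⟩ : ∃ E', E' * E = 1 := ⟨kr α θ₁ * (g⁻¹).1 * kc α w', by rw [Matrix.mul_assoc, ← hgE, hli]⟩
  have hw' : ph K JB w' ⬝ᵥ w' = 0 := by
    have key : cj K (g.1 * kc α w) * (JA ⊗ₖ JB) * (g.1 * kc α w) = cj K (kc α w) * (JA ⊗ₖ JB) * kc α w := by
      calc cj K (g.1 * kc α w) * (JA ⊗ₖ JB) * (g.1 * kc α w)
          = cj K (kc α w) * (cj K g.1 * (JA ⊗ₖ JB) * g.1) * kc α w := by
            rw [cj_mul]; simp only [Matrix.mul_assoc]
        _ = _ := by rw [H.isoM hg]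
    rw [hgE, cj_mul, Matrix.mul_assoc (cj K E), cj_kc_form, cj_kc_form] at key
    simp only [Matrix.mul_assoc, kr_mul_kc, kr_kc_mul, hw, zero_smul, Matrix.mul_zero, Matrix.mul_smul] at key
    refine (smul_eq_zero.1 key).resolve_right fun e => H.hA.det_ne ?_
    have h1 := congrArg (fun Y => cj K E' * Y * E') e
    simp only [← Matrix.mul_assoc, ← cj_mul, mul_eq_one_comm.1 hE', cj_one, Matrix.one_mul, Matrix.mul_zero,
      Matrix.zero_mul] at h1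
    rw [Matrix.mul_assoc, mul_eq_one_comm.1 hE', Matrix.mul_one] at h1
    rw [h1, Matrix.det_zero]
  exact H.tens_of_move (H.small_of_not_root hex hR) hg hw hw0 hw' hs hgE

omit H in
/-- The projection along `u`. -/
theorem proj_facts {u η : α → F} (hη : η ⬝ᵥ u = 1) (x : α → F) :
    (1 - Matrix.vecMulVec u η) *ᵥ x = x - (η ⬝ᵥ x) • u := by
  simp [Matrix.sub_mulVec, Matrix.vecMulVec_mulVec, op_smul_eq_smul]

set_option maxHeartbeats 800000 in
/-- The structure of the image of an isotropic subspace modulo `u ⊗ F^β`. -/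
theorem exists_data (h3 : 3 ≤ Fintype.card α) (hex : q = 2 → 3 ≤ Fintype.card α)
    (hlt : Fintype.card α < Fintype.card β) (hR : ¬ Root K JA JB M) {g : GL (α × β) F} (hg : g ∈ M)
    (hnt : ¬ Tens g.1) {w : β → F} (hw : ph K JB w ⬝ᵥ w = 0) (hw0 : w ≠ 0) {u η : α → F}
    (hu : ph K JA u ⬝ᵥ u = 0) (hu0 : u ≠ 0) (hη : η ⬝ᵥ u = 1) :
    ∃ (z : GL (α × β) F) (w₀ φ : β → F) (v₀ ξ : α → F), z ∈ M ∧ w₀ ≠ 0 ∧ φ ≠ 0 ∧
      z.1 = (1 + Matrix.vecMulVec u ξ) ⊗ₖ (1 + Matrix.vecMulVec w₀ φ) ∧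
      z.1 * (g.1 * Zm K JB w 1 * (g⁻¹).1) = g.1 * Zm K JB w 1 * (g⁻¹).1 * z.1 ∧
      (∀ a : α → F, ∃ (c : F) (a' : α → F),
        ((1 - Matrix.vecMulVec u η) ⊗ₖ (1 : Matrix β β F)) *ᵥ ((g.1 * kc α w) *ᵥ a) =
          c • (((1 - Matrix.vecMulVec u η) ⊗ₖ (1 : Matrix β β F)) *ᵥ ((g.1 * kc α w) *ᵥ v₀)) +
            ten ((1 - Matrix.vecMulVec u η) *ᵥ a') w₀) ∧
      (∀ a' : α → F, ∃ a : α → F,
        ((1 - Matrix.vecMulVec u η) ⊗ₖ (1 : Matrix β β F)) *ᵥ ((g.1 * kc α w) *ᵥ a) =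
          ten ((1 - Matrix.vecMulVec u η) *ᵥ a') w₀) ∧
      ((∀ a : α → F, ∃ a' : α → F,
        ((1 - Matrix.vecMulVec u η) ⊗ₖ (1 : Matrix β β F)) *ᵥ ((g.1 * kc α w) *ᵥ a) =
          ten ((1 - Matrix.vecMulVec u η) *ᵥ a') w₀) ∨
       ∀ a : α → F, ((1 - Matrix.vecMulVec u η) ⊗ₖ (1 : Matrix β β F)) *ᵥ ((g.1 * kc α w) *ᵥ a) = 0 → a = 0) := by
  classical
  haveI := H.nonempty_left
  haveI := H.nonempty_right
  obtain ⟨θ, hθ0, hθ⟩ := exists_skew K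
  have hθs : θ + K.bar θ = 0 := by rw [hθ, add_neg_cancel]
  obtain ⟨P, hP⟩ : ∃ P, P = (1 - Matrix.vecMulVec u η : Matrix α α F) := ⟨_, rfl⟩
  have Pap : ∀ x, P *ᵥ x = x - (η ⬝ᵥ x) • u := fun x => hP ▸ proj_facts hη x
  have Pu : P *ᵥ u = 0 := by rw [Pap, hη, one_smul, sub_self]
  rw [← hP]
  obtain ⟨x, hx, hx', -⟩ := H.exists_root_elt hw hθs
  obtain ⟨i, hi, hi'⟩ := H.inM_left (H.hA.iso_tau hu hθs) (det_tau K hu θ)
  obtain ⟨X, hXdef⟩ : ∃ X, X = (θ • Rk K JA u u) ⊗ₖ (1 : Matrix β β F) := ⟨_, rfl⟩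
  have hiv : i.1 = 1 + X := by
    rw [hi', tau, Matrix.add_kronecker, Matrix.one_kronecker_one, hXdef]; rfl
  have hXa : ∀ a b, X *ᵥ ten a b = ten ((θ * (ph K JA u ⬝ᵥ a)) • u) b := fun a b => by
    rw [hXdef, kron_mulVec_ten, Rk, Matrix.smul_mulVec, Matrix.vecMulVec_mulVec, op_smul_eq_smul, smul_smul,
      Matrix.one_mulVec]
  obtain ⟨k, hk⟩ : ∃ k, k = g * x * g⁻¹ := ⟨_, rfl⟩
  obtain ⟨Y, hYdef⟩ : ∃ Y, Y = g.1 * Zm K JB w (θ • (1 : Matrix α α F)) * (g⁻¹).1 := ⟨_, rfl⟩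
  have hkv : k.1 = 1 + Y := by
    rw [hk, Units.val_mul, Units.val_mul, hx', Matrix.mul_add, Matrix.mul_one, Matrix.add_mul, g.mul_inv, hYdef]
  have hkM : k ∈ M := hk ▸ M.mul_mem (M.mul_mem hg hx) (M.inv_mem hg)
  have hXX : X * X = 0 := by
    rw [hXdef, ← Matrix.mul_kronecker_mul, Matrix.smul_mul, Matrix.mul_smul, Rk, Matrix.vecMulVec_mul_vecMulVec,
      hu, zero_smul, Matrix.vecMulVec_zero, smul_zero, smul_zero, Matrix.zero_kronecker]
  have hYY : Y * Y = 0 := by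
    rw [hYdef, Matrix.mul_assoc, Matrix.mul_assoc, ← Matrix.mul_assoc (g⁻¹).1, ← Matrix.mul_assoc (g⁻¹).1, g.inv_mul,
      Matrix.one_mul, ← Matrix.mul_assoc (Zm K JB w _), zm_mul K JB hw, Matrix.zero_mul, Matrix.mul_zero]
  obtain ⟨v, huv, -, -⟩ := H.hA.exists_dual hu hu0
  have hrX : Fintype.card β ≤ X.rank := card_le_rank_of_sl η X fun b => ⟨ten v (θ⁻¹ • b), by
    rw [hXa, huv, mul_one, sl_ten, dotProduct_smul, hη, smul_eq_mul, mul_one, smul_smul, mul_inv_cancel₀ hθ0,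
      one_smul]⟩
  have hrY : Y.rank ≤ Fintype.card α := hYdef ▸ H.rank_conj_zm g w _
  obtain ⟨z, hz, hz1, hzi, hzk⟩ := exists_commuting hXX hYY hiv hkv (by omega)
  have hzM : z ∈ M := (Subgroup.closure_le _).2 (by rintro y (rfl | rfl); exacts [hi, hkM]) hz
  have hzX : z.1 * X = X * z.1 := by
    have := congrArg Units.val hzi
    rwa [Units.val_mul, Units.val_mul, hiv, Matrix.mul_add, Matrix.add_mul, Matrix.mul_one, Matrix.one_mul,
      add_right_inj] at this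
  have hzY : z.1 * Y = Y * z.1 := by
    have := congrArg Units.val hzk
    rwa [Units.val_mul, Units.val_mul, hkv, Matrix.mul_add, Matrix.add_mul, Matrix.mul_one, Matrix.one_mul,
      add_right_inj] at this
  have hXrange : ∀ p : α × β → F, ∃ b, X *ᵥ p = ten u b := fun p => by
    refine ⟨θ • sl (ph K JA u) p, ?_⟩
    ext ⟨i, l⟩
    simp [hXdef, Matrix.mulVec, dotProduct, Fintype.sum_prod_type, Matrix.kronecker_apply, Matrix.one_apply, Rk,
      Matrix.vecMulVec_apply, ten, sl_apply, Finset.mul_sum, mul_assoc, mul_left_comm]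
  have line : ∀ {y : GL (α × β) F}, y.1 * X = X * y.1 → ∀ b, ∃ b', y.1 *ᵥ ten u b = ten u b' := fun {y} hy b => by
    obtain ⟨b', hb'⟩ := hXrange (y.1 *ᵥ ten v (θ⁻¹ • b))
    refine ⟨b', ?_⟩
    have e : X *ᵥ ten v (θ⁻¹ • b) = ten u b := by
      rw [hXa, huv, mul_one, TensorSymp.ten_smul_left, TensorSymp.ten_smul_right, smul_smul, mul_inv_cancel₀ hθ0,
        one_smul]
    rw [← e, Matrix.mulVec_mulVec, hy, ← Matrix.mulVec_mulVec, hb']
  obtain ⟨S, T, hST⟩ := H.tens_of_line h3 hR hzM hu hu0 (line hzX)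
  -- the image
  obtain ⟨π, hπ⟩ : ∃ π, π = P ⊗ₖ (1 : Matrix β β F) := ⟨_, rfl⟩
  rw [← hπ]
  have hπten : ∀ a b, π *ᵥ ten a b = ten (P *ᵥ a) b := fun a b => by
    rw [hπ, kron_mulVec_ten, Matrix.one_mulVec]
  obtain ⟨I, hI⟩ : ∃ I, I = LinearMap.range (π * (g.1 * kc α w)).mulVecLin := ⟨_, rfl⟩
  have hIcard : Module.finrank F I ≤ Fintype.card α := by
    rw [hI]
    exact (LinearMap.finrank_range_le _).trans (le_of_eq (Module.finrank_pi F))
  have hzI : ∀ p, π *ᵥ ((z.1 - 1) *ᵥ p) ∈ I := fun p => by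
    have := QuadPairInvol.sub_one_mem_range hXX hYY hiv hkv hz ⟨p, rfl⟩
    obtain ⟨_, ⟨p₁, rfl⟩, _, ⟨p₂, rfl⟩, e⟩ := Submodule.mem_sup.1 this
    simp only [Matrix.mulVecLin_apply] at e
    obtain ⟨b, hb⟩ := hXrange p₁
    rw [← e, Matrix.mulVec_add, hb, hπten, Pu, show ten (0 : α → F) b = 0 by ext p; simp [ten], zero_add, hI]
    refine ⟨((θ • kr α (ph K JB w)) * (g⁻¹).1) *ᵥ p₂, ?_⟩
    rw [Matrix.mulVecLin_apply, Matrix.mulVec_mulVec, Matrix.mulVec_mulVec, hYdef, Zm, Matrix.mul_smul,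
      Matrix.mul_one]
    simp only [Matrix.mul_assoc, Matrix.smul_mul, Matrix.mul_smul]
  have hTdet : T.det ≠ 0 := fun e => by
    have := (Matrix.isUnit_iff_isUnit_det _).1 z.isUnit
    rw [hST, Matrix.det_kronecker, e, zero_pow (Fintype.card_ne_zero), mul_zero] at this
    exact this.ne_zero rfl
  have hTinv : ∀ b, ∃ b', T *ᵥ b' = b := fun b =>
    ⟨T⁻¹ *ᵥ b, by rw [Matrix.mulVec_mulVec, Matrix.mul_nonsing_inv T (Ne.isUnit hTdet), Matrix.one_mulVec]⟩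
  have hSu : P *ᵥ (S *ᵥ u) = 0 := by
    obtain ⟨t, ht⟩ := exists_dual_one (w := (Pi.single (Classical.arbitrary β) 1 : β → F)) (by simp)
    obtain ⟨b, hb⟩ := hTinv (Pi.single (Classical.arbitrary β) 1)
    obtain ⟨b', hb'⟩ := line hzX b
    rw [hST, kron_mulVec_ten, hb] at hb'
    have := congrArg (fun p => kr α t *ᵥ (π *ᵥ p)) hb'
    simp only [hπten, kr_mulVec_ten, Pu, smul_zero, ht, one_smul] at this
    exact this
  have heig : ∀ v, v ≠ 0 → η ⬝ᵥ v = 0 → ∃ c : F, P *ᵥ (S *ᵥ v) = c • v := by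
    intro v hv0 hv
    by_contra hc
    push Not at hc
    obtain ⟨ψ, h1, h2⟩ := exists_dual_pair hv0 hc 1 0
    have hPv : P *ᵥ v = v := by rw [Pap, hv, zero_smul, sub_zero]
    have := card_le_rank_of_sl ψ (π * (z.1 - 1)) fun b => ⟨ten v (-b), by
      rw [← Matrix.mulVec_mulVec, hST, Matrix.sub_mulVec, Matrix.one_mulVec, kron_mulVec_ten, Matrix.mulVec_sub,
        hπten, hπten, hPv, map_sub, sl_ten, sl_ten, h1, h2, zero_smul, zero_sub, one_smul, neg_neg]⟩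
    have h4 : (π * (z.1 - 1)).rank ≤ Module.finrank F I := Submodule.finrank_mono (by
      rintro _ ⟨p, rfl⟩
      rw [Matrix.mulVecLin_apply, ← Matrix.mulVec_mulVec]
      exact hzI p)
    omega
  obtain ⟨v₁, hv₁0, hv₁⟩ := exists_orth (fun _ : Fin 1 => η) (by simp; omega)
  obtain ⟨lam, hlam⟩ := heig v₁ hv₁0 (hv₁ 0)
  have hscal : ∀ a, P *ᵥ (S *ᵥ a) = lam • (P *ᵥ a) := by
    have hker : ∀ v, η ⬝ᵥ v = 0 → P *ᵥ (S *ᵥ v) = lam • v := by
      intro v hv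
      by_cases hp : ∃ c : F, v = c • v₁
      · obtain ⟨c, rfl⟩ := hp
        rw [Matrix.mulVec_smul, Matrix.mulVec_smul, hlam, smul_comm]
      push Not at hp
      have hv0 : v ≠ 0 := fun e => hp 0 (by rw [e, zero_smul])
      obtain ⟨c, hc⟩ := heig v hv0 hv
      have hs0 : v₁ + v ≠ 0 := fun e => hp (-1) (by rw [neg_one_smul]; exact eq_neg_of_add_eq_zero_right e)
      obtain ⟨d, hd⟩ := heig (v₁ + v) hs0 (by rw [dotProduct_add, hv₁ 0, hv, add_zero])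
      rw [Matrix.mulVec_add, Matrix.mulVec_add, hlam, hc] at hd
      obtain ⟨ψ, p1, p2⟩ := exists_dual_pair hv₁0 hp 1 0
      obtain ⟨ψ', p1', p2'⟩ := exists_dual_pair hv₁0 hp 0 1
      have e1 := congrArg (ψ ⬝ᵥ ·) hd
      have e2 := congrArg (ψ' ⬝ᵥ ·) hd
      simp only [dotProduct_add, dotProduct_smul, p1, p2, p1', p2', smul_eq_mul, mul_one, mul_zero, add_zero,
        zero_add] at e1 e2
      rw [hc, e2, ← e1]
    intro a
    have := hker (P *ᵥ a) (by rw [Pap, dotProduct_sub, dotProduct_smul, hη, smul_eq_mul, mul_one, sub_self])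
    rw [← this, Pap a, Matrix.mulVec_sub, Matrix.mulVec_smul, Matrix.mulVec_sub, Matrix.mulVec_smul, hSu, smul_zero,
      sub_zero]
  obtain ⟨L, hL⟩ : ∃ L, L = lam • T - 1 := ⟨_, rfl⟩
  have hLmem : ∀ a b, ten (P *ᵥ a) (L *ᵥ b) ∈ I := fun a b => by
    have e : π *ᵥ ((z.1 - 1) *ᵥ ten a b) = ten (P *ᵥ a) (L *ᵥ b) := by
      rw [hST, Matrix.sub_mulVec, Matrix.one_mulVec, kron_mulVec_ten, Matrix.mulVec_sub, hπten, hπten, hscal, hL,
        Matrix.sub_mulVec, Matrix.smul_mulVec, Matrix.one_mulVec, TensorSymp.ten_smul_left]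
      ext p; simp [ten, mul_sub, mul_left_comm]
    exact e ▸ hzI _
  by_cases hL0 : L = 0
  · exfalso
    have hT1 : lam • T = 1 := sub_eq_zero.1 (hL ▸ hL0)
    have hlam0 : lam ≠ 0 := fun e => by
      rw [e, zero_smul] at hT1
      exact zero_ne_one hT1
    obtain ⟨S', hS'⟩ : ∃ S', S' = lam⁻¹ • S := ⟨_, rfl⟩
    have hz' : z.1 = S' ⊗ₖ (1 : Matrix β β F) := by
      rw [hST, hS', ← hT1, Matrix.smul_kronecker, Matrix.kronecker_smul, smul_smul, inv_mul_cancel₀ hlam0, one_smul]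
    have hS1 : ∀ a, S' *ᵥ a = a + (η ⬝ᵥ (S' *ᵥ a - a)) • u := fun a => by
      have e : P *ᵥ (S' *ᵥ a - a) = 0 := by
        rw [Matrix.mulVec_sub, hS', Matrix.smul_mulVec, Matrix.mulVec_smul, hscal, smul_smul, inv_mul_cancel₀ hlam0,
          one_smul, sub_self]
      rw [Pap, sub_eq_zero] at e
      rw [← e]; abel
    obtain ⟨a₀, ha₀⟩ : ∃ a, S' *ᵥ a ≠ a := by
      by_contra hc
      push Not at hc
      refine hz1 (Units.ext ?_)
      rw [hz', show S' = 1 from Matrix.ext_iff_mulVec.2 fun a => by rw [hc, Matrix.one_mulVec],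
        Matrix.one_kronecker_one]
      rfl
    obtain ⟨t, ht⟩ : ∃ t, t = η ⬝ᵥ (S' *ᵥ a₀ - a₀) := ⟨_, rfl⟩
    have ht0 : t ≠ 0 := fun e => ha₀ (by rw [hS1 a₀, ← ht, e, zero_smul, add_zero])
    have hkline : ∀ b, ∃ b', k.1 *ᵥ ten u b = ten u b' := fun b => by
      have hz2 : ∀ p, ∃ b', (z.1 - 1) *ᵥ p = ten u b' := fun p => by
        refine ⟨sl (η ᵥ* (S' - 1)) p, ?_⟩
        have e : S' - 1 = Matrix.vecMulVec u (η ᵥ* (S' - 1)) := by
          refine Matrix.ext_iff_mulVec.2 fun a => ?_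
          rw [Matrix.vecMulVec_mulVec, op_smul_eq_smul, ← Matrix.dotProduct_mulVec, Matrix.sub_mulVec,
            Matrix.one_mulVec, eq_comm]
          conv_rhs => rw [hS1 a, add_sub_cancel_left]
        rw [hz', show S' ⊗ₖ (1 : Matrix β β F) - 1 = (S' - 1) ⊗ₖ (1 : Matrix β β F) by
          rw [TensorOrth.kron_sub_left, Matrix.one_kronecker_one]]
        obtain ⟨ξ, hξ⟩ : ∃ ξ, ξ = η ᵥ* (S' - 1) := ⟨_, rfl⟩
        rw [← hξ] at e ⊢
        rw [e]
        ext ⟨i, l⟩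
        simp [Matrix.mulVec, dotProduct, Fintype.sum_prod_type, Matrix.kronecker_apply, Matrix.one_apply,
          Matrix.vecMulVec_apply, ten, sl_apply, Finset.mul_sum, mul_assoc]
      have e : (z.1 - 1) *ᵥ ten a₀ (t⁻¹ • b) = ten u b := by
        rw [hz', Matrix.sub_mulVec, Matrix.one_mulVec, kron_mulVec_ten, Matrix.one_mulVec]
        have := hS1 a₀
        rw [← ht] at this
        rw [this, TensorSymp.ten_add_left, add_sub_cancel_left, TensorSymp.ten_smul_left, TensorSymp.ten_smul_right,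
          smul_smul, mul_inv_cancel₀ ht0, one_smul]
      obtain ⟨b', hb'⟩ := hz2 (k.1 *ᵥ ten a₀ (t⁻¹ • b))
      refine ⟨b', ?_⟩
      rw [← e, Matrix.mulVec_mulVec, hkv, Matrix.mul_sub, Matrix.mul_one, Matrix.add_mul, Matrix.one_mul, ← hzY,
        ← hb', Matrix.mulVec_mulVec, hkv, Matrix.sub_mul, Matrix.one_mul, Matrix.mul_add, Matrix.mul_one]
    exact hnt (H.tens_of_conj hex hlt hR hg hw hw0 hθ0 hx' (hk ▸ H.tens_of_line h3 hR hkM hu hu0 hkline))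
  obtain ⟨b₀, hb₀⟩ : ∃ b, L *ᵥ b ≠ 0 := by
    by_contra hc
    push Not at hc
    exact hL0 (Matrix.ext_of_mulVec_single fun j => by rw [hc, Matrix.zero_mulVec])
  obtain ⟨w₀, hw₀⟩ : ∃ w₀, w₀ = L *ᵥ b₀ := ⟨_, rfl⟩
  rw [← hw₀] at hb₀
  obtain ⟨J0, hJ0⟩ : ∃ J0, J0 = LinearMap.range ((kc α w₀ : Matrix (α × β) α F) * P).mulVecLin := ⟨_, rfl⟩
  have hJ0I : J0 ≤ I := by
    rw [hJ0]
    rintro _ ⟨a, rfl⟩
    rw [Matrix.mulVecLin_apply, ← Matrix.mulVec_mulVec, kc_mulVec, hw₀]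
    exact hLmem a b₀
  have hJ0card : Fintype.card α ≤ Module.finrank F J0 + 1 := by
    have h1 := LinearMap.finrank_range_add_finrank_ker ((kc α w₀ : Matrix (α × β) α F) * P).mulVecLin
    rw [← hJ0, Module.finrank_pi] at h1
    have h2 : LinearMap.ker ((kc α w₀ : Matrix (α × β) α F) * P).mulVecLin ≤ Submodule.span F {u} := fun a ha => by
      obtain ⟨t, ht⟩ := exists_dual_one hb₀
      have := congrArg (kr α t *ᵥ ·) (LinearMap.mem_ker.1 ha)
      rw [Matrix.mulVecLin_apply, ← Matrix.mulVec_mulVec, Matrix.mulVec_mulVec _ (kr α t), kr_mul_kc, ht, one_smul,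
        Matrix.one_mulVec, Matrix.mulVec_zero, Pap, sub_eq_zero] at this
      exact Submodule.mem_span_singleton.2 ⟨_, this.symm⟩
    have h4 := Submodule.finrank_mono h2
    rw [finrank_span_singleton hu0] at h4
    omega
  obtain ⟨U, hU⟩ : ∃ U, U = g.1 * kc α w := ⟨_, rfl⟩
  rw [← hU] at hI ⊢
  have memJ0 : ∀ {y}, y ∈ J0 → ∃ a', y = ten (P *ᵥ a') w₀ := fun {y} hy => by
    rw [hJ0] at hy
    obtain ⟨a', rfl⟩ := hy
    exact ⟨a', by rw [Matrix.mulVecLin_apply, ← Matrix.mulVec_mulVec, kc_mulVec]⟩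
  have memI : ∀ a, π *ᵥ (U *ᵥ a) ∈ I := fun a => by
    rw [hI]; exact ⟨a, by rw [Matrix.mulVecLin_apply, Matrix.mulVec_mulVec]⟩
  obtain ⟨v₀, hv₀, hdich⟩ : ∃ v₀, I ≤ J0 ⊔ Submodule.span F {(π * U) *ᵥ v₀} ∧
      ((∀ a, ∃ a', π *ᵥ (U *ᵥ a) = ten (P *ᵥ a') w₀) ∨ ∀ a, π *ᵥ (U *ᵥ a) = 0 → a = 0) := by
    by_cases hle : I ≤ J0
    · exact ⟨0, le_sup_of_le_left hle, Or.inl fun a => memJ0 (hle (memI a))⟩
    obtain ⟨i₀, hi₀, hni⟩ := SetLike.not_le_iff_exists.1 hle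
    obtain ⟨v₀, rfl⟩ : ∃ v₀, (π * U) *ᵥ v₀ = i₀ := by rw [hI] at hi₀; exact hi₀
    have hlt' := Submodule.finrank_lt_finrank_of_lt (lt_of_le_of_ne hJ0I fun e => hle e.ge)
    refine ⟨v₀, le_of_eq (Submodule.eq_of_le_of_finrank_le ?_ ?_).symm, Or.inr fun a ha => ?_⟩
    · exact sup_le hJ0I (by rw [Submodule.span_singleton_le_iff_mem]; exact hi₀)
    · have : J0 < J0 ⊔ Submodule.span F {(π * U) *ᵥ v₀} :=
        lt_of_le_of_ne le_sup_left fun e => hni (by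
          rw [e]
          exact Submodule.mem_sup_right (Submodule.mem_span_singleton_self _))
      have := Submodule.finrank_lt_finrank_of_lt this
      omega
    · have h1 := LinearMap.finrank_range_add_finrank_ker (π * U).mulVecLin
      rw [← hI, Module.finrank_pi] at h1
      have h2 : LinearMap.ker (π * U).mulVecLin = ⊥ := Submodule.finrank_eq_zero.1 (by omega)
      exact LinearMap.ker_eq_bot'.1 h2 a (by rw [Matrix.mulVecLin_apply, ← Matrix.mulVec_mulVec, ha])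
  obtain ⟨i₀, hi₀⟩ : ∃ i₀, i₀ = π *ᵥ (U *ᵥ v₀) := ⟨_, rfl⟩
  rw [← Matrix.mulVec_mulVec, ← hi₀] at hv₀
  have memI' : ∀ {y}, y ∈ I → ∃ (c : F) (a' : α → F), y = c • i₀ + ten (P *ᵥ a') w₀ := fun {y} hy => by
    obtain ⟨x, hx, x', hx', e⟩ := Submodule.mem_sup.1 (hv₀ hy)
    obtain ⟨a', rfl⟩ := memJ0 hx
    obtain ⟨c, rfl⟩ := Submodule.mem_span_singleton.1 hx'
    exact ⟨c, a', by rw [← e, add_comm]⟩
  -- the second factor differs from a scalar by rank one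
  have hPfix : ∀ a, η ⬝ᵥ a = 0 → P *ᵥ a = a := fun a ha => by rw [Pap, ha, zero_smul, sub_zero]
  obtain ⟨a₁, ha₁0, ha₁⟩ := exists_orth (fun _ : Fin 1 => η) (by simp; omega)
  obtain ⟨t₁, ht₁⟩ := exists_dual_one ha₁0
  obtain ⟨a₂, ha₂0, ha₂⟩ := exists_orth ![η, t₁] (by simp; omega)
  have ha₂t : t₁ ⬝ᵥ a₂ = 0 := ha₂ 1
  have hLline : ∀ b, ∃ s : F, L *ᵥ b = s • w₀ := by
    intro b
    obtain ⟨c₁, x₁, e₁⟩ := memI' (hLmem a₁ b)
    obtain ⟨c₂, x₂, e₂⟩ := memI' (hLmem a₂ b)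
    rw [hPfix _ (ha₁ 0)] at e₁
    rw [hPfix _ (ha₂ 0)] at e₂
    obtain ⟨a, a', ha0, e⟩ : ∃ a a', a ≠ 0 ∧ ten a (L *ᵥ b) = ten a' w₀ := by
      by_cases hc : c₁ = 0
      · exact ⟨a₁, P *ᵥ x₁, ha₁0, by rw [e₁, hc, zero_smul, zero_add]⟩
      refine ⟨c₁ • a₂ - c₂ • a₁, c₁ • (P *ᵥ x₂) - c₂ • (P *ᵥ x₁), fun h0 => hc ?_, ?_⟩
      · have h1 := congrArg (t₁ ⬝ᵥ ·) h0
        simp only [dotProduct_sub, dotProduct_smul, ha₂t, ht₁, smul_eq_mul, mul_zero, mul_one, zero_sub,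
          dotProduct_zero, neg_eq_zero] at h1
        rw [h1, zero_smul, sub_zero, smul_eq_zero, or_iff_left ha₂0] at h0
        exact h0
      · have h1 : ∀ (p p' : α → F) (y : β → F), ten (p - p') y = ten p y - ten p' y := fun p p' y => by
          ext i; simp [ten, sub_mul]
        rw [h1, h1, TensorSymp.ten_smul_left, TensorSymp.ten_smul_left, TensorSymp.ten_smul_left,
          TensorSymp.ten_smul_left, e₁, e₂]
        module
    obtain ⟨ψ, hψ⟩ := exists_dual_one ha0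
    have e' := congrArg (sl ψ) e
    rw [sl_ten, sl_ten, hψ, one_smul] at e'
    exact ⟨_, e'⟩
  obtain ⟨t₀, ht₀⟩ := exists_dual_one hb₀
  obtain ⟨φ, hφ⟩ : ∃ φ, φ = t₀ ᵥ* L := ⟨_, rfl⟩
  have hLφ : L = Matrix.vecMulVec w₀ φ := Matrix.ext_iff_mulVec.2 fun b => by
    obtain ⟨s, hs⟩ := hLline b
    rw [Matrix.vecMulVec_mulVec, op_smul_eq_smul, hφ, ← Matrix.dotProduct_mulVec, hs, dotProduct_smul, ht₀,
      smul_eq_mul, mul_one]
  have hφ0 : φ ≠ 0 := fun e => hb₀ (by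
    rw [hw₀, hLφ, e, Matrix.vecMulVec_zero, Matrix.zero_mulVec])
  have hlam0 : lam ≠ 0 := fun e => by
    obtain ⟨b, hb, hb'⟩ := exists_orth (fun _ : Fin 1 => t₀) (by simp; omega)
    obtain ⟨s, hs⟩ := hLline b
    rw [hL, e, zero_smul, zero_sub, Matrix.neg_mulVec, Matrix.one_mulVec] at hs
    have h1 := congrArg (t₀ ⬝ᵥ ·) hs
    simp only [dotProduct_neg, hb' 0, dotProduct_smul, ht₀, neg_zero, smul_eq_mul, mul_one] at h1
    rw [← h1, zero_smul, neg_eq_zero] at hs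
    exact hb hs
  obtain ⟨S', hS'⟩ : ∃ S', S' = lam⁻¹ • S := ⟨_, rfl⟩
  have hS1 : S' = 1 + Matrix.vecMulVec u (η ᵥ* (S' - 1)) := Matrix.ext_iff_mulVec.2 fun a => by
    have e : P *ᵥ (S' *ᵥ a - a) = 0 := by
      rw [Matrix.mulVec_sub, hS', Matrix.smul_mulVec, Matrix.mulVec_smul, hscal, smul_smul, inv_mul_cancel₀ hlam0,
        one_smul, sub_self]
    rw [Pap, sub_eq_zero] at e
    rw [Matrix.add_mulVec, Matrix.one_mulVec, Matrix.vecMulVec_mulVec, op_smul_eq_smul, ← Matrix.dotProduct_mulVec,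
      Matrix.sub_mulVec, Matrix.one_mulVec, ← e, add_sub_cancel]
  have hz' : z.1 = S' ⊗ₖ (1 + Matrix.vecMulVec w₀ φ) := by
    rw [hST, hS', ← hLφ, hL, add_sub_cancel, Matrix.smul_kronecker, Matrix.kronecker_smul, smul_smul,
      inv_mul_cancel₀ hlam0, one_smul]
  refine ⟨z, w₀, φ, v₀, η ᵥ* (S' - 1), hzM, hb₀, hφ0, hS1 ▸ hz', ?_, fun a => ?_, fun a' => ?_, hdich⟩
  · have e : Y = θ • (g.1 * Zm K JB w 1 * (g⁻¹).1) := by
      rw [hYdef, zm_smul, Matrix.mul_smul, Matrix.smul_mul]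
    rw [e, Matrix.mul_smul, Matrix.smul_mul] at hzY
    exact smul_right_injective _ hθ0 hzY
  · rw [← hi₀]; exact memI' (memI a)
  · have hm : ten (P *ᵥ a') w₀ ∈ I := hw₀ ▸ hLmem a' b₀
    rw [hI] at hm
    obtain ⟨a, ha⟩ := hm
    exact ⟨a, by rw [← ha, Matrix.mulVecLin_apply, Matrix.mulVec_mulVec]⟩

/-- Two independent isotropic vectors span a plane. -/
theorem perp_line (h2 : Fintype.card α = 2) {u : α → F} (hu : ph K JA u ⬝ᵥ u = 0) (hu0 : u ≠ 0) {x : α → F}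
    (hx : ph K JA u ⬝ᵥ x = 0) : ∃ c : F, x = c • u := by
  obtain ⟨v, huv, -, -⟩ := H.hA.exists_dual hu hu0
  have hli : LinearIndependent F ![u, v] := (LinearIndependent.pair_iff' hu0).2 fun c e => by
    rw [← e, dotProduct_smul, hu, smul_zero] at huv
    exact zero_ne_one huv
  have hx' : x ∈ Submodule.span F (Set.range ![u, v]) := by
    rw [hli.span_eq_top_of_card_eq_finrank (by rw [Module.finrank_pi, h2, Fintype.card_fin])]
    trivial
  obtain ⟨c, hc⟩ := (Submodule.mem_span_range_iff_exists_fun F).1 hx'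
  rw [Fin.sum_univ_two] at hc
  simp only [Matrix.cons_val_zero, Matrix.cons_val_one] at hc
  rw [← hc, dotProduct_add, dotProduct_smul, dotProduct_smul, hu, huv, smul_zero, zero_add, smul_eq_mul,
    mul_one] at hx
  exact ⟨c 0, by rw [← hc, hx, zero_smul, add_zero]⟩

set_option maxHeartbeats 800000 in
/-- An isotropic vector against which the contraction `C` satisfies `C * C* * C = 0`. -/
theorem exists_good (hex : q = 2 → 3 ≤ Fintype.card α) (hlt : Fintype.card α < Fintype.card β)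
    (h4 : 4 ≤ Fintype.card β) (hR : ¬ Root K JA JB M) {g : GL (α × β) F} (hg : g ∈ M) (hnt : ¬ Tens g.1)
    {w : β → F} (hw : ph K JB w ⬝ᵥ w = 0) (hw0 : w ≠ 0) :
    ∃ y, y ≠ 0 ∧ ph K JB y ⬝ᵥ y = 0 ∧
      (kr α (ph K JB y) * (g.1 * kc α w)) * (kr α (ph K JB w) * (g⁻¹).1 * kc α y) *
        (kr α (ph K JB y) * (g.1 * kc α w)) = 0 := by
  classical
  haveI := H.nonempty_left
  haveI := H.nonempty_right
  obtain ⟨u, hu0, hu, -⟩ := H.hA.exists_iso_perp (fun i : Fin 0 => i.elim0) (by simpa using H.two_le)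
  obtain ⟨U, hU⟩ : ∃ U, U = g.1 * kc α w := ⟨_, rfl⟩
  rw [← hU]
  have hgJ := H.form_inv (H.isoM hg)
  have hadj : ∀ y, kr α (ph K JB w) * (g⁻¹).1 * kc α y = adj K JA (kr α (ph K JB y) * U) := fun y => by
    have e : JA * (kr α (ph K JB w) * (g⁻¹).1 * kc α y) = cj K (kr α (ph K JB y) * U) * JA := by
      have e1 : JA * (kr α (ph K JB y) * U) = cj K (kc α y) * (JA ⊗ₖ JB) * (g.1 * kc α w) := by
        rw [cj_kc_form, hU, Matrix.mul_assoc]
      have e2 := congrArg (cj K) e1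
      simp only [cj_mul, cj_cj, H.hA.herm, H.hAB.herm] at e2
      rw [cj_mul, e2, ← Matrix.mul_assoc, ← Matrix.mul_assoc, ← cj_kc_form, Matrix.mul_assoc (cj K (kc α w)), hgJ]
      simp only [Matrix.mul_assoc, cj_mul]
    have h2 := congrArg (JA⁻¹ * ·) e
    simp only [← Matrix.mul_assoc, Matrix.nonsing_inv_mul JA H.hA.isUnit, Matrix.one_mul] at h2
    rw [h2, adj]
  -- enough to have an image on the line `u`
  have easy : ∀ y, y ≠ 0 → ph K JB y ⬝ᵥ y = 0 →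
      (∀ a, ∃ d : F, (kr α (ph K JB y) * U) *ᵥ a = d • u) →
      ∃ y, y ≠ 0 ∧ ph K JB y ⬝ᵥ y = 0 ∧
        (kr α (ph K JB y) * U) * (kr α (ph K JB w) * (g⁻¹).1 * kc α y) * (kr α (ph K JB y) * U) = 0 := by
    intro y hy0 hy h
    refine ⟨y, hy0, hy, Matrix.ext_iff_mulVec.2 fun a => ?_⟩
    obtain ⟨d, hd⟩ := h a
    have hDu : adj K JA (kr α (ph K JB y) * U) *ᵥ u = 0 := H.hA.eq_zero_of_orth fun x => by
      rw [← H.hA.dot_adj]
      obtain ⟨e, he⟩ := h x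
      rw [he, dotProduct_smul, hu, smul_zero]
    rw [hadj, ← Matrix.mulVec_mulVec, ← Matrix.mulVec_mulVec, hd, Matrix.mulVec_smul, hDu, smul_zero,
      Matrix.mulVec_zero, Matrix.zero_mulVec]
  rcases Nat.lt_or_ge (Fintype.card α) 3 with h2 | h3
  · obtain ⟨y, hy0, hy, hy'⟩ := H.hB.exists_iso_perp
      (fun j : α => ph K JB (sl (ph K JA u) (U *ᵥ Pi.single j 1))) (by omega)
    refine easy y hy0 hy fun a => ?_
    have h0 : ph K JA u ᵥ* (kr α (ph K JB y) * U) = 0 := funext fun j => by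
      rw [Pi.zero_apply, ← dotProduct_single_one (ph K JA u ᵥ* _) j, ← Matrix.dotProduct_mulVec,
        ← Matrix.mulVec_mulVec, dot_kr_mulVec, H.hB.swap, hy', map_zero]
    exact H.perp_line (by have := H.two_le; omega) hu hu0 (x := (kr α (ph K JB y) * U) *ᵥ a)
      (by rw [Matrix.dotProduct_mulVec, h0, zero_dotProduct])
  obtain ⟨η, hηu⟩ := exists_dual_one hu0
  obtain ⟨z, w₀, φ, v₀, ξ, hzM, hw₀, hφ0, hz, hzW, hdata, hJ, hdich⟩ :=
    H.exists_data h3 hex hlt hR hg hnt hw hw0 hu hu0 hηu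
  rw [← hU] at hdata hJ hdich
  obtain ⟨P, hP⟩ : ∃ P, P = (1 - Matrix.vecMulVec u η : Matrix α α F) := ⟨_, rfl⟩
  have Pap : ∀ x, P *ᵥ x = x - (η ⬝ᵥ x) • u := fun x => hP ▸ proj_facts hηu x
  obtain ⟨π, hπ⟩ : ∃ π, π = P ⊗ₖ (1 : Matrix β β F) := ⟨_, rfl⟩
  rw [← hP, ← hπ] at hdata hJ hdich
  have hπdec : ∀ p : α × β → F, p = π *ᵥ p + ten u (sl η p) := by
    intro p
    funext ⟨i, l⟩
    simp only [hπ, hP, Pi.add_apply, ten, sl_apply, Matrix.mulVec, dotProduct, Fintype.sum_prod_type,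
      Matrix.kronecker_apply, Matrix.one_apply, Matrix.sub_apply, Matrix.vecMulVec_apply, mul_ite, ite_mul, mul_one,
      mul_zero, zero_mul, Finset.sum_ite_eq, Finset.mem_univ, if_true, sub_mul, Finset.sum_sub_distrib,
      one_mul, Finset.mul_sum, mul_assoc]
    ring
  obtain ⟨S, hS⟩ : ∃ S, S = (1 + Matrix.vecMulVec u ξ : Matrix α α F) := ⟨_, rfl⟩
  obtain ⟨T, hT⟩ : ∃ T, T = (1 + Matrix.vecMulVec w₀ φ : Matrix β β F) := ⟨_, rfl⟩
  rw [← hS, ← hT] at hz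
  have Sap : ∀ a, S *ᵥ a = a + (ξ ⬝ᵥ a) • u := fun a => by
    rw [hS, Matrix.add_mulVec, Matrix.one_mulVec, Matrix.vecMulVec_mulVec, op_smul_eq_smul]
  have Tap : ∀ b, T *ᵥ b = b + (φ ⬝ᵥ b) • w₀ := fun b => by
    rw [hT, Matrix.add_mulVec, Matrix.one_mulVec, Matrix.vecMulVec_mulVec, op_smul_eq_smul]
  have hprod : ∀ a a' b b', (ph K JA (S *ᵥ a) ⬝ᵥ (S *ᵥ a')) * (ph K JB (T *ᵥ b) ⬝ᵥ (T *ᵥ b')) =
      (ph K JA a ⬝ᵥ a') * (ph K JB b ⬝ᵥ b') := fun a a' b b' => by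
    rw [← ph_ten_dot, ← ph_ten_dot, ← kron_mulVec_ten, ← kron_mulVec_ten, ← hz]
    exact H.hAB.dot_image (H.isoM hzM) _ _
  obtain ⟨v, huv, hvu, hv⟩ := H.hA.exists_dual hu hu0
  -- the factors are isometries
  obtain ⟨x₁, x₂, hx₁, hx₂, hx₁₂⟩ : ∃ x₁ x₂, φ ⬝ᵥ x₁ = 0 ∧ φ ⬝ᵥ x₂ = 0 ∧ ph K JB x₁ ⬝ᵥ x₂ ≠ 0 := by
    obtain ⟨p, hp⟩ := H.hB.surj φ
    obtain ⟨tp, htp⟩ := exists_dual_one (w := p) (fun e => hφ0 (by rw [← hp, e, ph_zero]))
    obtain ⟨x₁, hx0, hx⟩ := exists_orth ![φ, tp] (by simp; omega)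
    have hxt : tp ⬝ᵥ x₁ = 0 := hx 1
    obtain ⟨x₂, h1, h2⟩ := exists_dual_pair hφ0 (v := ph K JB x₁) (fun c e => hx0 (by
      have e' : x₁ = K.bar c • p := sub_eq_zero.1 (H.hB.ph_eq_zero (by
        rw [ph_sub, ph_smul, K.bar_bar, hp, e, sub_self]))
      rw [e', dotProduct_smul, htp, smul_eq_mul, mul_one] at hxt
      rw [e', hxt, zero_smul])) 0 1
    rw [dotProduct_comm] at h1 h2
    exact ⟨x₁, x₂, hx 0, h1, by rw [h2]; exact one_ne_zero⟩
  have hSiso : ∀ a a', ph K JA (S *ᵥ a) ⬝ᵥ (S *ᵥ a') = ph K JA a ⬝ᵥ a' := fun a a' => by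
    have := hprod a a' x₁ x₂
    simp only [Tap, hx₁, hx₂, zero_smul, add_zero] at this
    exact mul_right_cancel₀ hx₁₂ this
  have hTiso : ∀ b b', ph K JB (T *ᵥ b) ⬝ᵥ (T *ᵥ b') = ph K JB b ⬝ᵥ b' := fun b b' => by
    have := hprod u v b b'
    rwa [hSiso, huv, one_mul, one_mul] at this
  have hξu : ∀ x, ph K JA u ⬝ᵥ x = 0 → ξ ⬝ᵥ x = 0 := fun x hx => by
    have h1 := hSiso v x
    simp only [Sap, ph_add, ph_smul, add_dotProduct, dotProduct_add, smul_dotProduct, dotProduct_smul, smul_eq_mul,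
      hu, hx, hvu, mul_zero, mul_one, add_zero] at h1
    linear_combination h1
  have Su : S *ᵥ u = u := by rw [Sap, hξu u hu, zero_smul, add_zero]
  -- the subspace is stable and totally isotropic
  obtain ⟨z₀, wz, -, -⟩ := H.hB.exists_dual hw hw0
  have hUst : ∀ a, ∃ b, z.1 *ᵥ (U *ᵥ a) = U *ᵥ b := fun a => by
    have e : U = g.1 * Zm K JB w 1 * (g⁻¹).1 * (g.1 * kc α z₀) := by
      rw [Matrix.mul_assoc (g.1 * _), ← Matrix.mul_assoc (g⁻¹).1, g.inv_mul, Matrix.one_mul, Matrix.mul_assoc,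
        zm_mul_kc, wz, one_smul, Matrix.mul_one, hU]
    refine ⟨(kr α (ph K JB w) * ((g⁻¹).1 * (z.1 * (g.1 * kc α z₀)))) *ᵥ a, ?_⟩
    conv_lhs => rw [e, Matrix.mulVec_mulVec, ← Matrix.mul_assoc z.1, hzW]
    rw [Matrix.mulVec_mulVec, hU, Zm, Matrix.mul_one]
    simp only [Matrix.mul_assoc]
  have hTI : ∀ a a', ph K (JA ⊗ₖ JB) (U *ᵥ a) ⬝ᵥ (U *ᵥ a') = 0 := fun a a' => by
    rw [hU, ← Matrix.mulVec_mulVec, ← Matrix.mulVec_mulVec, H.hAB.dot_image (H.isoM hg), kc_mulVec, kc_mulVec,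
      ph_ten_dot, hw, mul_zero]
  have hmove : ∀ a a', π *ᵥ (U *ᵥ a) = ten (P *ᵥ a') w₀ → z.1 *ᵥ (U *ᵥ a) - U *ᵥ a =
      ten ((φ ⬝ᵥ w₀) • (P *ᵥ a') + ((1 + φ ⬝ᵥ w₀) * (ξ ⬝ᵥ (P *ᵥ a')) + φ ⬝ᵥ sl η (U *ᵥ a)) • u) w₀ := by
    intro a a' ha
    have e := hπdec (U *ᵥ a)
    rw [ha] at e
    conv_lhs => rw [e, Matrix.mulVec_add, hz, kron_mulVec_ten, kron_mulVec_ten, Su, Sap, Tap, Tap]
    funext ⟨i, l⟩
    simp only [ten, Pi.add_apply, Pi.sub_apply, Pi.smul_apply, smul_eq_mul]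
    ring
  have hback : ∀ {p}, (∃ b, p = U *ᵥ b) → ph K (JA ⊗ₖ JB) p ⬝ᵥ p = 0 := fun ⟨b, hb⟩ => hb ▸ hTI b b
  obtain ⟨e, hue, hve, hee⟩ := H.hA.exists_aniso h3 hu hv huv
  obtain ⟨ν, hν⟩ : ∃ ν, ν = ph K JB w₀ ⬝ᵥ w₀ := ⟨_, rfl⟩
  have hκ : φ ⬝ᵥ w₀ = 0 := by
    by_contra hk
    have hν0 : ν = 0 := by
      obtain ⟨a, ha⟩ := hJ e
      obtain ⟨b, hb⟩ := hUst a
      have h0 := hback (p := z.1 *ᵥ (U *ᵥ a) - U *ᵥ a) ⟨b - a, by rw [hb, Matrix.mulVec_sub]⟩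
      rw [hmove a e ha, ph_ten_dot, ← hν, mul_eq_zero] at h0
      refine h0.resolve_left fun h1 => ?_
      rw [Pap e] at h1
      simp only [ph_add, ph_sub, ph_smul, add_dotProduct, sub_dotProduct, smul_dotProduct, dotProduct_add,
        dotProduct_sub, dotProduct_smul, smul_eq_mul, hu, hue, H.hA.orth_comm hue, mul_zero, add_zero,
        sub_zero] at h1
      exact mul_ne_zero hk (mul_ne_zero (fun e0 => hk (K.bar.injective (e0.trans (map_zero _).symm))) hee) h1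
    obtain ⟨b, hb⟩ := H.hB.exists_one hw₀
    have h1 := hTiso w₀ b
    simp only [Tap, ph_add, ph_smul, add_dotProduct, dotProduct_add, smul_dotProduct, dotProduct_smul, smul_eq_mul,
      ← hν, hν0, hb, mul_zero, mul_one, add_zero] at h1
    refine hk (K.bar.injective ?_)
    rw [map_zero]
    linear_combination h1
  have hν0 : ν = 0 := by
    obtain ⟨b, hb⟩ := exists_dual_one hφ0
    rw [dotProduct_comm] at hb
    have h1 := hTiso w₀ b
    simp only [Tap, hκ, zero_smul, add_zero, dotProduct_add, dotProduct_smul, hb, one_smul, ← hν] at h1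
    linear_combination h1
  have hiso₀ : ph K JB w₀ ⬝ᵥ w₀ = 0 := hν ▸ hν0
  obtain ⟨k, hk0, hφk⟩ : ∃ k : F, k ≠ 0 ∧ φ = k • ph K JB w₀ := by
    obtain ⟨x, hx⟩ := H.hB.exists_one hw₀
    have hx' : ph K JB x ⬝ᵥ w₀ = 1 := by rw [H.hB.swap, hx, map_one]
    have key : ∀ b, φ ⬝ᵥ b = (-K.bar (φ ⬝ᵥ x) • ph K JB w₀) ⬝ᵥ b := fun b => by
      have h1 := hTiso x b
      simp only [Tap, ph_add, ph_smul, add_dotProduct, dotProduct_add, smul_dotProduct, dotProduct_smul,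
        smul_eq_mul, hiso₀, hx', mul_zero, mul_one, add_zero] at h1
      rw [smul_dotProduct, smul_eq_mul]
      linear_combination h1
    have e : φ = -K.bar (φ ⬝ᵥ x) • ph K JB w₀ := funext fun l => by
      simpa using key (Pi.single l 1)
    exact ⟨_, fun e0 => hφ0 (by rw [e, e0, zero_smul]), e⟩
  have hπkr : ∀ (ψ : β → F) p, P *ᵥ (kr α ψ *ᵥ p) = kr α ψ *ᵥ (π *ᵥ p) := fun ψ p => by
    rw [Matrix.mulVec_mulVec, Matrix.mulVec_mulVec, hπ, kr_mul_kron, Matrix.vecMul_one]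
  have toline : ∀ {x}, P *ᵥ x = 0 → x = (η ⬝ᵥ x) • u := fun {x} hx => sub_eq_zero.1 (by rw [← Pap]; exact hx)
  rcases hdich with hall | hinj
  · refine easy w₀ hw₀ hiso₀ fun a => ⟨_, toline ?_⟩
    obtain ⟨a', ha⟩ := hall a
    rw [← Matrix.mulVec_mulVec, hπkr, ha, kr_mulVec_ten, hiso₀, zero_smul]
  -- the elements over `w₀` are fixed
  have hfixJ : ∀ a a', π *ᵥ (U *ᵥ a) = ten (P *ᵥ a') w₀ → z.1 *ᵥ (U *ᵥ a) = U *ᵥ a := by
    intro a a' ha
    obtain ⟨b, hb⟩ := hUst a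
    have h0 := hmove a a' ha
    rw [hκ, zero_smul, zero_add] at h0
    have h1 : U *ᵥ (b - a) = z.1 *ᵥ (U *ᵥ a) - U *ᵥ a := by rw [Matrix.mulVec_sub, hb]
    have h2 : π *ᵥ (U *ᵥ (b - a)) = 0 := by
      rw [h1, h0, hπ, kron_mulVec_ten, Matrix.mulVec_smul, Pap u, hηu, one_smul, sub_self, smul_zero]
      ext p; simp [ten]
    rw [hinj _ h2, Matrix.mulVec_zero] at h1
    exact sub_eq_zero.1 h1.symm
  by_cases hall : ∀ a, z.1 *ᵥ (U *ᵥ a) = U *ᵥ a
  · refine easy w₀ hw₀ hiso₀ fun a => ⟨_, toline ?_⟩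
    obtain ⟨p, hp⟩ : ∃ p, p = U *ᵥ a := ⟨_, rfl⟩
    have h0 : π *ᵥ (z.1 *ᵥ p - p) = ten (P *ᵥ (kr α φ *ᵥ p)) w₀ := by
      have e1 : π * z.1 = π + kc α w₀ * P * kr α φ := by
        rw [hπ, hz, ← Matrix.mul_kronecker_mul, Matrix.one_mul, kc_mul_mul_kr, hT, Matrix.kronecker_add]
        rw [show P * S = P by
          rw [hS, Matrix.mul_add, Matrix.mul_one, Matrix.mul_vecMulVec, Pap, hηu, one_smul, sub_self,
            Matrix.zero_vecMulVec, add_zero]]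
      rw [Matrix.mulVec_sub, Matrix.mulVec_mulVec, e1, Matrix.add_mulVec, add_sub_cancel_left,
        ← Matrix.mulVec_mulVec, ← Matrix.mulVec_mulVec, kc_mulVec]
    rw [hp, hall a, sub_self, Matrix.mulVec_zero] at h0
    obtain ⟨t, ht⟩ := exists_dual_one hw₀
    have h1 := congrArg (kr α t *ᵥ ·) h0
    simp only [Matrix.mulVec_zero, kr_mulVec_ten, ht, one_smul, hφk, kr_smul, Matrix.smul_mulVec,
      Matrix.mulVec_smul] at h1
    rw [← Matrix.mulVec_mulVec]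
    exact (smul_eq_zero.1 h1.symm).resolve_left hk0
  push Not at hall
  obtain ⟨a₀, ha₀⟩ := hall
  obtain ⟨i₀, hi₀⟩ : ∃ i₀, i₀ = π *ᵥ (U *ᵥ v₀) := ⟨_, rfl⟩
  rw [← hi₀] at hdata
  obtain ⟨y, hy0, hy, hy'⟩ := H.hB.exists_iso_perp ![ph K JB w₀, ph K JB (sl (ph K JA u) i₀)] (by simp; omega)
  have yw : ph K JB y ⬝ᵥ w₀ = 0 := H.hB.orth_comm (hy' 0)
  have yD : ph K JB y ⬝ᵥ sl (ph K JA u) i₀ = 0 := H.hB.orth_comm (hy' 1)
  obtain ⟨C, hC⟩ : ∃ C, C = kr α (ph K JB y) * U := ⟨_, rfl⟩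
  obtain ⟨D, hD⟩ : ∃ D, D = kr α (ph K JB w) * (g⁻¹).1 * kc α y := ⟨_, rfl⟩
  refine ⟨y, hy0, hy, ?_⟩
  rw [← hC, ← hD]
  have hCD : D = adj K JA C := by rw [hD, hC, hadj]
  have hperp : ∀ x, ph K JA u ⬝ᵥ (C *ᵥ x) = 0 := fun x => by
    obtain ⟨c, a', e⟩ := hdata x
    rw [hC, ← Matrix.mulVec_mulVec, hπdec (U *ᵥ x), e, dot_kr_mulVec]
    simp only [map_add, map_smul, sl_ten, dotProduct_add, dotProduct_smul, hu, yw, yD, smul_zero, add_zero,
      zero_smul, dotProduct_zero, smul_eq_mul, mul_zero, zero_mul]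
  have hDu : D *ᵥ u = 0 := H.hA.eq_zero_of_orth fun x => by rw [hCD, ← H.hA.dot_adj, hperp]
  have hfixD : ∀ x, z.1 *ᵥ (U *ᵥ (D *ᵥ x)) = U *ᵥ (D *ᵥ x) := fun x => by
    have hDS : D * S = D := by
      rw [hS, Matrix.mul_add, Matrix.mul_one, Matrix.mul_vecMulVec, hDu, Matrix.zero_vecMulVec, add_zero]
    have e1 : z.1 * kc α y = kc α y * S := by
      have hwy : ph K JB w₀ ⬝ᵥ y = 0 := hy' 0
      rw [hz, kron_mul_kc, Tap, hφk, smul_dotProduct, hwy, smul_zero, zero_smul, add_zero]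
    have e2 : U * D = g.1 * Zm K JB w 1 * (g⁻¹).1 * kc α y := by
      rw [hU, hD, Zm, Matrix.mul_one]; simp only [Matrix.mul_assoc]
    rw [Matrix.mulVec_mulVec, Matrix.mulVec_mulVec, Matrix.mul_assoc, e2, ← Matrix.mul_assoc z.1, hzW,
      Matrix.mul_assoc _ z.1, e1, ← Matrix.mul_assoc, ← e2, Matrix.mul_assoc, hDS, ← Matrix.mulVec_mulVec]
  have hfix : ∀ a, z.1 *ᵥ (U *ᵥ a) = U *ᵥ a → P *ᵥ (C *ᵥ a) = 0 := by
    intro a ha
    obtain ⟨c, a', e⟩ := hdata a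
    by_cases hc : c = 0
    · rw [hC, ← Matrix.mulVec_mulVec, hπkr, e, hc, zero_smul, zero_add, kr_mulVec_ten, yw, zero_smul]
    exfalso
    obtain ⟨c₁, a₁, e₁⟩ := hdata a₀
    have h0 := hfixJ (a₀ - (c₁ / c) • a) (a₁ - (c₁ / c) • a') (by
      rw [Matrix.mulVec_sub, Matrix.mulVec_smul, Matrix.mulVec_sub, Matrix.mulVec_smul, e, e₁, smul_add,
        smul_smul, div_mul_cancel₀ _ hc, Matrix.mulVec_sub, Matrix.mulVec_smul]
      funext p
      simp only [ten, Pi.add_apply, Pi.sub_apply, Pi.smul_apply, smul_eq_mul]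
      ring)
    rw [Matrix.mulVec_sub, Matrix.mulVec_smul, Matrix.mulVec_sub, Matrix.mulVec_smul, ha, sub_left_inj] at h0
    exact ha₀ h0
  have hDCD : D * C * D = 0 := Matrix.ext_iff_mulVec.2 fun x => by
    have := toline (hfix _ (hfixD x))
    rw [← Matrix.mulVec_mulVec, ← Matrix.mulVec_mulVec, this, Matrix.mulVec_smul, hDu, smul_zero,
      Matrix.zero_mulVec]
  have h1 := congrArg (adj K JA) hDCD
  rw [H.hA.adj_mul, H.hA.adj_mul, hCD, H.hA.adj_adj, ← hCD, ← Matrix.mul_assoc] at h1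
  rw [h1, adj, cj_zero, Matrix.mul_zero, Matrix.zero_mul]

/-- Without roots everything is a Kronecker product. -/
theorem tens_all (hex : q = 2 → 3 ≤ Fintype.card α) (hlt : Fintype.card α < Fintype.card β)
    (h4 : 4 ≤ Fintype.card β) (hR : ¬ Root K JA JB M) {g : GL (α × β) F} (hg : g ∈ M) : Tens g.1 := by
  haveI := H.nonempty_left
  haveI := H.nonempty_right
  by_contra hnt
  obtain ⟨θ, hθ0, hθ⟩ := exists_skew K
  have hθs : θ + K.bar θ = 0 := by rw [hθ, add_neg_cancel]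
  obtain ⟨w, hw0, hw, -⟩ := H.hB.exists_iso_perp (fun i : Fin 0 => i.elim0) (by simp; omega)
  obtain ⟨y, hy0, hy, hgood⟩ := H.exists_good hex hlt h4 hR hg hnt hw hw0
  obtain ⟨x, hx, hx', -⟩ := H.exists_root_elt hw hθs
  obtain ⟨xy, hxy, hxy', hxyT⟩ := H.exists_root_elt hy hθs
  obtain ⟨X, hX⟩ : ∃ X, X = Zm K JB w (θ • (1 : Matrix α α F)) := ⟨_, rfl⟩
  obtain ⟨Y, hY⟩ : ∃ Y, Y = (g⁻¹).1 * Zm K JB y (θ • (1 : Matrix α α F)) * g.1 := ⟨_, rfl⟩
  obtain ⟨c, hc⟩ : ∃ c, c = g⁻¹ * xy * g := ⟨_, rfl⟩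
  have hcM : c ∈ M := hc ▸ M.mul_mem (M.mul_mem (M.inv_mem hg) hxy) hg
  have hcv : c.1 = 1 + Y := by
    rw [hc, Units.val_mul, Units.val_mul, hxy', Matrix.mul_add, Matrix.mul_one, Matrix.add_mul, g.inv_mul, hY]
  have hXX : X * X = 0 := by rw [hX, zm_mul K JB hw]
  have hYY : Y * Y = 0 := by
    rw [hY, Matrix.mul_assoc, Matrix.mul_assoc, ← Matrix.mul_assoc g.1, ← Matrix.mul_assoc g.1, g.mul_inv,
      Matrix.one_mul, ← Matrix.mul_assoc (Zm K JB y _), zm_mul K JB hy, Matrix.zero_mul, Matrix.mul_zero]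
  have hci : (c⁻¹).1 = 1 - Y := by
    refine left_inv_eq_right_inv (a := c.1) c.inv_mul ?_
    rw [hcv, Matrix.mul_sub, Matrix.mul_one, Matrix.add_mul, Matrix.one_mul, hYY]
    abel
  obtain ⟨e, he⟩ : ∃ e, e = c * x * c⁻¹ := ⟨_, rfl⟩
  have heM : e ∈ M := he ▸ M.mul_mem (M.mul_mem hcM hx) (M.inv_mem hcM)
  obtain ⟨Z, hZ⟩ : ∃ Z, Z = (1 + Y) * X * (1 - Y) := ⟨_, rfl⟩
  have hev : e.1 = 1 + Z := by
    rw [he, Units.val_mul, Units.val_mul, hx', ← hX, Matrix.mul_add, Matrix.mul_one, Matrix.add_mul, c.mul_inv, hZ,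
      ← hcv, ← hci]
  obtain ⟨C, hC⟩ : ∃ C, C = kr α (ph K JB y) * (g.1 * kc α w) := ⟨_, rfl⟩
  obtain ⟨D, hD⟩ : ∃ D, D = kr α (ph K JB w) * (g⁻¹).1 * kc α y := ⟨_, rfl⟩
  rw [← hC, ← hD] at hgood
  have eY : Y * kc α w = θ • ((g⁻¹).1 * kc α y * C) := by
    rw [hY, hC, Zm, Matrix.mul_smul, Matrix.mul_one]
    simp only [Matrix.mul_assoc, Matrix.smul_mul, Matrix.mul_smul]
  have eXY : X * (Y * kc α w) = (θ * θ) • (kc α w * (D * C)) := by
    rw [eY, hX, hD, Zm]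
    simp only [Matrix.mul_smul, Matrix.mul_one, Matrix.mul_assoc, Matrix.smul_mul, smul_smul]
  have eYXY : Y * (X * (Y * kc α w)) = 0 := by
    rw [eXY, Matrix.mul_smul, ← Matrix.mul_assoc, eY, Matrix.smul_mul, Matrix.mul_assoc, ← Matrix.mul_assoc C,
      hgood, Matrix.mul_zero, smul_zero, smul_zero]
  have eXw : X * kc α w = 0 := by rw [hX, zm_mul_kc, hw, zero_smul]
  have hstab : e.1 * kc α w = kc α w * (1 - (θ * θ) • (D * C)) := by
    rw [hev, hZ, Matrix.add_mul, Matrix.one_mul, Matrix.mul_assoc, Matrix.sub_mul, Matrix.one_mul,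
      Matrix.mul_assoc, Matrix.mul_sub, eXw, zero_sub, Matrix.mul_neg, Matrix.add_mul, Matrix.one_mul, eYXY,
      add_zero, eXY, Matrix.mul_sub, Matrix.mul_one, Matrix.mul_smul, sub_eq_add_neg]
  have hS := H.small_of_not_root hex hR
  have hcT := H.tens_of_conj hex hlt hR hcM hw hw0 hθ0 hx' (he ▸ H.tens_of_stab hS heM hw hw0 hstab)
  have hgT := H.tens_of_conj hex hlt hR (M.inv_mem hg) hy hy0 hθ0 hxy' (by rwa [inv_inv, ← hc])
  exact hnt (tens_inv hgT g.inv_mul H.nonempty_left H.nonempty_right)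

end Hyp

end CfsgLib.Classical.TensorUnitary
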